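import Mathlib
import Cfsg.Agent.H11.ElDefs
import Cfsg.Agent.H64.Rk

/-! Odd order groups all of whose subgroups of order `pq` are cyclic (piece EL-ZK). -/

set_option autoImplicit false
open Subgroup

namespace Cfsg.Agent.H30.ElZK

open Cfsg.Agent.H11.EL

universe u

section
variable {X : Type u} [Group X] [Finite X]

theorem zgroup (ho : Odd (Nat.card X))
    (hpq : ∀ p q : ℕ, p.Prime → q.Prime → ∀ U : Subgroup X, Nat.card U = p * q → IsCyclic U) :
    IsZGroup X := by
  refine ⟨fun p hp P => ?_⟩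
  by_contra hc
  have hodd : Odd (Nat.card (P : Subgroup X)) :=
    Odd.of_dvd_nat ho (card_subgroup_dvd_card _)
  obtain ⟨A, ⟨-, ⟨-, hA⟩, hcard⟩, -⟩ := Cfsg.Agent.H64.exists_normal_el2 hp P.2 hodd hc
  have hcy := hpq p p hp hp A (by rw [hcard, pow_two])
  obtain ⟨g, hg⟩ := IsCyclic.exists_ofOrder_eq_natCard (α := A)
  have h1 : orderOf g ∣ p := orderOf_dvd_of_pow_eq_one (Subtype.ext (by simpa using hA g.1 g.2))
  rw [hg, hcard, pow_two] at h1
  have := Nat.le_of_dvd hp.pos h1
  nlinarith [hp.two_le]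

theorem comm_of_prime
    (hpq : ∀ p q : ℕ, p.Prime → q.Prime → ∀ U : Subgroup X, Nat.card U = p * q → IsCyclic U)
    {p r : ℕ} (hp : p.Prime) (hr : r.Prime) (hpr : p ≠ r) {x k : X} (hx : orderOf x = p)
    (hk : orderOf k = r) (hn : (zpowers x).Normal) : Commute k x := by
  have hcop : (Nat.card (zpowers x)).Coprime (Nat.card (zpowers k)) := by
    rw [Nat.card_zpowers, Nat.card_zpowers, hx, hk]
    exact (Nat.coprime_primes hp hr).2 hpr
  have hinf : zpowers x ⊓ zpowers k = ⊥ := inf_eq_bot_of_coprime hcop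
  have h1 : (zpowers x).relIndex (zpowers k) = r := by
    rw [← inf_relIndex_right, hinf, relIndex_bot_left, Nat.card_zpowers, hk]
  have h2 : Nat.card (zpowers k ⊔ zpowers x : Subgroup X) = p * r := by
    rw [← relIndex_bot_left, ← relIndex_mul_relIndex ⊥ (zpowers x) _ bot_le le_sup_right,
      relIndex_bot_left, Nat.card_zpowers, hx, relIndex_sup_right, h1]
  have hc := hpq p r hp hr _ h2
  have hm1 : k ∈ zpowers k ⊔ zpowers x := mem_sup_left (mem_zpowers k)
  have hm2 : x ∈ zpowers k ⊔ zpowers x := mem_sup_right (mem_zpowers x)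
  have := (IsCyclic.commGroup (α := (zpowers k ⊔ zpowers x : Subgroup X))).mul_comm
    ⟨k, hm1⟩ ⟨x, hm2⟩
  exact congrArg Subtype.val this

theorem normal_zpowers {N : Subgroup X} [N.Normal] [IsCyclic N] {x : X} (hx : x ∈ N) :
    (zpowers x).Normal := by
  obtain ⟨g, hg⟩ := IsCyclic.exists_generator (α := N)
  have key : ∀ y ∈ N, ∃ a : ℤ, y = g.1 ^ a := fun y hy => by
    obtain ⟨a, ha⟩ := mem_zpowers_iff.1 (hg ⟨y, hy⟩)
    exact ⟨a, by simpa using (congrArg Subtype.val ha).symm⟩
  refine ⟨fun y hy c => ?_⟩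
  obtain ⟨m, rfl⟩ := mem_zpowers_iff.1 hy
  obtain ⟨a, ha⟩ := key x hx
  obtain ⟨b, hb⟩ := key (c * g.1 * c⁻¹) (Normal.conj_mem ‹_› _ g.2 c)
  refine mem_zpowers_iff.2 ⟨b * m, ?_⟩
  rw [← conj_zpow, ha, ← conj_zpow, hb, ← zpow_mul, ← zpow_mul, ← zpow_mul]
  congr 1
  ring

theorem central
    (hpq : ∀ p q : ℕ, p.Prime → q.Prime → ∀ U : Subgroup X, Nat.card U = p * q → IsCyclic U)
    [IsCyclic (commutator X)] {r : ℕ} (hr : r.Prime) (hrN : ¬ r ∣ Nat.card (commutator X))
    {k : X} (hk : orderOf k = r) (c : X) : Commute c k := by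
  have hkr : k ^ r = 1 := hk ▸ pow_orderOf_eq_one k
  have triv : ∀ x ∈ commutator X, x ^ r = 1 → x = 1 := fun x hx hxr => by
    have h1 : orderOf x ∣ r := orderOf_dvd_of_pow_eq_one hxr
    have h2 : orderOf x ∣ Nat.card (commutator X) := orderOf_dvd_natCard _ hx
    rcases (Nat.dvd_prime hr).1 h1 with h | h
    · exact orderOf_eq_one_iff.1 h
    · exact absurd (h ▸ h2) hrN
  have hcomm : ∀ x ∈ commutator X, ∀ y ∈ commutator X, Commute x y := fun x hx y hy =>
    congrArg Subtype.val ((IsCyclic.commGroup (α := commutator X)).mul_comm ⟨x, hx⟩ ⟨y, hy⟩)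
  have fix : ∀ y x : X, x ∈ commutator X → k * y * k⁻¹ = x * y → Commute k x → x = 1 := by
    intro y x hx h hkx
    have hj : ∀ j : ℕ, k ^ j * y * (k ^ j)⁻¹ = x ^ j * y := by
      intro j
      induction j with
      | zero => simp
      | succ j ih =>
        have e : k * x ^ j = x ^ j * k := (hkx.pow_right j).eq
        calc k ^ (j + 1) * y * (k ^ (j + 1))⁻¹ = k * (k ^ j * y * (k ^ j)⁻¹) * k⁻¹ := by
              rw [pow_succ']; group
          _ = (k * x ^ j) * y * k⁻¹ := by rw [ih]; group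
          _ = x ^ j * (k * y * k⁻¹) := by rw [e]; group
          _ = x ^ (j + 1) * y := by rw [h, pow_succ]; group
    have := hj r
    rw [hkr] at this
    refine triv x hx ?_
    have h3 : y = x ^ r * y := by simpa using this
    exact (mul_eq_right.1 h3.symm)
  have cenN : ∀ y ∈ commutator X, Commute k y := by
    intro y hy
    have hky : k * y * k⁻¹ ∈ commutator X := Normal.conj_mem inferInstance _ hy k
    set x0 := k * y * k⁻¹ * y⁻¹ with hx0
    have hx0N : x0 ∈ commutator X := mul_mem hky (inv_mem hy)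
    by_contra hne
    have hx1 : x0 ≠ 1 := fun h => hne (by
      have : k * y * k⁻¹ * y⁻¹ = 1 := h
      exact commutatorElement_eq_one_iff_commute.1 this)
    have ho : orderOf x0 ≠ 1 := fun h => hx1 (orderOf_eq_one_iff.1 h)
    obtain ⟨p, hp, m, hm⟩ := Nat.exists_prime_and_dvd ho
    have hpos : 0 < orderOf x0 := orderOf_pos x0
    have hm0 : m ≠ 0 := by rintro rfl; omega
    have hxo : orderOf (x0 ^ m) = p := by
      rw [orderOf_pow' _ hm0, hm, Nat.gcd_mul_left_left, Nat.mul_div_cancel _ (Nat.pos_of_ne_zero hm0)]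
    have hxN : x0 ^ m ∈ commutator X := pow_mem hx0N m
    have hpr : p ≠ r := by
      rintro rfl
      exact hrN (hxo ▸ orderOf_dvd_natCard _ hxN)
    have hc := comm_of_prime hpq hp hr hpr hxo hk (normal_zpowers hxN)
    have h1 : k * y ^ m * k⁻¹ = x0 ^ m * y ^ m := by
      rw [← (hcomm x0 hx0N y hy).mul_pow, ← conj_pow]
      congr 1
      rw [hx0]; group
    have h2 := fix _ _ hxN h1 hc
    rw [h2, orderOf_one] at hxo
    exact hp.one_lt.ne hxo
  have hn : k * c * k⁻¹ * c⁻¹ ∈ commutator X :=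
    commutator_mem_commutator (mem_top k) (mem_top c)
  have h := fix c _ hn (by group) (cenN _ hn)
  exact (commutatorElement_eq_one_iff_commute.1 h).symm

end

theorem zk : ZKStmt.{u} := by
  intro G _ _ K ho hK hpq
  have hpq' : ∀ p q : ℕ, p.Prime → q.Prime → ∀ U : Subgroup K, Nat.card U = p * q → IsCyclic U := by
    intro p q hp hq U hU
    have h1 := hpq p q hp hq (U.map K.subtype) (map_subtype_le U)
      (by rw [card_map_of_injective K.subtype_injective, hU])
    exact isCyclic_of_surjective _ (U.equivMapOfInjective _ K.subtype_injective).symm.surjective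
  have hZ := zgroup ho hpq'
  have hne : Nat.card K ≠ 1 := fun h => hK (card_eq_one.1 h)
  have hr := Nat.minFac_prime hne
  set r := (Nat.card K).minFac with hrd
  haveI := Fact.mk hr
  obtain ⟨P⟩ : Nonempty (Sylow r K) := inferInstance
  have hPc : IsCyclic P := inferInstance
  have hNC := IsCyclic.normalizer_le_centralizer hrd.symm hPc
  have hrN : ¬ r ∣ Nat.card (commutator K) := by
    intro h
    letI : CommGroup P := IsCyclic.commGroup
    exact MonoidHom.not_dvd_card_ker_transferSylow P hNC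
      (h.trans (card_dvd_of_le (Abelianization.commutator_subset_ker _)))
  haveI : IsCyclic (commutator K) := IsZGroup.isCyclic_commutator K
  refine ⟨r, (P : Subgroup K).map K.subtype, rfl, hr, ⟨map_subtype_le _, P.2.map _, ?_⟩, ?_, ?_,
    ?_, ?_⟩
  · have : ((P : Subgroup K).map K.subtype).relIndex K = (P : Subgroup K).index := by
      rw [relIndex, subgroupOf, comap_map_eq_self_of_injective K.subtype_injective]
    rw [this]
    exact P.not_dvd_index
  · intro h
    have h1 : (P : Subgroup K) = ⊥ := (map_eq_bot_iff_of_injective _ K.subtype_injective).1 h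
    have h2 := P.not_dvd_index
    rw [h1, index_bot] at h2
    exact h2 (Nat.minFac_dvd _)
  · exact isCyclic_of_surjective _
      ((P : Subgroup K).equivMapOfInjective _ K.subtype_injective).surjective
  · intro n hn hnN
    have h1 : (⟨n, hn⟩ : K) ∈ normalizer ((P : Subgroup K) : Set K) := by
      rw [mem_normalizer_iff] at hnN ⊢
      intro h
      have := hnN h.1
      rw [mem_map_iff_mem K.subtype_injective (x := h) |>.symm,
        mem_map_iff_mem K.subtype_injective (x := (⟨n, hn⟩ : K) * h * (⟨n, hn⟩ : K)⁻¹) |>.symm]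
      exact this
    have h2 := hNC h1
    rw [mem_centralizer_iff] at h2 ⊢
    rintro _ ⟨y, hy, rfl⟩
    exact congrArg Subtype.val (h2 y hy)
  · intro k hk hko c hc
    have := central hpq' hr hrN (k := ⟨k, hk⟩) (by rw [← hko]; exact (orderOf_mk _ _)) ⟨c, hc⟩
    exact congrArg Subtype.val this

end Cfsg.Agent.H30.ElZK
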