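import Cfsg.Agent.H30.LpWtL2

/-! Project LP: the orbits of `N₁` on `A''`. -/

set_option autoImplicit false
set_option maxRecDepth 100000

namespace Cfsg.Agent.H30.LpOrbA

open Cfsg Matrix Cfsg.Agent.H17.LP Cfsg.Agent.H30.LpWtL2

/-- the linear part of the element of `A''` with alternating part `a` -/
def GG (a : M5) : M5 := Matrix.of fun i j => (1 : M5) i j + if j = 4 then a i 4 else 0

theorem GG_mul (a b : M5) (x y : Fin 5) : (GG a * b) x y = b x y + a x 4 * b 4 y := by
  simp [GG, mul_apply, add_mul, Finset.sum_add_distrib, one_apply]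

theorem mul_GGT (a b : M5) (x y : Fin 5) : (b * (GG a)ᵀ) x y = b x y + b x 4 * a y 4 := by
  simp [GG, mul_apply, mul_add, Finset.sum_add_distrib, one_apply]

theorem GG_GG {a b : M5} (ha : Alt a) (hb : Alt b) :
    GG a * GG b = GG (a + GG a * b * (GG a)ᵀ) := by
  ext x y
  rw [GG_mul]
  simp only [GG, of_apply, Matrix.add_apply]
  by_cases h : y = 4
  · subst h
    have := mul_GGT a (GG a * b) x 4
    rw [GG_mul, ha.2, hb.2] at this
    simp only [GG] at this
    rw [this]
    simp [hb.2]
    ring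
  · simp [h, one_apply_ne (Ne.symm h)]

theorem GG_comm {a b : M5} (ha : Alt a) (hb : Alt b) :
    a + GG a * b * (GG a)ᵀ = b + GG b * a * (GG b)ᵀ := by
  ext x y
  simp only [Matrix.add_apply, mul_GGT, GG_mul, ha.2, hb.2, ha.symm 4 y, hb.symm 4 y]
  ring

theorem GG_det {a : M5} (ha : Alt a) : (GG a).det = 1 := by
  have e : GG a * GG a = 1 := by
    ext x y
    rw [GG_mul]
    simp only [GG, of_apply]
    by_cases h : y = 4
    · subst h
      simp [ha.2, add_assoc, two_F]
    · simp [h, one_apply_ne (Ne.symm h)]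
  have h := congrArg Matrix.det e
  rw [det_mul, det_one] at h
  have : ∀ x : F, x * x = 1 → x = 1 := by decide
  exact this _ h

/-- the coordinate description of `A''` -/
def AA : Subgroup N0 := ofSubmonoid
  { carrier := {n | n.g.1 = GG n.a}
    one_mem' := by
      show (1 : M5) = GG 0
      ext x y
      simp [GG]
    mul_mem' := fun {x y} hx hy => by
      show x.g.1 * y.g.1 = GG (x.a + x.g.1 * y.a * x.g.1ᵀ)
      rw [hx, hy, GG_GG x.alt y.alt] }

theorem mem_AA {n : N0} : n ∈ AA ↔ n.g.1 = GG n.a := Iff.rfl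

theorem AA_comm {x y : N0} (hx : x ∈ AA) (hy : y ∈ AA) : x * y = y * x := by
  have e : (x * y).a = (y * x).a := by
    rw [mul_a, mul_a, mem_AA.1 hx, mem_AA.1 hy, GG_comm x.alt y.alt]
  refine N0.ext e (Subtype.ext ?_)
  rw [mem_AA.1 (AA.mul_mem hx hy), mem_AA.1 (AA.mul_mem hy hx), e]

theorem App_le : App ≤ AA := by
  refine sup_le (fun n hn => mem_AA.2 ?_) ((Subgroup.closure_le _).2 ?_)
  · obtain ⟨h1, h2⟩ := mem_Pat.1 hn
    ext x y
    rw [h2 x y rfl]
    simp only [GG, of_apply]
    rw [h1 x 4 (by simp)]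
    simp
  · have : ∀ h ∈ [1, 2, 3, 4], (xx h 5 * zz h 5).g.1 = GG (xx h 5 * zz h 5).a := by decide +kernel
    rintro _ ⟨h, hh, rfl⟩
    exact this h hh

/-- elementary row and column operation -/
def DD (k l : Fin 5) (a : M5) : M5 := Matrix.of fun x y =>
  a x y + ((if x = k then a l y else 0) + (if y = k then a x l else 0))

theorem DD_eq {k l : Fin 5} (h : k ≠ l) {a : M5} (ha : Alt a) :
    (TT h).1 * a * (TT h).1ᵀ = DD k l a := by
  ext x y
  have := TT_apply h ⟨a, ha⟩ x y
  exact (sub_eq_iff_eq_add'.1 this :)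

theorem TT_GG {k l : Fin 5} (h : k ≠ l) (hk : k ≠ 4) (a : M5) :
    (TT h).1 * GG a = GG (DD k l a) * (TT h).1 := by
  ext x y
  rw [GG_mul]
  show ((1 + single k l 1 : M5) * GG a) x y = (1 + single k l 1 : M5) x y +
    DD k l a x 4 * (1 + single k l 1 : M5) 4 y
  rw [Matrix.add_mul, Matrix.one_mul, Matrix.add_apply]
  by_cases e : x = k
  · subst e
    rw [single_mul_apply_same]
    by_cases h : y = 4
    · subst h
      simp [GG, DD, hk, hk.symm, single_apply, one_apply]
      ring
    · simp [GG, DD, h, hk, one_apply_ne (Ne.symm h), single_apply, one_apply]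
  · rw [single_mul_apply_of_ne _ _ _ _ _ e]
    by_cases h : y = 4
    · subst h
      simp [GG, DD, hk, hk.symm, e, Ne.symm e]
    · simp [GG, DD, h, hk, one_apply_ne (Ne.symm h), Ne.symm e]

/-- the bit position of an entry -/
def pos (x y : Fin 5) : ℕ := (47162087330942789449421103360 >>> (4 * (5 * x.val + y.val))) % 16

/-- the alternating matrix with a given code -/
def dec (c : ℕ) : M5 := Matrix.of fun x y => if x = y then 0 else (((c >>> pos x y) % 2 : ℕ) : F)

/-- the code of ten bits -/
def cd (b0 b1 b2 b3 b4 b5 b6 b7 b8 b9 : F) : ℕ := b0.val + 2 * b1.val + 4 * b2.val + 8 * b3.val +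
  16 * b4.val + 32 * b5.val + 64 * b6.val + 128 * b7.val + 256 * b8.val + 512 * b9.val

/-- the code of an alternating matrix -/
def enc (a : M5) : ℕ :=
  cd (a 0 1) (a 0 2) (a 0 3) (a 0 4) (a 1 2) (a 1 3) (a 1 4) (a 2 3) (a 2 4) (a 3 4)

theorem alt_dec (c : ℕ) : Alt (dec c) := by
  have : ∀ x y, pos x y = pos y x := by decide +kernel
  refine ⟨?_, fun i => by simp [dec]⟩
  ext x y
  simp only [dec, transpose_apply, of_apply, this x y, eq_comm]

theorem cd_key : ∀ b0 b1 b2 b3 b4 b5 b6 b7 b8 b9 : F, cd b0 b1 b2 b3 b4 b5 b6 b7 b8 b9 < 1024 ∧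
    dec (cd b0 b1 b2 b3 b4 b5 b6 b7 b8 b9) = !![0, b0, b1, b2, b3; b0, 0, b4, b5, b6;
      b1, b4, 0, b7, b8; b2, b5, b7, 0, b9; b3, b6, b8, b9, 0] := by decide +kernel

theorem enc_lt (a : M5) : enc a < 1024 := (cd_key _ _ _ _ _ _ _ _ _ _).1

theorem dec_enc {a : M5} (h : Alt a) : dec (enc a) = a := by
  rw [enc, (cd_key _ _ _ _ _ _ _ _ _ _).2]
  ext x y
  have s := h.symm
  fin_cases x <;> fin_cases y <;> simp [h.2] <;> exact s _ _

theorem enc_dec : ∀ c < 1024, enc (dec c) = c := by decide +kernel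

/-- the element with a given code -/
def el (c : ℕ) : N0 := ⟨dec c, ⟨GG (dec c), GG_det (alt_dec c)⟩, alt_dec c⟩

theorem el_a (c : ℕ) : (el c).a = dec c := rfl

theorem el_mem (c : ℕ) : el c ∈ AA := rfl

theorem eq_el {n : N0} (h : n ∈ AA) : n = el (enc n.a) :=
  N0.ext (dec_enc n.alt).symm (Subtype.ext (by
    show n.g.1 = GG (dec (enc n.a))
    rw [dec_enc n.alt]; exact h))

/-- the generators -/
def gens : List (ℕ × ℕ) :=
  [(1, 2), (2, 1), (2, 3), (3, 2), (3, 4), (4, 3), (4, 5), (1, 5), (2, 5), (3, 5)]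

/-- the action of a generator on the codes -/
def sg (p : ℕ × ℕ) (c : ℕ) : ℕ := enc (DD (ix p.1) (ix p.2) (dec c))

theorem gens_ok : ∀ p ∈ gens, ix p.1 ≠ ix p.2 ∧ ix p.1 ≠ 4 ∧ xx p.1 p.2 ∈ N1 := by
  unfold N1
  decide +kernel

theorem conj_el {p : ℕ × ℕ} (hp : p ∈ gens) (c : ℕ) :
    xx p.1 p.2 * el c * (xx p.1 p.2)⁻¹ = el (sg p c) := by
  obtain ⟨h1, h2, -⟩ := gens_ok p hp
  have e : X p.1 p.2 = TT h1 := dif_neg h1
  have e2 : dec (sg p c) = DD (ix p.1) (ix p.2) (dec c) :=
    dec_enc (DD_eq h1 (alt_dec c) ▸ (alt_dec c).act _)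
  rw [mul_inv_eq_iff_eq_mul, xx, e]
  refine N0.ext ?_ (Subtype.ext ?_)
  · show 0 + (TT h1).1 * dec c * (TT h1).1ᵀ = dec (sg p c) + _ * 0 * _
    rw [DD_eq h1 (alt_dec c), e2]
    simp
  · show (TT h1).1 * GG (dec c) = GG (dec (sg p c)) * (TT h1).1
    rw [e2, TT_GG h1 h2]

/-- class and depth of each code -/
def tb : ℕ := 0x87888886878788868987878888878889868585646584858566858686878686658586658485648684668586878785866588878787888687878987878788868888878666856585878586678688868887668687878787888686888a8888878989898786888788868785888a87898889898a8687866585658686866787878788876684648785868664836584878788868565878687888887868689888787888788898687888787888785898887888886888964848686868584636585878787868564658588868786658485668788878986668788878787878787898a8888888988898887888687868886898a88898789888a8565868786878564866687888788866586658586658586848785668686878766888788898788898787878a888788898a66858685866585858686678686868766888789888887888888868a888787898988868786888787858989898b888a8a8a67868887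6686888687898768878988678788868787878686888a898b89898a8a87668788866687878888876888888867888988878988878788878a898888898a86868565868565848786668587878666898887888889888688878a898787898a86856585858685648786668686878665878688878786888689898a8b898a898a888766868887668588898667888987678787888886878787898a8a8b8889898a878886668788866588898767888987668464648384858583868485866584856564848463858484848685858565858564868687858687878587868687888687888785868687868686878586868887878787858786868586848788878887898889868786868586858586888787878988886585658486858684858786878566866685658564858685858687868686668665868887868586868487858687888787898786868786858585878686868887878885858684836363828785868664838464868485856383836287858686648484638785878587868785868887888889878986868686868786868788878788898888868687856484648386888787846585658587868684648463868887878565856486878685858584838584868686868788858587868484858485858685868688878685858486868584858586868685878785848685858586858685878686868786848384838383838243252444254342268584858484848483254342262642412784848584848484832644254542264327858686858585858442264327412740286463838285848382848386858483656484836362848384838584858485846463858484836362828185848685838264638483858483826261858486858483636283828382838282812324444543442425848384838483838243442425424325268382828182818180444545462223232463626261626161602223232421222000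

/-- the class of a code -/
def cl (c : ℕ) : ℕ := (tb >>> (8 * c + 5)) % 8

/-- the distance from the representative -/
def dp (c : ℕ) : ℕ := (tb >>> (8 * c)) % 32

/-- the representatives -/
def rp (k : ℕ) : ℕ := [0, 1, 129, 8, 24].getD k 0

theorem chk : ((List.range 1024).all fun c => (gens.all fun p => Nat.beq (cl (sg p c)) (cl c)) &&
    (Nat.beq c (rp (cl c)) || gens.any fun p => Nat.blt (dp (sg p c)) (dp c)) &&
    Nat.blt (cl c) 5) = true := by decide +kernel

theorem chk' {c : ℕ} (hc : c < 1024) : (∀ p ∈ gens, cl (sg p c) = cl c) ∧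
    (c = rp (cl c) ∨ ∃ p ∈ gens, dp (sg p c) < dp c) ∧ cl c < 5 := by
  have := List.all_eq_true.1 chk c (List.mem_range.2 hc)
  simpa only [Bool.and_eq_true, Bool.or_eq_true, List.all_eq_true, List.any_eq_true,
    Nat.beq_eq, Nat.blt_eq, and_assoc] using this

theorem trans_el (d : ℕ) : ∀ c < 1024, dp c = d → ∃ g ∈ N1, el c = g * el (rp (cl c)) * g⁻¹ := by
  induction d using Nat.strong_induction_on with
  | _ d ih =>
    intro c hc hd
    obtain ⟨h1, h2 | ⟨p, hp, h2⟩, -⟩ := chk' hc
    · exact ⟨1, N1.one_mem, by rw [← h2]; simp⟩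
    · obtain ⟨g, hg, e⟩ := ih _ (hd ▸ h2) (sg p c) (enc_lt _) rfl
      rw [h1 p hp, ← conj_el hp] at e
      refine ⟨(xx p.1 p.2)⁻¹ * g, N1.mul_mem (N1.inv_mem (gens_ok p hp).2.2) hg, ?_⟩
      calc el c = (xx p.1 p.2)⁻¹ * (xx p.1 p.2 * el c * (xx p.1 p.2)⁻¹) * xx p.1 p.2 := by group
        _ = _ := by rw [e]; group

/-- the elements preserving the classes -/
def SS : Subgroup N0 := ofSubmonoid
  { carrier := {g | ∀ c < 1024, ∃ d < 1024, cl d = cl c ∧ g * el c * g⁻¹ = el d}
    one_mem' := fun c hc => ⟨c, hc, rfl, by simp⟩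
    mul_mem' := fun {x y} hx hy c hc => by
      obtain ⟨d, hd, e1, e2⟩ := hy c hc
      obtain ⟨f, hf, e3, e4⟩ := hx d hd
      exact ⟨f, hf, e3.trans e1, by rw [← e4, ← e2]; group⟩ }

theorem xx_mem {p : ℕ × ℕ} (hp : p ∈ gens) : xx p.1 p.2 ∈ SS := fun c hc =>
  ⟨sg p c, enc_lt _, (chk' hc).1 p hp, conj_el hp c⟩

theorem AA_le : AA ≤ SS := fun n hn c hc =>
  ⟨c, hc, rfl, by rw [AA_comm hn (el_mem c), mul_inv_cancel_right]⟩

theorem N1_le (hG : GenStmt) : N1 ≤ SS := by
  rw [hG.2.2.2.2.1]
  refine sup_le ?_ ((Subgroup.closure_le _).2 ?_)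
  · have hA : A0 ≤ T0 := fun n hn => mem_Pat.2
      ⟨fun _ _ h => absurd h (by simp), fun i j _ => (mem_Pat.1 hn).2 i j rfl⟩
    unfold A0 at hA ⊢
    rw [hG.1 _ _ _ hA]
    refine (Subgroup.closure_le _).2 ?_
    have k : ∀ i ∈ [1, 2, 3, 4, 5], ∀ j ∈ [1, 2, 3, 4, 5], (zz i j).g.1 = GG (zz i j).a ∨
        ∃ p ∈ gens, (xx p.1 p.2 * zz i j).g.1 = GG (xx p.1 p.2 * zz i j).a := by decide +kernel
    rintro _ ⟨i, hi, j, hj, -, ⟨-, -, rfl⟩ | ⟨h, -⟩⟩
    · rcases k i hi j hj with e | ⟨p, hp, e⟩
      · exact AA_le e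
      · exact (SS.mul_mem_cancel_left (xx_mem hp)).1 (AA_le e)
    · exact absurd h (by simp)
  · intro n hn
    simp only [Set.mem_insert_iff, Set.mem_singleton_iff] at hn
    rcases hn with rfl | rfl | rfl | rfl | rfl | rfl | rfl
    · exact xx_mem (p := (1, 2)) (by decide)
    · exact xx_mem (p := (2, 1)) (by decide)
    · exact xx_mem (p := (2, 3)) (by decide)
    · exact xx_mem (p := (3, 2)) (by decide)
    · exact xx_mem (p := (3, 4)) (by decide)
    · exact xx_mem (p := (4, 3)) (by decide)
    · exact xx_mem (p := (4, 5)) (by decide)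

theorem orb_card' (hG : GenStmt) {k : ℕ} (h1 : rp k < 1024) (h2 : cl (rp k) = k) {l : List ℕ}
    (hn : l.Nodup) (hl : ∀ c, c ∈ l ↔ c < 1024 ∧ cl c = k) :
    {n | ∃ g ∈ N1, n = g * el (rp k) * g⁻¹}.ncard = l.length := by
  have e : {n | ∃ g ∈ N1, n = g * el (rp k) * g⁻¹} = el '' (l.toFinset : Set ℕ) := by
    ext n
    constructor
    · rintro ⟨g, hg, e0⟩
      obtain ⟨d, hd, e1, e2⟩ := N1_le hG hg _ h1
      exact ⟨d, Finset.mem_coe.2 (List.mem_toFinset.2 ((hl d).2 ⟨hd, e1.trans h2⟩)),
        e2.symm.trans e0.symm⟩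
    · rintro ⟨c, hc, e0⟩
      obtain ⟨h3, h4⟩ := (hl c).1 (List.mem_toFinset.1 (Finset.mem_coe.1 hc))
      obtain ⟨g, hg, e1⟩ := trans_el _ c h3 rfl
      rw [h4] at e1
      exact ⟨g, hg, e0.symm.trans e1⟩
  have hi : Set.InjOn el (l.toFinset : Set ℕ) := by
    intro c hc d hd h
    have h3 := ((hl c).1 (List.mem_toFinset.1 (Finset.mem_coe.1 hc))).1
    have h4 := ((hl d).1 (List.mem_toFinset.1 (Finset.mem_coe.1 hd))).1
    have h6 : dec c = dec d := (el_a c).symm.trans ((congrArg N0.a h).trans (el_a d))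
    have h5 : enc (dec c) = enc (dec d) := congrArg enc h6
    rwa [enc_dec c h3, enc_dec d h4] at h5
  rw [e, hi.ncard_image, Set.ncard_coe_finset, List.toFinset_card_of_nodup hn]

theorem orb_card (hG : GenStmt) {k : ℕ} (h1 : rp k < 1024) (h2 : cl (rp k) = k) :
    {n | ∃ g ∈ N1, n = g * el (rp k) * g⁻¹}.ncard =
      ((List.range 1024).filter fun c => Nat.beq (cl c) k).length :=
  orb_card' hG h1 h2 (List.nodup_range.filter _) fun c => by
    rw [List.mem_filter, List.mem_range, Nat.beq_eq]

theorem reps : el (rp 0) = 1 ∧ el (rp 1) = zz 1 2 ∧ el (rp 2) = zz 1 2 * zz 3 4 ∧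
    el (rp 3) = xx 1 5 * zz 1 5 ∧ el (rp 4) = xx 1 5 * zz 1 5 * zz 2 3 := by decide +kernel

theorem orbA (hG : GenStmt) : OrbAStmt := by
  obtain ⟨r0, r1, r2, r3, r4⟩ := reps
  refine ⟨fun n hn => ?_, ?_, ?_, ?_⟩
  · have hc := enc_lt n.a
    obtain ⟨g, hg, e⟩ := trans_el _ _ hc rfl
    rw [← eq_el (App_le hn)] at e
    have h5 := (chk' hc).2.2
    generalize cl (enc n.a) = k at e h5
    interval_cases k
    · left
      rw [e, r0]; simp
    · exact Or.inr ⟨_, by simp, g, hg, r1 ▸ e⟩
    · exact Or.inr ⟨_, by simp, g, hg, r2 ▸ e⟩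
    · exact Or.inr ⟨_, by simp, g, hg, r3 ▸ e⟩
    · exact Or.inr ⟨_, by simp, g, hg, r4 ▸ e⟩
  · rw [← r1, orb_card hG (by decide) (by decide +kernel)]
    decide +kernel
  · rw [← r3, orb_card hG (by decide) (by decide +kernel)]
    decide +kernel
  · rw [← r4, orb_card hG (by decide) (by decide +kernel)]
    decide +kernel

end Cfsg.Agent.H30.LpOrbA
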