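import Cfsg.Agent.H17.KnDefs
import Cfsg.Agent.H62.ElemAb
import Cfsg.Agent.H3.Cores

/-! From the hypothesis on the normaliser of the group of order 16 to coordinates. -/

set_option autoImplicit false

namespace Cfsg.Agent.H30.KnSet

open Equiv Subgroup Cfsg.Agent.H11.A16 Cfsg.Agent.H63 Cfsg.Agent.H17.Kn

universe u

theorem iso16 {E F : Type*} [Group E] [Group F] [Finite E] [Finite F] (c : IsMulCommutative E)
    (p : ∀ x : E, x ^ 2 = 1) (c' : IsMulCommutative F) (p' : ∀ x : F, x ^ 2 = 1)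
    (h : Nat.card E = Nat.card F) : Nonempty (E ≃* F) := by
  obtain ⟨d, hd, ⟨e⟩⟩ := H62.exists_coord_elemAb c p
  obtain ⟨d', hd', ⟨e'⟩⟩ := H62.exists_coord_elemAb c' p'
  obtain rfl : d = d' := Nat.pow_right_injective le_rfl (by
    show 2 ^ d = 2 ^ d'
    rw [← hd, ← hd', h])
  exact ⟨e.symm.trans e'⟩

theorem card_gl : Nat.card (GL (Fin 4) (ZMod 2)) = 20160 := by
  rw [Matrix.card_GL_field]
  simp [Fin.prod_univ_four]

theorem reg (h1 : Mod1) : Function.Bijective fun a : AA => pm2 a.1 (0, 0) := by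
  refine (Nat.bijective_iff_injective_and_card _).2 ⟨fun a b e => ?_, ?_⟩
  · have e1 : a.1.σ 0 = b.1.σ 0 := congrArg Prod.fst e
    have e2 : 0 + a.1.f 0 = 0 + b.1.f 0 := congrArg Prod.snd e
    refine Subtype.ext (N2.ext (Equiv.ext fun p => ?_) (funext fun p => ?_))
    · exact (a.2.1 p).trans (e1 ▸ (b.2.1 p).symm)
    · exact (a.2.2 p).trans ((add_left_cancel e2).trans (b.2.2 p).symm)
  · rw [h1.cAA]; simp [Ω]

theorem hol (h1 : Mod1) (h2 : Mod2) (ha : Af) {H : Type u} [Group H] [Finite H]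
    (E K : Subgroup H) [hn : E.Normal] (he : IsElementaryAbelian 2 E) (c16 : Nat.card E = 16)
    (cE : C[E] = E) (i : E ⊓ K = ⊥) (s : E ⊔ K = ⊤) (k : K ≃* GL (Fin 4) (ZMod 2)) :
    ∃ θ : H →* Perm Ω, Function.Injective θ ∧ θ.range = Aff := by
  obtain ⟨ι⟩ : Nonempty (E ≃* AA) := iso16 he.1 (fun a => Subtype.ext (he.2 a a.2))
    ⟨⟨fun a b => Subtype.ext (h2.ab.2.2.1 a a.2 b b.2).eq⟩⟩
    (fun a => Subtype.ext (by
      show a.1 ^ 2 = 1
      rw [sq]; exact h2.ab.2.2.2.2.2.1 a a.2)) (c16.trans h1.cAA.symm)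
  have dec : ∀ g : H, ∃ e ∈ E, ∃ k ∈ K, e * k = g := fun g =>
    mem_sup_of_normal_left.1 (s ▸ mem_top g)
  have b1 : Function.Bijective fun e : E => (e.1 : H ⧸ K) := by
    refine ⟨fun a b e => ?_, fun y => ?_⟩
    · have m : a.1⁻¹ * b.1 ∈ E ⊓ K := ⟨E.mul_mem (E.inv_mem a.2) b.2, QuotientGroup.eq.1 e⟩
      rw [i, mem_bot, inv_mul_eq_one] at m
      exact Subtype.ext m
    · obtain ⟨g, rfl⟩ := QuotientGroup.mk_surjective y
      obtain ⟨e, he, k, hk, rfl⟩ := dec g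
      exact ⟨⟨e, he⟩, QuotientGroup.eq.2 (by simpa using hk)⟩
  let β : H ⧸ K ≃ Ω := (Equiv.ofBijective _ b1).symm.trans
    (ι.toEquiv.trans (Equiv.ofBijective _ (reg h1)))
  have hβ : ∀ e : E, β (e.1 : H ⧸ K) = pm2 (ι e).1 (0, 0) := fun e => by
    have : (Equiv.ofBijective _ b1).symm (e.1 : H ⧸ K) = e :=
      (Equiv.ofBijective _ b1).symm_apply_apply e
    show Equiv.ofBijective _ (reg h1) (ι ((Equiv.ofBijective _ b1).symm _)) = _
    rw [this]; rfl
  let θ : H →* Perm Ω := β.permCongrHom.toMonoidHom.comp (MulAction.toPermHom H (H ⧸ K))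
  have hθ : ∀ g y, θ g (β y) = β (g • y) := fun g y => by
    show β (g • β.symm (β y)) = _
    rw [β.symm_apply_apply]
  have θE : ∀ e : E, θ e = pm2 (ι e).1 := fun e => Equiv.ext fun ω => by
    obtain ⟨y, rfl⟩ := β.surjective ω
    obtain ⟨e', rfl⟩ := b1.2 y
    rw [hθ]
    show β ((e * e' : E).1 : H ⧸ K) = pm2 (ι e).1 (β (e'.1 : H ⧸ K))
    rw [hβ, hβ, map_mul, coe_mul, map_mul]; rfl
  have kE : ∀ e ∈ E, θ e = 1 → e = 1 := fun e he h => by
    have := (θE ⟨e, he⟩).symm.trans (h.trans (map_one pm2).symm)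
    exact congrArg Subtype.val (ι.map_eq_one_iff.1 (Subtype.ext (pm2_inj this)))
  have inj : Function.Injective θ := (injective_iff_map_eq_one θ).2 fun g hg => by
    refine kE g (cE ▸ mem_centralizer_iff.2 fun e he => ?_) hg
    have := kE (g * e * g⁻¹ * e⁻¹) (mul_mem (hn.conj_mem e he g) (inv_mem he)) (by simp [hg])
    rw [mul_inv_eq_one, mul_inv_eq_iff_eq_mul] at this
    exact this.symm
  have mE : E.map θ = AA.map pm2 := by
    refine le_antisymm ?_ ?_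
    · rintro _ ⟨e, he, rfl⟩
      exact ⟨_, (ι ⟨e, he⟩).2, (θE ⟨e, he⟩).symm⟩
    · rintro _ ⟨a, ha, rfl⟩
      obtain ⟨e, h⟩ := ι.surjective ⟨a, ha⟩
      exact ⟨e, e.2, (θE e).trans (by rw [h])⟩
  refine ⟨θ, inj, eq_of_le_of_card_ge ?_ ?_⟩
  · rintro _ ⟨g, rfl⟩
    rw [Aff, ← mE]
    exact le_normalizer_map θ ⟨g, by rw [normalizer_eq_top]; exact mem_top g, rfl⟩
  · have : Nat.card H = 16 * 20160 := by
      rw [← c16, ← card_gl, ← Nat.card_congr k.toEquiv, mul_comm, Nat.card_congr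
        (Equiv.ofBijective _ b1), mul_comm, ← card_eq_card_quotient_mul_card_subgroup]
    rw [ha.card, ← Nat.card_congr (MonoidHom.ofInjective inj).toEquiv, this]

theorem set (hB : Base.{u}) : SetStmt.{u} := by
  classical
  rintro G _ _ A hA c16 - ⟨E, K, hn, he, cE16, cE, i, s, ⟨k⟩⟩
  obtain ⟨θ, inj, hr⟩ := hol hB.m1 hB.m2 hB.af E K he cE16 cE i s k
  let ρ : N[A] →* Perm Ω := θ.comp (QuotientGroup.mk' _)
  have ker : ∀ g, ρ g = 1 → Odd (orderOf g) := fun g h =>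
    Nat.coprime_two_right.1 ((H3.pPrimeCore_coprime 2 _).coprime_dvd_left (orderOf_dvd_natCard _
      ((QuotientGroup.eq_one_iff g).1 ((injective_iff_map_eq_one θ).1 inj _ h))))
  have rr : ρ.range = Aff := by
    rw [← hr, MonoidHom.range_comp, MonoidHom.range_eq_top.2 (QuotientGroup.mk'_surjective _),
      ← MonoidHom.range_eq_map]
  have mem : ∀ g, ρ g ∈ Aff := fun g => rr ▸ ⟨g, rfl⟩
  have sur : Function.Surjective (ρ.codRestrict Aff mem) := fun m => by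
    obtain ⟨g, hg⟩ := rr.ge m.2
    exact ⟨g, Subtype.ext hg⟩
  have T2 : IsPGroup 2 T0 := hB.m1.two.to_le inf_le_right
  obtain ⟨Q, hQ⟩ := ((T2.map pm2).comap_of_injective Aff.subtype
    Aff.subtype_injective).exists_le_sylow
  obtain ⟨S, rfl⟩ := Sylow.mapSurjective_surjective sur 2 Q
  have injS : ∀ a ∈ S, ∀ b ∈ S, ρ a = ρ b → a = b := fun a ha b hb e => by
    have := hB.gen.one S (a⁻¹ * b) S.isPGroup' (mul_mem (inv_mem ha) hb) (ker _ (by simp [e]))
    exact inv_mul_eq_one.1 this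
  have ex : ∀ t : N2, ∃ g : N[A], t ∈ T0 → g ∈ S ∧ ρ g = pm2 t := fun t => by
    by_cases ht : t ∈ T0
    · obtain ⟨g, hg, e⟩ := hQ (x := ⟨pm2 t, hB.af.qk t ht.1⟩) ⟨t, ht, rfl⟩
      exact ⟨g, fun _ => ⟨hg, congrArg Subtype.val e⟩⟩
    · exact ⟨1, fun a => absurd a ht⟩
  choose J hJ using ex
  have A2 : IsPGroup 2 A := IsPGroup.of_card (n := 4) c16
  have A2' : IsPGroup 2 (A.subgroupOf N[A]) := A2.comap_of_injective _ (subtype_injective _)
  have AS : A.subgroupOf N[A] ≤ S := A2'.le_sylow_of_normal S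
  have AA2 : IsPGroup 2 (AA.map pm2) := (T2.to_le AA_le_T0).map pm2
  have nA : Aff ≤ N[(A.subgroupOf N[A]).map ρ] := by
    rw [← rr]
    rintro _ ⟨g, rfl⟩
    exact le_normalizer_map ρ ⟨g, (normalizer_eq_top _).ge (mem_top g), rfl⟩
  have nA' : Aff ≤ N[AA.map pm2] := le_rfl
  have l1 : AA.map pm2 ≤ Aff := le_normalizer
  have l2 : (A.subgroupOf N[A]).map ρ ≤ Aff := rr ▸ map_le_range _ _
  have le : (A.subgroupOf N[A]).map ρ ≤ AA.map pm2 := by
    rcases hB.af.nsub (AA.map pm2 ⊔ (A.subgroupOf N[A]).map ρ) le_sup_left (sup_le l1 l2)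
      ((le_inf nA' nA).trans (normalizer_inf_normalizer_le_normalizer_sup ..)) with h | h
    · exact le_sup_right.trans h.le
    · have := AA2.to_sup_of_normal_right' (A2'.map ρ) (l1.trans nA)
      rw [h] at this
      obtain ⟨n, hn⟩ := IsPGroup.iff_card.1 this
      rw [hB.af.card] at hn
      have h3 : 3 ∣ 2 ^ n := hn ▸ by norm_num
      exact absurd (Nat.prime_three.dvd_of_dvd_pow h3) (by norm_num)
  have eq : (A.subgroupOf N[A]).map ρ = AA.map pm2 := by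
    refine eq_of_le_of_card_ge le ?_
    rw [card_map_of_injective pm2_inj, hB.m1.cAA, ← c16,
      ← Nat.card_congr (subgroupOfEquivOfLe (le_normalizer (H := A))).toEquiv]
    exact Nat.card_le_card_of_injective
      (fun a : A.subgroupOf N[A] => (⟨ρ a, a, a.2, rfl⟩ : (A.subgroupOf N[A]).map ρ))
      fun a b e => Subtype.ext (injS _ (AS a.2) _ (AS b.2) (congrArg Subtype.val e))
  have imA : im (fun t => (J t : G)) AA = A := by
    refine le_antisymm (im_le fun a ha => ?_) fun a ha => ?_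
    · obtain ⟨b, hb, e⟩ : pm2 a ∈ (A.subgroupOf N[A]).map ρ := eq ▸ ⟨a, ha, rfl⟩
      have := hJ a (AA_le_T0 ha)
      rw [injS _ this.1 _ (AS hb) (this.2.trans e.symm)]
      exact hb
    · obtain ⟨b, hb, e⟩ := le ⟨⟨a, le_normalizer ha⟩, ha, rfl⟩
      have := hJ b (AA_le_T0 hb)
      have e' := congrArg Subtype.val (injS _ this.1 ⟨a, le_normalizer ha⟩ (AS ha) (this.2.trans e))
      exact (show (J b : G) = a from e') ▸ mem_im (J := fun t => (J t : G)) hb
  have nE : NA (fun t => (J t : G)) = N[A] := by rw [NA, imA]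
  refine ⟨fun t => J t, fun g => if h : g ∈ N[A] then ρ ⟨g, h⟩ else 1, ⟨fun u hu v hv => ?_,
    fun u hu v hv e => ?_⟩, fun g hg h hh => ?_, fun t ht => ?_, fun g hg => ?_,
    fun m hm => ?_, fun g hg h => ?_⟩
  · refine congrArg Subtype.val (injS _ (hJ _ (mul_mem hu hv)).1 (J u * J v)
      (mul_mem (hJ u hu).1 (hJ v hv).1) ?_)
    rw [map_mul, (hJ _ (mul_mem hu hv)).2, (hJ u hu).2, (hJ v hv).2, map_mul]
  · exact pm2_inj (by rw [← (hJ u hu).2, ← (hJ v hv).2, Subtype.ext e])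
  · rw [dif_pos (nE.le hg), dif_pos (nE.le hh), dif_pos (nE.le (mul_mem hg hh)), ← map_mul]; rfl
  · rw [dif_pos (J t).2]; exact (hJ t ht).2
  · rw [dif_pos (nE.le hg)]; exact mem _
  · obtain ⟨g, e⟩ := rr.ge hm
    exact ⟨g, nE.ge g.2, by rw [dif_pos g.2]; exact e⟩
  · rw [dif_pos (nE.le hg)] at h
    have := ker _ h
    rwa [← orderOf_coe] at this

end Cfsg.Agent.H30.KnSet
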