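import Cfsg.Agent.H17.KnDef2

/-! The group of order `2 ^ 14` is a Sylow subgroup. -/

set_option autoImplicit false

namespace Cfsg.Agent.H30.KnSy1

open Equiv Subgroup Cfsg.Agent.H11.A16 Cfsg.Agent.H63 Cfsg.Agent.H17.Kn
open Cfsg.Agent.H89.Rec (Syl)

universe u

theorem zp_add (a b : ZMod 2) : zp (a + b) = zp a * zp b :=
  N2.ext rfl (funext fun _ => add_comm a b)

theorem zp_comm (u : N2) (a : ZMod 2) : u * zp a = zp a * u :=
  N2.ext ((mul_one _).trans (one_mul _).symm) (funext fun _ => add_comm _ _)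

theorem cen_im {G : Type u} [Group G] {J : N2 → G} {X : Subgroup N2} {g : G}
    (h : ∀ u ∈ X, R J g u u) : g ∈ C[im J X] :=
  mem_centralizer_iff.2 fun _ ha => mem_centralizer_singleton_iff.1
    (im_le (K := C1[g]) (fun u hu => mem_centralizer_singleton_iff.2
      (mul_inv_eq_iff_eq_mul.1 (h u hu)).symm) ha)

theorem sy1 (hB : Base.{u}) (ha : Au1Stmt) (h1 : Pb1Stmt.{u}) : Sy1Stmt.{u} := by
  intro G _ _ J φ s st hE
  by_contra hn
  obtain ⟨-, -, -, lAQ, -, lEA, lAT, l01, l1S, -⟩ := hB.m2.le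
  have lES : EE ≤ SE := lEA.trans (lAT.trans l1S)
  have lAS : AA ≤ SE := AA_le_T0.trans (l01.trans l1S)
  have lPE : AP ≤ EE := hB.m2.le.1
  have S2g : IsPGroup 2 (im J SE) := st.emS.two (hB.m1.two.to_le inf_le_left)
  obtain ⟨S, S2, lS, -, n, nS, nn, nN⟩ := hB.gen.up _ ⊤ S2g le_top hn
  obtain ⟨α, au, hα⟩ := st.emS.au nN
  obtain ⟨c, hc, cE, cP, cA⟩ := ha α au
  have act : ∀ u ∈ SE, R J (J c * n) u (c * α u * c⁻¹) := fun u hu =>
    (hα u hu).trans (st.emS.self hc (au.mem u hu))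
  have gS : J c * n ∈ S := mul_mem (lS (mem_im hc)) nS
  refine nn ((mul_mem_cancel_left (mem_im hc)).1 ?_)
  rcases cA with cA | cA
  · refine im_mono lAS ((hB.kit J φ st.toKi).cA2 S S2 ((im_mono lAS).trans lS) _ gS
      (cen_im fun a a1 => ?_))
    have := act a (lAS a1)
    rwa [cA a a1] at this
  obtain ⟨β, hβ⟩ : ∃ β : N2 → N2, β = fun u => c * α u * c⁻¹ := ⟨_, rfl⟩
  have bm : ∀ u ∈ SE, ∀ v ∈ SE, β (u * v) = β u * β v := fun u hu v hv => by
    simp only [hβ]; rw [au.mul u hu v hv]; group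
  have bE : ∀ e ∈ EE, β e ∈ EE := hβ ▸ cE
  have bP : ∀ b ∈ AP, β b = b := hβ ▸ cP
  have bA : ∀ a ∈ AA, β a = dl 0 * a * (dl 0)⁻¹ := hβ ▸ cA
  have d0 : dl 0 ∈ PP := rfl
  have key : ∀ e ∈ EE, β e = e * zp ((e⁻¹ * β e).f 0) := fun e he => by
    have m : e⁻¹ * β e ∈ PP := mul_mem (inv_mem he.1) (bE e he).1
    have : e⁻¹ * β e = 1 ∨ e⁻¹ * β e = H17.Kn.z2 := hB.m3.cPA _ m fun a a1 => by
      have p : ∀ e ∈ EE, a * e * a⁻¹ * e⁻¹ ∈ PP := fun e he =>
        mul_mem ((hB.m2.nrm a).1 e he.1) (inv_mem he.1)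
      have k : a * e * a⁻¹ * e⁻¹ ∈ AP := by
        refine ⟨?_, p e he⟩
        have := ((hB.m2.nrm e).2.2.2.2.1 (lAT (lEA he)).1).1 a⁻¹ (lAQ (inv_mem a1))
        rw [mul_assoc, mul_assoc, ← mul_assoc e]
        exact mul_mem (lAQ a1).2 this.2
      have e1 : β (a * e * a⁻¹ * e⁻¹) * β e * β a = β a * β e := by
        rw [← bm _ (lES (lPE k)) _ (lES he), ← bm _ (mul_mem (lES (lPE k)) (lES he)) _ (lAS a1),
          ← bm _ (lAS a1) _ (lES he)]
        congr 1; group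
      rw [bP _ k, bA a a1] at e1
      have c1 := (hB.m2.ab.1 _ d0 _ (bE e he).1).eq
      have c2 := (hB.m2.ab.1 _ d0 _ (p e he)).eq
      have e2 : a * e * a⁻¹ * e⁻¹ * β e * a = a * β e := by
        refine mul_left_cancel (a := dl 0) (mul_right_cancel (b := (dl 0)⁻¹) ?_)
        calc _ = (dl 0 * (a * e * a⁻¹ * e⁻¹)) * β e * a * (dl 0)⁻¹ := by group
          _ = a * e * a⁻¹ * e⁻¹ * (dl 0 * β e) * a * (dl 0)⁻¹ := by rw [c2]; group
          _ = a * e * a⁻¹ * e⁻¹ * β e * (dl 0 * a * (dl 0)⁻¹) := by rw [c1]; group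
          _ = dl 0 * a * (dl 0)⁻¹ * (β e * dl 0) * (dl 0)⁻¹ := by rw [e1]; group
          _ = _ := by rw [← c1]; group
      have c3 := (hB.m2.ab.1 _ he.1 _ (bE e he).1).eq
      show e⁻¹ * β e * a = a * (e⁻¹ * β e)
      calc _ = a * e⁻¹ * a⁻¹ * (a * e * a⁻¹ * e⁻¹ * β e * a) := by
            have := (hB.m2.ab.1 _ (inv_mem he.1) _ ((hB.m2.nrm a).1 _ (inv_mem he.1))).eq
            calc _ = (a * e⁻¹ * a⁻¹) * (a * e⁻¹ * a⁻¹)⁻¹ * e⁻¹ * β e * a := by group
              _ = _ := by group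
        _ = _ := by rw [e2]; group
    rcases this with h | h
    · rw [h, ← mul_inv_cancel_left e (β e), h]; rfl
    · rw [h, ← mul_inv_cancel_left e (β e), h]; rfl
  obtain ⟨l, hl⟩ := hB.m3.chs (fun e => (e⁻¹ * β e).f 0) (fun e he e' he' => by
    rw [bm e (lES he) e' (lES he')]
    generalize hx : (e⁻¹ * β e).f 0 = a
    generalize hy : (e'⁻¹ * β e').f 0 = b
    rw [key e he, key e' he', hx, hy]
    have : (e * e')⁻¹ * (e * zp a * (e' * zp b)) = zp (a + b) := by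
      rw [zp_add, mul_assoc e, ← mul_assoc (zp a), ← zp_comm e']; group
    rw [this]; rfl) fun b hb => by
      simp only [bP b hb, inv_mul_cancel]; rfl
  have act' : ∀ e ∈ EE, R J (J c * n) e (e * zp (ch l e)) := fun e he => by
    rw [← hl e he, ← key e he, hβ]; exact act e (lES he)
  have z := h1 J φ st.toE0 _ l act'
  have cen : J c * n ∈ C[im J EE] := cen_im fun e he => by
    have := act' e he
    rwa [z e he, show zp 0 = 1 from rfl, mul_one] at this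
  obtain ⟨k, hk⟩ := S2 ⟨_, gS⟩
  exact im_mono lES (hE.mem_of_nrm cen (centralizer_le_normalizer _ cen) (congrArg Subtype.val hk))

end Cfsg.Agent.H30.KnSy1
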