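import Cfsg.Agent.H76.OrePoly
import Cfsg.Agent.H31.HermSU

/-!
Commutators in `SU_n(q)`: definitions, statements of the pieces and a small kit.
The field carries a non-trivial `star`; `Nᴴ` is the conjugate transpose.
-/

set_option autoImplicit false

namespace Cfsg.Agent.H30.OU

open Matrix Polynomial

universe u

section
variable {F : Type u} [Field F] [StarRing F] {ι : Type} [Fintype ι] [DecidableEq ι]

/-- `N` fixes no non-zero sesquilinear form -/
def FP (N : Matrix ι ι F) : Prop := ∀ S : Matrix ι ι F, N * S * Nᴴ = S → S = 0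

/-- `M = E N⁻¹ E⁻¹ N` or (characteristic two) `M = E Nᴴ E⁻¹ N`, with `E`, `N` of determinant one
and `N` fixed point free -/
def Good (M : Matrix ι ι F) : Prop :=
  ∃ E E' N N' : Matrix ι ι F, E * E' = 1 ∧ E.det = 1 ∧ N.det = 1 ∧ FP N ∧
    (N' * N = 1 ∨ ((2 : F) = 0 ∧ N' = Nᴴ)) ∧ M = E * N' * E' * N

omit [StarRing F] in
/-- `M` satisfies an irreducible quadratic polynomial -/
def Quad (M : Matrix ι ι F) : Prop :=
  ∃ t δ : F, M * M = t • M + δ • 1 ∧ ∀ c : F, c * c ≠ t * c + δ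

end

/-- `q ≥ 3` -/
def FactStmt : Prop :=
  ∀ (F : Type u) [Field F] [Fintype F] [StarRing F], (∃ a : F, star a ≠ a) → Fintype.card F ≠ 4 →
    ∀ m : ℕ, 2 ≤ m → ∀ M : Matrix (Fin m) (Fin m) F, M.det = 1 → (∀ c : F, M ≠ c • 1) → Good M

/-- `q = 2`, `m = 2, 3` -/
def SmallStmt : Prop :=
  ∀ (F : Type u) [Field F] [Fintype F] [StarRing F], (∃ a : F, star a ≠ a) → Fintype.card F = 4 →
    ∀ m : ℕ, m = 2 ∨ m = 3 → ∀ M : Matrix (Fin m) (Fin m) F, M.det = 1 → (∀ c : F, M ≠ c • 1) →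
      Good M

/-- `q = 2`, `m ≥ 4` -/
def BigStmt : Prop :=
  ∀ (F : Type u) [Field F] [Fintype F] [StarRing F], (∃ a : F, star a ≠ a) → Fintype.card F = 4 →
    ∀ m : ℕ, 4 ≤ m → ∀ M : Matrix (Fin m) (Fin m) F, M.det = 1 → (∀ c : F, M ≠ c • 1) →
      ¬ Quad M → Good M

/-- scalars -/
def ScalStmt : Prop :=
  ∀ (F : Type u) [Field F] [Fintype F] [StarRing F], (∃ a : F, star a ≠ a) →
    ∀ (n : ℕ) (c : F), c ^ n = 1 → c * star c = 1 → 1 ≤ n →
      ∃ A B : Matrix (Fin n) (Fin n) F, Aᴴ * A = 1 ∧ Bᴴ * B = 1 ∧ A.det = 1 ∧ B.det = 1 ∧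
        A * B = c • (B * A)

section Kit
variable {F : Type u} [Field F] [StarRing F] {ι : Type} [Fintype ι] [DecidableEq ι]

theorem isInvol (h : ∃ a : F, star a ≠ a) : H31.IsInvol (starRingEnd F) :=
  ⟨fun a => star_star a, h⟩

/-- `star` is `x ↦ x ^ q` -/
theorem exists_q [Fintype F] (h : ∃ a : F, star a ≠ a) :
    ∃ q : ℕ, Fintype.card F = q ^ 2 ∧ ∀ x : F, star x = x ^ q :=
  (isInvol h).exists_q

/-- polynomial criterion: `p(N) = 0`, `p'((Nᴴ)⁻¹) = 0` with `p`, `p'` coprime -/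
theorem fp_of_coprime {N N' : Matrix ι ι F} {p p' : F[X]} (hc : IsCoprime p p')
    (h1 : Nᴴ * N' = 1) (h2 : aeval N p = 0) (h3 : aeval N' p' = 0) : FP N := by
  intro S hS
  have e : N * S = S * N' := by
    rw [← hS, Matrix.mul_assoc (N * S), h1, Matrix.mul_one, hS]
  have e2 : ∀ k : ℕ, N ^ k * S = S * N' ^ k := fun k => by
    induction k with
    | zero => simp
    | succ k ih => rw [pow_succ', Matrix.mul_assoc, ih, ← Matrix.mul_assoc, e, Matrix.mul_assoc,
        ← pow_succ']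
  have e3 : ∀ a : F[X], aeval N a * S = S * aeval N' a := fun a => by
    rw [aeval_eq_sum_range, aeval_eq_sum_range, Finset.sum_mul, Finset.mul_sum]
    exact Finset.sum_congr rfl fun k _ => by rw [Matrix.smul_mul, Matrix.mul_smul, e2]
  obtain ⟨a, b, hab⟩ := hc
  have e4 := e3 (a * p)
  have e5 : aeval N' (a * p) = 1 := by
    have := congrArg (aeval N') hab
    rwa [map_add, map_mul _ b, h3, mul_zero, add_zero, map_one] at this
  rw [e5, map_mul, h2, mul_zero, Matrix.zero_mul, Matrix.mul_one] at e4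
  exact e4.symm

theorem FP.conj {N P P' : Matrix ι ι F} (h : FP N) (hP : P * P' = 1) : FP (P * N * P') := by
  intro S hS
  have hP' : P' * P = 1 := mul_eq_one_comm.1 hP
  have a1 : P'ᴴ * Pᴴ = 1 := by rw [← conjTranspose_mul, hP, conjTranspose_one]
  have a2 : Pᴴ * P'ᴴ = 1 := by rw [← conjTranspose_mul, hP', conjTranspose_one]
  have := h (P' * S * P'ᴴ) (by
    calc N * (P' * S * P'ᴴ) * Nᴴ = (P' * P) * N * P' * S * P'ᴴ * Nᴴ * (Pᴴ * P'ᴴ) := by
          rw [hP', a2]; simp only [Matrix.mul_assoc, Matrix.one_mul, Matrix.mul_one]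
      _ = P' * (P * N * P' * S * (P * N * P')ᴴ) * P'ᴴ := by
          simp only [conjTranspose_mul, Matrix.mul_assoc]
      _ = _ := by rw [hS])
  calc S = (P * P') * S * (P'ᴴ * Pᴴ) := by rw [hP, a1, Matrix.one_mul, Matrix.mul_one]
    _ = P * (P' * S * P'ᴴ) * Pᴴ := by simp only [Matrix.mul_assoc]
    _ = 0 := by rw [this, Matrix.mul_zero, Matrix.zero_mul]

omit [DecidableEq ι] in
theorem FP.conjTranspose {N : Matrix ι ι F} (h : FP N) : FP Nᴴ := by
  intro T hT
  rw [conjTranspose_conjTranspose] at hT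
  let φ : Matrix ι ι F →ₗ[F] Matrix ι ι F :=
    { toFun := fun S => N * S * Nᴴ - S
      map_add' := fun a b => by simp only [Matrix.mul_add, Matrix.add_mul]; abel
      map_smul' := fun c a => by simp only [Matrix.mul_smul, Matrix.smul_mul, RingHom.id_apply,
        smul_sub] }
  have hi : Function.Injective φ := (injective_iff_map_eq_zero φ).2 fun S hS =>
    h S (sub_eq_zero.1 hS)
  have hs := LinearMap.injective_iff_surjective.1 hi
  refine Matrix.ext_iff_trace_mul_right.2 fun X => ?_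
  obtain ⟨S, rfl⟩ := hs X
  change (T * (N * S * Nᴴ - S)).trace = _
  rw [Matrix.zero_mul, trace_zero, Matrix.mul_sub, trace_sub, ← Matrix.mul_assoc,
    trace_mul_comm, ← Matrix.mul_assoc, ← Matrix.mul_assoc, hT, sub_self]

theorem FP.inv {N N' : Matrix ι ι F} (h : FP N) (hN : N' * N = 1) : FP N' := by
  intro S hS
  have h1 : N * N' = 1 := mul_eq_one_comm.1 hN
  have h2 : N'ᴴ * Nᴴ = 1 := by rw [← conjTranspose_mul, h1, conjTranspose_one]
  refine h S ?_
  calc N * S * Nᴴ = N * (N' * S * N'ᴴ) * Nᴴ := by rw [hS]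
    _ = (N * N') * S * (N'ᴴ * Nᴴ) := by simp only [Matrix.mul_assoc]
    _ = S := by rw [h1, h2, Matrix.one_mul, Matrix.mul_one]

/-- `Good` is invariant under conjugation, when all norms are `1` (`q = 2`) -/
theorem Good.conj (hn : ∀ a : F, a ≠ 0 → a * star a = 1) {M P P' : Matrix ι ι F} (h : Good M)
    (hP : P * P' = 1) : Good (P * M * P') := by
  obtain ⟨E, E', N, N', h1, h2, h3, h4, h5, rfl⟩ := h
  have hP' : P' * P = 1 := mul_eq_one_comm.1 hP
  have hd : P.det * P'.det = 1 := by rw [← det_mul, hP, det_one]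
  have hN : (P * N * P').det = 1 := by
    rw [det_mul, det_mul, h3, mul_one, hd]
  have c : ∀ X : Matrix ι ι F, P' * (P * X) = X := fun X => by
    rw [← Matrix.mul_assoc, hP', Matrix.one_mul]
  rcases h5 with h5 | ⟨h5, rfl⟩
  · refine ⟨P * E * P', P * E' * P', P * N * P', P * N' * P', ?_, ?_, hN, h4.conj hP, Or.inl ?_, ?_⟩
    · simp only [Matrix.mul_assoc, c]
      rw [← Matrix.mul_assoc E, h1, Matrix.one_mul, hP]
    · rw [det_mul, det_mul, h2, mul_one, hd]
    · simp only [Matrix.mul_assoc, c]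
      rw [← Matrix.mul_assoc N', h5, Matrix.one_mul, hP]
    · simp only [Matrix.mul_assoc, c]
  · have a2 : Pᴴ * P'ᴴ = 1 := by rw [← conjTranspose_mul, hP', conjTranspose_one]
    have c' : ∀ X : Matrix ι ι F, Pᴴ * (P'ᴴ * X) = X := fun X => by
      rw [← Matrix.mul_assoc, a2, Matrix.one_mul]
    refine ⟨P * E * Pᴴ, P'ᴴ * E' * P', P * N * P', _, ?_, ?_, hN, h4.conj hP, Or.inr ⟨h5, rfl⟩, ?_⟩
    · simp only [Matrix.mul_assoc, c']
      rw [← Matrix.mul_assoc E, h1, Matrix.one_mul, hP]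
    · rw [det_mul, det_mul, h2, mul_one, det_conjTranspose]
      exact hn _ (left_ne_zero_of_mul_eq_one hd)
    · simp only [conjTranspose_mul, Matrix.mul_assoc, c, c']

/-- every non-degenerate Hermitian matrix is a Gram matrix -/
theorem exists_gram [Finite F] (h : ∃ a : F, star a ≠ a) {J : Matrix ι ι F} (hJ : Jᴴ = J)
    (hd : J.det ≠ 0) : ∃ P : Matrix ι ι F, Pᴴ * P = J := by
  let B : (ι → F) →ₛₗ[starRingEnd F] (ι → F) →ₗ[F] F :=
    (H31.stdB (starRingEnd F) ι).compl₂ (Matrix.toLin' J)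
  have hB : ∀ x y, B x y = star x ⬝ᵥ J *ᵥ y := fun x y => rfl
  have hH : H31.IsHerm B := by
    refine ⟨⟨isInvol h, fun x y => ?_⟩, fun x hx => ?_⟩
    · rw [hB, hB, starRingEnd_apply, ← star_dotProduct_star, star_star, star_mulVec, hJ,
        dotProduct_mulVec]
    · have : star x ᵥ* J = 0 := by
        funext j
        have := hx (Pi.single j 1)
        rwa [hB, dotProduct_mulVec, dotProduct_single, mul_one] at this
      have h2 := Matrix.eq_zero_of_vecMul_eq_zero hd this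
      exact star_eq_zero.1 h2
  obtain ⟨e, he⟩ := hH.exists_isometry (H31.isHerm_stdB (isInvol h) ι) rfl
  refine ⟨LinearMap.toMatrix' e.toLinearMap, ?_⟩
  ext i j
  have := he (Pi.single i 1) (Pi.single j 1)
  rw [hB, H31.stdB_apply] at this
  rw [Matrix.mul_apply]
  simp only [conjTranspose_apply, LinearMap.toMatrix'_apply]
  convert this using 1
  · refine Finset.sum_congr rfl fun k _ => ?_
    simp [starRingEnd_apply]
  · simp [Pi.star_single]

end Kit

theorem eqns : True := by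
  have := @FP.eq_1.{0}
  have := @Good.eq_1.{0}
  have := @Quad.eq_1.{0}
  have := @FactStmt.eq_1.{0}
  have := @SmallStmt.eq_1.{0}
  have := @BigStmt.eq_1.{0}
  have := @ScalStmt.eq_1.{0}
  trivial

end Cfsg.Agent.H30.OU
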