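import Mathlib

set_option autoImplicit false
open Matrix

namespace Cfsg.Agent.H30.Herm

def PD {n : ℕ} (A : Matrix (Fin n) (Fin n) ℤ) : Prop := ∀ x : Fin n → ℤ, x ≠ 0 → 0 < x ⬝ᵥ A *ᵥ x

def sch {n : ℕ} (G : Matrix (Fin (n+1)) (Fin (n+1)) ℤ) : Matrix (Fin n) (Fin n) ℤ :=
  fun i j => G 0 0 * G i.succ j.succ - G 0 i.succ * G 0 j.succ

def blk {n : ℕ} (r : Fin n → ℤ) (V : Matrix (Fin n) (Fin n) ℤ) :
    Matrix (Fin (n+1)) (Fin (n+1)) ℤ :=
  Matrix.of (Fin.cons (Fin.cons 1 r) fun i => Fin.cons 0 (V i))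

theorem det_blk {n : ℕ} (r : Fin n → ℤ) (V : Matrix (Fin n) (Fin n) ℤ) :
    (blk r V).det = V.det := by
  rw [Matrix.det_succ_column_zero, Fin.sum_univ_succ]
  have : (blk r V).submatrix (Fin.succAbove 0) Fin.succ = V := by
    ext i j; simp [blk]
  rw [this]
  simp [blk]

theorem sym {n : ℕ} {G : Matrix (Fin n) (Fin n) ℤ} (hs : Gᵀ = G) (i j : Fin n) : G i j = G j i := by
  conv_lhs => rw [← hs]
  rfl

theorem det_sch {n : ℕ} (G : Matrix (Fin (n+1)) (Fin (n+1)) ℤ) (hs : Gᵀ = G) :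
    G 0 0 * (sch G).det = G 0 0 ^ n * G.det := by
  have h1 : (G * blk (fun j => - G 0 j.succ) (G 0 0 • (1 : Matrix (Fin n) (Fin n) ℤ))).det
      = G.det * G 0 0 ^ n := by
    rw [det_mul, det_blk, det_smul, det_one, Fintype.card_fin, mul_one]
  rw [Matrix.det_succ_row_zero, Fin.sum_univ_succ] at h1
  have h0 : ∀ (i : Fin (n+1)) (j : Fin n),
      (G * blk (fun j => - G 0 j.succ) (G 0 0 • (1 : Matrix (Fin n) (Fin n) ℤ))) i j.succ
        = G 0 0 * G i j.succ - G i 0 * G 0 j.succ := by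
    intro i j
    simp only [Matrix.mul_apply, Fin.sum_univ_succ, blk, Matrix.of_apply, Fin.cons_zero,
      Fin.cons_succ, Matrix.smul_apply, Matrix.one_apply, smul_eq_mul, mul_ite, mul_one, mul_zero,
      Finset.sum_ite_eq', Finset.mem_univ, if_true]
    ring
  have h2 : (G * blk (fun j => - G 0 j.succ) (G 0 0 • (1 : Matrix (Fin n) (Fin n) ℤ))).submatrix
      Fin.succ (Fin.succAbove 0) = sch G := by
    ext i j
    simp only [submatrix_apply, Fin.succAbove_zero, h0, sch]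
    rw [sym hs i.succ 0]
  have h3 : (G * blk (fun j => - G 0 j.succ) (G 0 0 • (1 : Matrix (Fin n) (Fin n) ℤ))) 0 0
      = G 0 0 := by
    simp [Matrix.mul_apply, Fin.sum_univ_succ, blk]
  rw [h2, h3] at h1
  simp only [h0, sub_self, mul_zero, zero_mul, Finset.sum_const_zero] at h1
  simp at h1
  rw [h1]; ring

theorem bil {n : ℕ} (G : Matrix (Fin (n+1)) (Fin (n+1)) ℤ) (hs : Gᵀ = G) (t s : ℤ)
    (y z : Fin n → ℤ) :
    G 0 0 * ((Fin.cons t y : Fin (n+1) → ℤ) ⬝ᵥ G *ᵥ (Fin.cons s z : Fin (n+1) → ℤ))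
      = (G 0 0 * t + ∑ i, G 0 i.succ * y i) * (G 0 0 * s + ∑ i, G 0 i.succ * z i)
        + y ⬝ᵥ sch G *ᵥ z := by
  have e : y ⬝ᵥ sch G *ᵥ z = G 0 0 * (∑ i, y i * ∑ j, G i.succ j.succ * z j)
      - (∑ i, G 0 i.succ * y i) * (∑ j, G 0 j.succ * z j) := by
    rw [Finset.sum_mul_sum]
    simp only [dotProduct, mulVec, sch, Finset.mul_sum, ← Finset.sum_sub_distrib]
    refine Finset.sum_congr rfl fun i _ => Finset.sum_congr rfl fun j _ => by ring
  have e2 : ∑ i, y i * (G i.succ 0 * s) = s * ∑ i, G 0 i.succ * y i := by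
    rw [Finset.mul_sum]
    refine Finset.sum_congr rfl fun i _ => by rw [sym hs i.succ 0]; ring
  rw [e]
  simp only [dotProduct, mulVec, Fin.sum_univ_succ, Fin.cons_zero, Fin.cons_succ, mul_add,
    Finset.sum_add_distrib, e2]
  ring

theorem sch_sym {n : ℕ} (G : Matrix (Fin (n+1)) (Fin (n+1)) ℤ) (hs : Gᵀ = G) :
    (sch G)ᵀ = sch G := by
  ext i j; simp only [transpose_apply, sch]; rw [sym hs j.succ i.succ]; ring

theorem pos00 {n : ℕ} (G : Matrix (Fin (n+1)) (Fin (n+1)) ℤ) (hp : PD G) : 0 < G 0 0 := by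
  have := hp (Pi.single 0 1) (by simp)
  simpa using this

theorem sch_pd {n : ℕ} (G : Matrix (Fin (n+1)) (Fin (n+1)) ℤ) (hs : Gᵀ = G) (hp : PD G) :
    PD (sch G) := by
  intro y hy
  have hm := pos00 G hp
  set c := ∑ i, G 0 i.succ * y i with hc
  have h1 := bil G hs (-c) (-c) (G 0 0 • y) (G 0 0 • y)
  have h2 : ∑ i, G 0 i.succ * (G 0 0 • y) i = G 0 0 * c := by
    rw [hc, Finset.mul_sum]
    refine Finset.sum_congr rfl fun i _ => by simp; ring
  have h3 := hp (Fin.cons (-c) (G 0 0 • y)) (by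
    intro h
    apply hy
    funext i
    have := congrFun h i.succ
    simpa [hm.ne'] using this)
  rw [h2, mulVec_smul, smul_dotProduct, dotProduct_smul] at h1
  simp only [smul_eq_mul] at h1
  by_contra hle
  push Not at hle
  nlinarith [mul_pos hm h3, mul_pos hm hm]

theorem ent {n : ℕ} (G U : Matrix (Fin n) (Fin n) ℤ) (i j : Fin n) :
    (Uᵀ * G * U) i j = (fun k => U k i) ⬝ᵥ G *ᵥ (fun k => U k j) := by
  simp only [Matrix.mul_apply, dotProduct, mulVec, transpose_apply, Finset.mul_sum, Finset.sum_mul]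
  rw [Finset.sum_comm]
  refine Finset.sum_congr rfl fun a _ => Finset.sum_congr rfl fun b _ => by ring

theorem tr_sym {n : ℕ} (G U : Matrix (Fin n) (Fin n) ℤ) (hs : Gᵀ = G) :
    (Uᵀ * G * U)ᵀ = Uᵀ * G * U := by
  simp [transpose_mul, hs, Matrix.mul_assoc]

theorem tr_det {n : ℕ} (G U : Matrix (Fin n) (Fin n) ℤ) (hU : IsUnit U.det) :
    (Uᵀ * G * U).det = G.det := by
  rw [det_mul, det_mul, det_transpose]
  rcases Int.isUnit_iff.mp hU with h | h <;> rw [h] <;> ring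

theorem tr_pd {n : ℕ} (G U : Matrix (Fin n) (Fin n) ℤ) (hU : IsUnit U.det) (hp : PD G) :
    PD (Uᵀ * G * U) := by
  intro x hx
  have h := hp (U *ᵥ x) (fun h => hx (Matrix.eq_zero_of_mulVec_eq_zero hU.ne_zero h))
  rw [← mulVec_mulVec, ← mulVec_mulVec, dotProduct_mulVec, vecMul_transpose]
  exact h

theorem col_blk {n : ℕ} (r : Fin n → ℤ) (V : Matrix (Fin n) (Fin n) ℤ) (j : Fin n) :
    (fun k => blk r V k j.succ) = Fin.cons (r j) (fun i => V i j) := by
  funext k; refine Fin.cases ?_ (fun k => ?_) k <;> simp [blk]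

theorem col_blk0 {n : ℕ} (r : Fin n → ℤ) (V : Matrix (Fin n) (Fin n) ℤ) :
    (fun k => blk r V k 0) = Fin.cons 1 (0 : Fin n → ℤ) := by
  funext k; refine Fin.cases ?_ (fun k => ?_) k <;> simp [blk]

/-- Hermite's inequality. -/
theorem herm : ∀ (n : ℕ) (G : Matrix (Fin (n+1)) (Fin (n+1)) ℤ), Gᵀ = G → PD G →
    ∃ U : Matrix (Fin (n+1)) (Fin (n+1)) ℤ, IsUnit U.det ∧
      3 ^ ((n+1).choose 2) * ((Uᵀ * G * U) 0 0) ^ (n+1) ≤ 4 ^ ((n+1).choose 2) * G.det := by
  intro n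
  induction n with
  | zero => intro G _ _; exact ⟨1, by simp, by simp⟩
  | succ n ih =>
    intro G hs hp
    classical
    have hex : ∃ m : ℕ, ∃ U : Matrix (Fin (n+2)) (Fin (n+2)) ℤ, IsUnit U.det ∧
        (Uᵀ * G * U) 0 0 = m :=
      ⟨(G 0 0).toNat, 1, by simp, by have := pos00 G hp; simp; omega⟩
    obtain ⟨U, hU, hm⟩ := Nat.find_spec hex
    refine ⟨U, hU, ?_⟩
    set H := Uᵀ * G * U with hH
    have Hs : Hᵀ = H := tr_sym G U hs
    have Hp : PD H := tr_pd G U hU hp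
    have Hd : H.det = G.det := tr_det G U hU
    have hmin : ∀ W : Matrix (Fin (n+2)) (Fin (n+2)) ℤ, IsUnit W.det →
        H 0 0 ≤ (Wᵀ * H * W) 0 0 := by
      intro W hW
      have hpos := pos00 _ (tr_pd H W hW Hp)
      have := Nat.find_min' hex (m := ((Wᵀ * H * W) 0 0).toNat)
        ⟨U * W, by rw [det_mul]; exact hU.mul hW, by
          rw [Int.toNat_of_nonneg hpos.le, hH]; simp [transpose_mul, Matrix.mul_assoc]⟩
      omega
    obtain ⟨V, hV, hb⟩ := ih (sch H) (sch_sym H Hs) (sch_pd H Hs Hp)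
    have m0 := pos00 H Hp
    set m := H 0 0 with hmm
    set c := ∑ i, H 0 i.succ * V i 0 with hc
    obtain ⟨t, ht⟩ : ∃ t : ℤ, 4 * (m * t + c) ^ 2 ≤ m ^ 2 := by
      refine ⟨-((2 * c + m) / (2 * m)), ?_⟩
      have a1 := Int.emod_nonneg (2 * c + m) (show 2 * m ≠ 0 by omega)
      have a2 := Int.emod_lt_of_pos (2 * c + m) (show 0 < 2 * m by omega)
      have a3 := Int.mul_ediv_add_emod (2 * c + m) (2 * m)
      nlinarith
    have h1 := hmin ((blk (fun _ => t) V).submatrix id (Equiv.swap 0 (Fin.succ 0))) (by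
      rw [det_permute', det_blk]
      exact (Units.isUnit _).mul hV)
    rw [ent] at h1
    simp only [submatrix_apply, id, Equiv.swap_apply_left] at h1
    rw [col_blk] at h1
    have h2 := bil H Hs t t (fun i => V i 0) (fun i => V i 0)
    rw [← ent (sch H) V 0 0, ← hc, ← hmm] at h2
    set s := (Vᵀ * sch H * V) 0 0 with hs'
    have h3 : 3 * m ^ 2 ≤ 4 * s := by nlinarith [mul_le_mul_of_nonneg_left h1 m0.le]
    have h4 : (3 * m ^ 2) ^ (n+1) ≤ (4 * s) ^ (n+1) := pow_le_pow_left₀ (by positivity) h3 _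
    have h5 := det_sch H Hs
    rw [← hmm, Hd] at h5
    have hch : (n+1+1).choose 2 = (n+1) + (n+1).choose 2 := by
      rw [Nat.choose_succ_succ' (n+1) 1]; simp
    rw [hch]
    have hpos : 0 < m ^ (n+1) := by positivity
    refine le_of_mul_le_mul_left ?_ hpos
    calc m ^ (n+1) * (3 ^ ((n+1) + (n+1).choose 2) * m ^ (n+1+1))
        = m * (3 ^ ((n+1).choose 2) * (3 * m ^ 2) ^ (n+1)) := by ring
      _ ≤ m * (3 ^ ((n+1).choose 2) * (4 * s) ^ (n+1)) := by gcongr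
      _ = m * (4 ^ (n+1) * (3 ^ ((n+1).choose 2) * s ^ (n+1))) := by ring
      _ ≤ m * (4 ^ (n+1) * (4 ^ ((n+1).choose 2) * (sch H).det)) := by gcongr
      _ = 4 ^ ((n+1) + (n+1).choose 2) * (m * (sch H).det) := by ring
      _ = _ := by rw [h5]; ring

theorem uni : ∀ (n : ℕ), n ≤ 5 → ∀ (A : Matrix (Fin n) (Fin n) ℤ), Aᵀ = A →
    (∀ x : Fin n → ℤ, x ≠ 0 → 0 < x ⬝ᵥ A *ᵥ x) → A.det = 1 →
    ∃ U : Matrix (Fin n) (Fin n) ℤ, IsUnit U.det ∧ Uᵀ * A * U = 1 := by
  intro n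
  induction n with
  | zero => intro _ A _ _ _; exact ⟨1, by simp, Subsingleton.elim _ _⟩
  | succ n ih =>
    intro hn A hs hp hd
    obtain ⟨U, hU, hb⟩ := herm n A hs hp
    set H := Uᵀ * A * U with hH
    have Hs : Hᵀ = H := tr_sym A U hs
    have Hp : PD H := tr_pd A U hU hp
    have Hd : H.det = 1 := (tr_det A U hU).trans hd
    have m0 := pos00 H Hp
    have m1 : H 0 0 = 1 := by
      by_contra hne
      have h2 : (2 : ℤ) ^ (n+1) ≤ H 0 0 ^ (n+1) := pow_le_pow_left₀ (by norm_num) (by omega) _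
      rw [hd] at hb
      generalize H 0 0 ^ (n+1) = w at hb h2
      have : n ≤ 4 := by omega
      interval_cases n <;> norm_num [Nat.choose] at hb h2 <;> omega
    have h5 := det_sch H Hs
    rw [m1, Hd] at h5
    obtain ⟨V, hV, hVe⟩ := ih (by omega) (sch H) (sch_sym H Hs) (sch_pd H Hs Hp) (by simpa using h5)
    refine ⟨U * blk (fun j => - ∑ i, H 0 i.succ * V i j) V, ?_, ?_⟩
    · rw [det_mul, det_blk]; exact hU.mul hV
    · have : (U * blk (fun j => - ∑ i, H 0 i.succ * V i j) V)ᵀ * A *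
          (U * blk (fun j => - ∑ i, H 0 i.succ * V i j) V)
          = (blk (fun j => - ∑ i, H 0 i.succ * V i j) V)ᵀ * H *
            blk (fun j => - ∑ i, H 0 i.succ * V i j) V := by
        rw [hH]; simp [transpose_mul, Matrix.mul_assoc]
      rw [this]
      ext i j
      rw [ent]
      have hb := bil H Hs
      simp only [m1, one_mul] at hb
      refine Fin.cases ?_ (fun i => ?_) i <;> refine Fin.cases ?_ (fun j => ?_) j
      · rw [col_blk0, hb]; simp
      · rw [col_blk0, col_blk, hb]; simp [Matrix.one_apply, (Fin.succ_ne_zero j).symm]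
      · rw [col_blk0, col_blk, hb]; simp [Matrix.one_apply]
      · rw [col_blk, col_blk, hb, ← ent, hVe]; simp [Matrix.one_apply]

end Cfsg.Agent.H30.Herm
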