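import Mathlib
import Cfsg.Agent.H28.EloG
import Cfsg.Agent.H30.OrthSpinor
import Cfsg.Agent.H31.FieldInv

/-!
Quadratic spaces of prescribed type with isometries of prescribed order (characteristic two).
-/

set_option autoImplicit false

namespace Cfsg.Agent.H30.Spec8

open QuadraticMap Module H28

universe u

/-- A non-degenerate quadratic space of dimension `2 m` and type `ε`. -/
structure QS (F : Type u) [Field F] [Fintype F] (ε : ℤ) (m : ℕ) where
  /-- the space -/
  V : Type u
  [i1 : AddCommGroup V]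
  [i2 : Module F V]
  [i3 : FiniteDimensional F V]
  /-- the form -/
  Q : QuadraticForm F V
  nd : (polarBilin Q).Nondegenerate
  dim : finrank F V = 2 * m
  sgn : gau Q = (ε : ℂ) * (Fintype.card F : ℂ) ^ m

attribute [instance] QS.i1 QS.i2 QS.i3

variable {F : Type u} [Field F]

section Prod

variable {V W : Type*} [AddCommGroup V] [Module F V] [AddCommGroup W] [Module F W]
  {Q : QuadraticForm F V} {Q' : QuadraticForm F W}

theorem nd_prod (h : (polarBilin Q).Nondegenerate) (h' : (polarBilin Q').Nondegenerate) :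
    (polarBilin (Q.prod Q')).Nondegenerate := by
  refine nondegenerate_of_forall fun x hx => Prod.ext ?_ ?_
  · refine eq_zero_of_polar h fun y => ?_
    simpa [polar_prod] using hx (y, 0)
  · refine eq_zero_of_polar h' fun y => ?_
    simpa [polar_prod] using hx (0, y)

/-- the orthogonal sum of isometries -/
def prodO (Q : QuadraticForm F V) (Q' : QuadraticForm F W) : O Q × O Q' →* O (Q.prod Q') where
  toFun g := ⟨g.1.1.prodCongr g.2.1, fun v => by
    simp [QuadraticMap.prod_apply, O_map]⟩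
  map_one' := O_ext fun _ => rfl
  map_mul' _ _ := O_ext fun _ => rfl

theorem prodO_apply (g : O Q × O Q') (v : V × W) :
    (prodO Q Q' g).1 v = (g.1.1 v.1, g.2.1 v.2) := rfl

theorem prodO_injective : Function.Injective (prodO Q Q') := by
  intro g h e
  refine Prod.ext (O_ext fun v => ?_) (O_ext fun w => ?_)
  · exact congrArg Prod.fst (congrArg (fun k : O (Q.prod Q') => k.1 (v, 0)) e)
  · exact congrArg Prod.snd (congrArg (fun k : O (Q.prod Q') => k.1 (0, w)) e)

theorem orderOf_prodO (g : O Q) (h : O Q') :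
    orderOf (prodO Q Q' (g, h)) = Nat.lcm (orderOf g) (orderOf h) := by
  rw [orderOf_injective _ prodO_injective, Prod.orderOf_mk]

variable [FiniteDimensional F V] [FiniteDimensional F W]

theorem dickson_prodO_right (h : (polarBilin Q).Nondegenerate)
    (h' : (polarBilin Q').Nondegenerate) (g : O Q') :
    dickson (nd_prod h h') (prodO Q Q' (1, g)) = dickson h' g := by
  have : movSp (prodO Q Q' (1, g)) = (movSp g).map (LinearMap.inr F V W) := by
    ext y
    rw [mem_movSp]
    constructor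
    · rintro ⟨x, rfl⟩
      exact ⟨g.1 x.2 - x.2, mem_movSp.2 ⟨x.2, rfl⟩, Prod.ext (sub_self x.1).symm rfl⟩
    · rintro ⟨_, hy, rfl⟩
      obtain ⟨x, rfl⟩ := mem_movSp.1 hy
      exact ⟨(0, x), Prod.ext (sub_self _) rfl⟩
  rw [dickson_apply, dickson_apply, this]
  congr 1
  exact (Submodule.equivMapOfInjective _ LinearMap.inr_injective _).finrank_eq.symm

omit [FiniteDimensional F W] in
theorem dickson_of_odd (h : (polarBilin Q).Nondegenerate) {g : O Q} (hg : Odd (orderOf g)) :
    dickson h g = 1 := by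
  have h1 : dickson h g ^ orderOf g = 1 := by rw [← map_pow, pow_orderOf_eq_one, map_one]
  rcases Int.units_eq_one_or (dickson h g) with h2 | h2
  · exact h2
  · rw [h2, hg.neg_one_pow] at h1
    exact absurd h1 (by decide)

end Prod

variable [Fintype F] {ε ε' : ℤ} {m m' N N' : ℕ}

/-- the orthogonal sum -/
def QS.prod (A : QS F ε m) (B : QS F ε' m') : QS F (ε * ε') (m + m') where
  V := A.V × B.V
  Q := A.Q.prod B.Q
  nd := nd_prod A.nd B.nd
  dim := by rw [finrank_prod, A.dim, B.dim]; ring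
  sgn := by rw [gau_prod, A.sgn, B.sgn]; push_cast; ring

variable (F) in
/-- semisimple elements -/
def RT (ε : ℤ) (m N : ℕ) : Prop :=
  ∃ (A : QS F ε m) (g : O A.Q), Odd (orderOf g) ∧ N ∣ orderOf g

variable (F) in
/-- arbitrary isometries -/
def R1 (ε : ℤ) (m N : ℕ) : Prop := ∃ (A : QS F ε m) (g : O A.Q), N ∣ orderOf g

variable (F) in
/-- affine isometries with linear part of Dickson invariant one -/
def R2 (ε : ℤ) (m N : ℕ) : Prop := ∃ (A : QS F ε m) (g : O A.Q) (v : A.V), dickson A.nd g = 1 ∧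
  ∀ k, g ^ k = 1 → ∑ i ∈ Finset.range k, (g ^ i).1 v = 0 → N ∣ k

theorem RT.mono (h : RT F ε m N) (h' : N' ∣ N) : RT F ε m N' := by
  obtain ⟨A, g, h1, h2⟩ := h
  exact ⟨A, g, h1, h'.trans h2⟩

theorem RT.prod (h : RT F ε m N) (h' : RT F ε' m' N') :
    RT F (ε * ε') (m + m') (Nat.lcm N N') := by
  obtain ⟨A, g, h1, h2⟩ := h
  obtain ⟨B, k, h3, h4⟩ := h'
  have e : orderOf (prodO A.Q B.Q (g, k)) = Nat.lcm (orderOf g) (orderOf k) := orderOf_prodO g k
  refine ⟨A.prod B, prodO A.Q B.Q (g, k), ?_, ?_⟩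
  · exact e ▸ (h1.mul h3).of_dvd_nat (Nat.lcm_dvd_mul _ _)
  · exact e ▸ Nat.lcm_dvd (h2.trans (Nat.dvd_lcm_left _ _)) (h4.trans (Nat.dvd_lcm_right _ _))

theorem RT.r1 (h : RT F ε m N) : R1 F ε m N := by
  obtain ⟨A, g, -, h2⟩ := h
  exact ⟨A, g, h2⟩

theorem RT.r2 (h : RT F ε m N) : R2 F ε m N := by
  obtain ⟨A, g, h1, h2⟩ := h
  exact ⟨A, g, 0, dickson_of_odd _ h1, fun k hk _ => h2.trans (orderOf_dvd_of_pow_eq_one hk)⟩

theorem RT.prod1 (h : RT F ε m N) (h' : R1 F ε' m' N') :
    R1 F (ε * ε') (m + m') (Nat.lcm N N') := by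
  obtain ⟨A, g, -, h2⟩ := h
  obtain ⟨B, k, h4⟩ := h'
  have e : orderOf (prodO A.Q B.Q (g, k)) = Nat.lcm (orderOf g) (orderOf k) := orderOf_prodO g k
  exact ⟨A.prod B, prodO A.Q B.Q (g, k),
    e ▸ Nat.lcm_dvd (h2.trans (Nat.dvd_lcm_left _ _)) (h4.trans (Nat.dvd_lcm_right _ _))⟩

theorem RT.prod2 (h : RT F ε m N) (h' : R2 F ε' m' N') :
    R2 F (ε * ε') (m + m') (Nat.lcm N N') := by
  obtain ⟨A, g, h1, h2⟩ := h
  obtain ⟨B, k, v, h3, h4⟩ := h'
  refine ⟨A.prod B, prodO A.Q B.Q (g, k), ((0 : A.V), v), ?_, fun j hj hs => ?_⟩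
  · have e : prodO A.Q B.Q (g, k) = prodO A.Q B.Q (g, 1) * prodO A.Q B.Q (1, k) := by
      rw [← map_mul]; simp
    change dickson (nd_prod A.nd B.nd) (prodO A.Q B.Q (g, k)) = 1
    rw [e, map_mul, dickson_prodO_right A.nd B.nd, h3, mul_one]
    refine dickson_of_odd _ ?_
    rw [orderOf_prodO]; simpa using h1
  · have hj' : (g, k) ^ j = 1 := prodO_injective (by rw [map_pow, map_one]; exact hj)
    have hs' : ∑ i ∈ Finset.range j, ((prodO A.Q B.Q (g, k)) ^ i).1 ((0 : A.V), v) = 0 := hs
    refine Nat.lcm_dvd (h2.trans (orderOf_dvd_of_pow_eq_one (congrArg Prod.fst hj'))) ?_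
    refine h4 j (congrArg Prod.snd hj') ?_
    have := congrArg Prod.snd hs'
    rw [Prod.snd_sum] at this
    simp only [← map_pow, prodO_apply] at this
    exact this

theorem RT.cast (h : RT F ε m N) (h1 : ε = ε') (h2 : m = m') : RT F ε' m' N := h1 ▸ h2 ▸ h

theorem R1.cast (h : R1 F ε m N) (h1 : ε = ε') (h2 : m = m') : R1 F ε' m' N := h1 ▸ h2 ▸ h

theorem R2.cast (h : R2 F ε m N) (h1 : ε = ε') (h2 : m = m') : R2 F ε' m' N := h1 ▸ h2 ▸ h

/-! ### Tori -/

theorem rt_zero : RT F 1 0 1 := by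
  have nd : (polarBilin (0 : QuadraticForm F PUnit.{u + 1})).Nondegenerate :=
    nondegenerate_of_forall fun x _ => Subsingleton.elim _ _
  have d0 : finrank F PUnit.{u + 1} = 0 := Module.finrank_zero_of_subsingleton
  refine ⟨⟨PUnit.{u + 1}, 0, nd, d0, ?_⟩, 1, by simp, by simp⟩
  rw [gau_plus nd (m := 0) d0 ⟨⊥, by simp [d0], by simp⟩]; simp

theorem exists_ext (D : ℕ) (hD : 0 < D) : ∃ (K : Type u) (_ : Field K) (_ : Fintype K)
    (_ : Algebra F K), finrank F K = D := by
  obtain ⟨p, hp⟩ := CharP.exists F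
  have hpp := Fact.mk (CharP.char_is_prime F p)
  have : NeZero D := ⟨hD.ne'⟩
  refine ⟨ULift.{u} (FiniteField.Extension F p D), inferInstance, Fintype.ofFinite _,
    inferInstance, ?_⟩
  rw [finrank_ulift]
  exact FiniteField.finrank_extension F p D

theorem trace_sep {K : Type*} [Field K] [Fintype K] [Algebra F K] {x : K}
    (h : ∀ y, Algebra.trace F K (x * y) = 0) : x = 0 := by
  have : Module.Finite F K := Module.Finite.of_finite
  exact (traceForm_nondegenerate F K).1 x (by simpa [Algebra.traceForm_apply] using h)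

theorem odd_pow_sub [CharP F 2] {D : ℕ} (hD : 0 < D) : Even (Fintype.card F ^ D) := by
  have : Fintype.card F % 2 = 0 := FiniteField.even_card_of_char_two (ringChar.eq F 2)
  exact (Nat.even_pow.2 ⟨Nat.even_iff.2 this, hD.ne'⟩)

theorem rt_plus [CharP F 2] (D : ℕ) (hD : 0 < D) : RT F 1 D (Fintype.card F ^ D - 1) := by
  classical
  obtain ⟨K, _, _, _, hK⟩ := exists_ext (F := F) D hD
  have : Module.Finite F K := Module.Finite.of_finite
  let B : (K × K) →ₗ[F] (K × K) →ₗ[F] F :=
    (Algebra.traceForm F K).compl₁₂ (LinearMap.fst F K K) (LinearMap.snd F K K)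
  let Q : QuadraticForm F (K × K) := LinearMap.BilinMap.toQuadraticMap B
  have hQ : ∀ v, Q v = Algebra.trace F K (v.1 * v.2) := fun v => rfl
  have hp : ∀ v w, polar Q v w = Algebra.trace F K (v.1 * w.2) + Algebra.trace F K (v.2 * w.1) := by
    intro v w
    rw [polar, hQ, hQ, hQ, ← map_sub, ← map_sub, ← map_add]
    congr 1
    simp only [Prod.fst_add, Prod.snd_add]; ring
  have nd : (polarBilin Q).Nondegenerate := by
    refine nondegenerate_of_forall fun x hx => Prod.ext ?_ ?_
    · exact trace_sep (F := F) fun y => by simpa [hp] using hx (0, y)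
    · exact trace_sep (F := F) fun y => by simpa [hp] using hx (y, 0)
  have dim : finrank F (K × K) = 2 * D := by rw [finrank_prod, hK]; ring
  have plus : H79.IsPlus (F := F) Q := by
    refine ⟨LinearMap.range (LinearMap.inl F K K), ?_, ?_⟩
    · rw [LinearMap.finrank_range_of_inj LinearMap.inl_injective, hK, dim]
    · rintro _ ⟨x, rfl⟩
      simp [hQ]
  let φ : Kˣ →* O Q :=
    { toFun := fun α => ⟨(DistribMulAction.toLinearEquiv F K α).prodCongr
          (DistribMulAction.toLinearEquiv F K α⁻¹), fun v => by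
            rw [hQ, hQ]
            congr 1
            simp only [LinearEquiv.prodCongr_apply, DistribMulAction.toLinearEquiv_apply,
              Units.smul_def, smul_eq_mul]
            linear_combination (v.1 * v.2) * α.mul_inv⟩
      map_one' := O_ext fun v => by simp
      map_mul' := fun α β => O_ext fun v => by
        simp [Units.smul_def, mul_assoc, mul_left_comm] }
  have hφ : Function.Injective φ := by
    intro α β e
    have := congrArg (fun k : O Q => (k.1 (1, 0)).1) e
    simpa [φ, Units.smul_def, Units.ext_iff] using this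
  obtain ⟨α, hα⟩ := IsCyclic.exists_ofOrder_eq_natCard (α := Kˣ)
  have hc : orderOf (φ α) = Fintype.card F ^ D - 1 := by
    rw [orderOf_injective φ hφ, hα, Nat.card_units, Nat.card_eq_fintype_card,
      Module.card_eq_pow_finrank (K := F), hK]
  refine ⟨⟨K × K, Q, nd, dim, by rw [gau_plus nd dim plus]; simp⟩, φ α, ?_, hc.symm.dvd⟩
  change Odd (orderOf (φ α))
  rw [hc]
  exact Nat.Even.sub_odd (Nat.one_le_pow _ _ Fintype.card_pos) (odd_pow_sub hD) odd_one

theorem rt_minus [CharP F 2] (D : ℕ) (hD : 0 < D) : RT F (-1) D (Fintype.card F ^ D + 1) := by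
  classical
  obtain ⟨K, _, _, _, hK⟩ := exists_ext (F := F) (2 * D) (by omega)
  have : Module.Finite F K := Module.Finite.of_finite
  obtain ⟨q, hq⟩ : ∃ q, q = Fintype.card F := ⟨_, rfl⟩
  have cK : Fintype.card K = (q ^ D) ^ 2 := by
    rw [Module.card_eq_pow_finrank (K := F), hK, ← hq, ← pow_mul, mul_comm]
  let σ : K ≃ₐ[F] K := FiniteField.frobeniusAlgEquivOfAlgebraic F K ^ D
  have hσ : ∀ x, σ x = x ^ q ^ D := fun x => by
    simp only [σ, AlgEquiv.coe_pow, FiniteField.coe_frobeniusAlgEquivOfAlgebraic_iterate, hq]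
  have hσ' : ∀ x, (σ : K →+* K) x = x ^ q ^ D := hσ
  have hI := H31.isInvol_of_pow cK hσ'
  have inv : ∀ x, σ (σ x) = x := hI.invol
  obtain ⟨θ, hθ⟩ := hI.exists_trace_eq (a := 1) (map_one _)
  have hθ' : θ + σ θ = 1 := hθ
  let B : K →ₗ[F] K →ₗ[F] F :=
    (Algebra.traceForm F K).compl₁₂ (LinearMap.mulLeft F θ) σ.toLinearMap
  let Q : QuadraticForm F K := LinearMap.BilinMap.toQuadraticMap B
  have hQ : ∀ v, Q v = Algebra.trace F K (θ * v * σ v) := fun v => rfl
  have hp : ∀ v w, polar Q v w = Algebra.trace F K (v * σ w) := by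
    intro v w
    have h1 : Algebra.trace F K (θ * w * σ v) = Algebra.trace F K (σ θ * σ w * v) := by
      rw [← Algebra.trace_eq_of_algEquiv σ (θ * w * σ v), map_mul σ, map_mul σ, inv]
    have h2 : Algebra.trace F K (v * σ w) =
        Algebra.trace F K (θ * v * σ w) + Algebra.trace F K (θ * w * σ v) := by
      rw [h1, ← map_add]; congr 1; linear_combination (-(v * σ w)) * hθ'
    rw [h2, polar, hQ, hQ, hQ, ← map_sub, ← map_sub, ← map_add]
    congr 1
    rw [map_add]; ring
  have nd : (polarBilin Q).Nondegenerate := by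
    refine nondegenerate_of_forall fun x hx => trace_sep (F := F) fun y => ?_
    have := hx (σ y)
    rwa [hp, inv] at this
  let M : Subgroup Kˣ := (powMonoidHom (q ^ D + 1) : Kˣ →* Kˣ).ker
  have hM : ∀ α : M, ((α : Kˣ) : K) * σ ((α : Kˣ) : K) = 1 := fun α => by
    have := congrArg Units.val (MonoidHom.mem_ker.1 α.2)
    rw [hσ, ← pow_succ']
    simpa using this
  have cM : Nat.card M = q ^ D + 1 := by
    rw [← H31.card_pow_succ_eq_one cK]
    refine Nat.card_congr ⟨fun α => ⟨((α : Kˣ) : K), by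
      have := congrArg Units.val (MonoidHom.mem_ker.1 α.2); simpa using this⟩,
      fun x => ⟨Units.mk0 x.1 (fun h => by have := x.2; rw [h] at this; simp at this),
        MonoidHom.mem_ker.2 (Units.ext (by simpa using x.2))⟩, fun α => by simp, fun x => by simp⟩
  let φ : M →* O Q :=
    { toFun := fun α => ⟨DistribMulAction.toLinearEquiv F K (α : Kˣ), fun v => by
            rw [hQ, hQ]
            congr 1
            simp only [DistribMulAction.toLinearEquiv_apply, Units.smul_def, smul_eq_mul, map_mul]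
            linear_combination (θ * v * σ v) * hM α⟩
      map_one' := O_ext fun v => by simp
      map_mul' := fun α β => O_ext fun v => by
        simp [Units.smul_def, mul_assoc] }
  have hφa : ∀ α v, (φ α).1 v = ((α : Kˣ) : K) * v := fun α v => rfl
  have hφ : Function.Injective φ := by
    intro α β e
    have := congrArg (fun k : O Q => k.1 1) e
    simp only [hφa, mul_one] at this
    exact Subtype.ext (Units.ext this)
  obtain ⟨α, hα⟩ := IsCyclic.exists_ofOrder_eq_natCard (α := M)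
  have hc : orderOf (φ α) = q ^ D + 1 := by rw [orderOf_injective φ hφ, hα, cM]
  have ev : Even (q ^ D) := hq ▸ odd_pow_sub hD
  have q2 : 2 ≤ q := hq ▸ Fintype.one_lt_card
  have minus : ¬ H79.IsPlus (F := F) Q := by
    intro plus
    let S : Subgroup Kˣ := M
    let T : Set Kˣ := {x | Q (x : K) = 0}
    have hT : Nat.card T = nc Q 0 - 1 := by
      rw [← card_singular]
      exact Nat.card_congr ⟨fun x => ⟨((x : Kˣ) : K), x.1.ne_zero, x.2⟩,
        fun x => ⟨Units.mk0 x.1 x.2.1, x.2.2⟩, fun x => by simp, fun x => by simp⟩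
    have hd : Nat.card M ∣ Nat.card T := by
      have hpre : T = QuotientGroup.mk ⁻¹' (QuotientGroup.mk '' T : Set (Kˣ ⧸ M)) := by
        refine Set.Subset.antisymm (Set.subset_preimage_image _ _) ?_
        rintro x ⟨y, hy, e⟩
        have h1 : y⁻¹ * x ∈ M := QuotientGroup.eq.1 e
        have h2 := O_map (φ ⟨_, h1⟩) (y : K)
        rw [hφa] at h2
        change Q (x : K) = 0
        rw [← show Q (y : K) = 0 from hy, ← h2]
        congr 1
        simp [mul_comm]
      rw [hpre, Nat.card_congr (QuotientGroup.preimageMkEquivSubgroupProdSet M _), Nat.card_prod]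
      exact dvd_mul_right _ _
    obtain ⟨d, rfl⟩ : ∃ d, D = d + 1 := ⟨D - 1, by omega⟩
    have h1 := nc_plus_zero_int nd (m := d) hK plus
    have h2 := nc_zero_pos (Q := Q)
    rw [hT, cM] at hd
    have h3 : ((q : ℤ) ^ (d + 1) + 1) ∣ (nc Q 0 : ℤ) - 1 := by
      have := Int.natCast_dvd_natCast.2 hd
      rwa [Nat.cast_sub h2] at this
    rw [h1, Nat.card_eq_fintype_card, ← hq] at h3
    have h4 : ((q : ℤ) ^ (d + 1) + 1) ∣ ((q : ℤ) ^ d + 1) * 2 := by
      have h5 : ((q : ℤ) ^ d + 1) * 2 = ((q : ℤ) ^ (d + 1) + 1) * ((q : ℤ) ^ d + 1) -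
          ((q : ℤ) ^ (d + 1) - 1) * ((q : ℤ) ^ d + 1) := by ring
      rw [h5]
      refine dvd_sub (dvd_mul_right _ _) ?_
      have h5' : ((q : ℤ) ^ (d + 1) - 1) * ((q : ℤ) ^ d + 1) =
          (q : ℤ) ^ (2 * d + 1) + (q : ℤ) ^ (d + 1) - (q : ℤ) ^ d - 1 := by ring
      rw [h5']; exact h3
    have h6 : IsCoprime ((q : ℤ) ^ (d + 1) + 1) 2 := by
      obtain ⟨r, hr⟩ := ev
      have : (q : ℤ) ^ (d + 1) = r + r := by exact_mod_cast hr
      exact ⟨1, -r, by rw [this]; ring⟩
    have h7 := Int.le_of_dvd (by positivity) (h6.dvd_of_dvd_mul_right h4)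
    have h8 : (0 : ℤ) < (q : ℤ) ^ d := by positivity
    have h9 : (2 : ℤ) ≤ q := by exact_mod_cast q2
    rw [pow_succ] at h7
    nlinarith
  rw [← hq]
  refine ⟨⟨K, Q, nd, hK, by rw [gau_minus nd hK minus]; simp⟩, φ α, ?_, hc.symm.dvd⟩
  change Odd (orderOf (φ α))
  rw [hc]
  exact ev.add_one

end Cfsg.Agent.H30.Spec8
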