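import Mathlib
import Cfsg.Agent.H30.Spec8A

/-!
Unipotent isometries of small quadratic spaces in characteristic two.
-/

set_option autoImplicit false

namespace Cfsg.Agent.H30.Spec8

open QuadraticMap Module H28

universe u

theorem dvd_of_iter {α : Type*} {φ : α → α} {x : α} (a : ℕ) (h1 : φ^[2 ^ a] x ≠ x)
    (h2 : φ^[2 ^ (a + 1)] x = x) {k : ℕ} (hk : φ^[k] x = x) : 2 ^ (a + 1) ∣ k := by
  have := Function.minimalPeriod_eq_prime_pow (p := 2) (k := a) h1 h2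
  rw [← this]
  exact Function.IsPeriodicPt.minimalPeriod_dvd hk

variable {F : Type u} [Field F]

section Gen

variable {V : Type*} [AddCommGroup V] [Module F V] {Q : QuadraticForm F V}

theorem iter_eq_pow (g : O Q) (k : ℕ) (x : V) : (fun y => g.1 y)^[k] x = (g ^ k).1 x := by
  induction k with
  | zero => rfl
  | succ k ih => rw [Function.iterate_succ_apply', ih, pow_succ', O_mul_apply]

theorem iter_eq_sum (g : O Q) (v : V) (k : ℕ) :
    (fun y => g.1 y + v)^[k] 0 = ∑ i ∈ Finset.range k, (g ^ i).1 v := by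
  induction k with
  | zero => rfl
  | succ k ih =>
    rw [Function.iterate_succ_apply', ih, Finset.sum_range_succ', map_sum]
    simp only [pow_succ', O_mul_apply, pow_zero, O_one_apply]

theorem dvd_orderOf_of_iter (g : O Q) (x : V) (a : ℕ) (h1 : (fun y => g.1 y)^[2 ^ a] x ≠ x)
    (h2 : (fun y => g.1 y)^[2 ^ (a + 1)] x = x) : 2 ^ (a + 1) ∣ orderOf g :=
  dvd_of_iter a h1 h2 (by rw [iter_eq_pow, pow_orderOf_eq_one, O_one_apply])

end Gen

variable (F) in
/-- the hyperbolic plane -/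
def hyp : QuadraticForm F (F × F) := linMulLin (LinearMap.fst F F F) (LinearMap.snd F F F)

/-- the plane `x² + x y + b y²` -/
def pl (b : F) : QuadraticForm F (F × F) :=
  linMulLin (LinearMap.fst F F F) (LinearMap.fst F F F) +
    linMulLin (LinearMap.fst F F F) (LinearMap.snd F F F) +
    b • linMulLin (LinearMap.snd F F F) (LinearMap.snd F F F)

theorem hyp_apply (v : F × F) : hyp F v = v.1 * v.2 := rfl

theorem pl_apply (b : F) (v : F × F) : pl b v = v.1 * v.1 + v.1 * v.2 + b * (v.2 * v.2) := rfl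

theorem polar_hyp (v w : F × F) : polar (hyp F) v w = v.1 * w.2 + v.2 * w.1 := by
  simp only [polar, hyp_apply, Prod.fst_add, Prod.snd_add]; ring

theorem polar_pl [CharP F 2] (b : F) (v w : F × F) : polar (pl b) v w = v.1 * w.2 + v.2 * w.1 := by
  simp only [polar, pl_apply, Prod.fst_add, Prod.snd_add]
  linear_combination (v.1 * w.1 + b * v.2 * w.2) * (CharTwo.two_eq_zero (R := F))

theorem nd_plane {Q : QuadraticForm F (F × F)} (h : ∀ v w, polar Q v w = v.1 * w.2 + v.2 * w.1) :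
    (polarBilin Q).Nondegenerate :=
  nondegenerate_of_forall fun x hx => Prod.ext (by simpa [h] using hx (0, 1))
    (by simpa [h] using hx (1, 0))

theorem isPlus_plane {Q : QuadraticForm F (F × F)} (h : ∀ y, Q (0, y) = 0) :
    H79.IsPlus (F := F) Q := by
  refine ⟨LinearMap.range (LinearMap.inr F F F), ?_, ?_⟩
  · rw [LinearMap.finrank_range_of_inj LinearMap.inr_injective]; simp
  · rintro _ ⟨x, rfl⟩
    exact h x

variable [Fintype F]

variable (F) in
/-- the hyperbolic plane -/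
def hypS : QS F 1 1 where
  V := F × F
  Q := hyp F
  nd := nd_plane polar_hyp
  dim := by simp
  sgn := by
    rw [gau_plus (nd_plane polar_hyp) (m := 1) (by simp) (isPlus_plane fun y => by simp [hyp_apply])]
    simp

theorem rt_hyp : RT F 1 1 1 := ⟨hypS F, 1, by simp, by simp⟩

variable [CharP F 2]

theorem exists_pl {ε : ℤ} (hε : ε = 1 ∨ ε = -1) :
    ∃ b : F, gau (pl b) = (ε : ℂ) * (Fintype.card F : ℂ) ^ 1 := by
  rcases hε with rfl | rfl
  · refine ⟨0, ?_⟩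
    rw [gau_plus (nd_plane (polar_pl 0)) (m := 1) (by simp)
      (isPlus_plane fun y => by simp [pl_apply])]
    simp
  · obtain ⟨b, hb⟩ := H79.exists_aniso F
    refine ⟨b, ?_⟩
    rw [gau_minus (nd_plane (polar_pl b)) (m := 1) (by simp) ?_]
    · simp
    · rintro ⟨W, h1, h2⟩
      have h3 : finrank F W = 1 := by
        simp only [finrank_prod, finrank_self] at h1; omega
      have : W ≠ ⊥ := by rintro rfl; simp at h3
      obtain ⟨w, hw, h0⟩ := Submodule.exists_mem_ne_zero_of_ne_bot this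
      obtain ⟨h4, h5⟩ := hb w.1 w.2 (by rw [← h2 w hw, pl_apply]; ring)
      exact h0 (Prod.ext h4 h5)

/-- the plane of type `ε` -/
def plS {ε : ℤ} (b : F) (h : gau (pl b) = (ε : ℂ) * (Fintype.card F : ℂ) ^ 1) : QS F ε 1 where
  V := F × F
  Q := pl b
  nd := nd_plane (polar_pl b)
  dim := by simp
  sgn := h

omit [Fintype F] in
theorem two_add (x : F) : x + x = 0 := CharTwo.add_self_eq_zero x

theorem r1_one {ε : ℤ} (hε : ε = 1 ∨ ε = -1) : R1 F ε 1 2 := by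
  obtain ⟨b, hb⟩ := exists_pl (F := F) hε
  have e : ∀ v : F × F, (refl (pl b) (1, 0)).1 v = (v.1 + v.2, v.2) := fun v => by
    rw [refl_apply]; ext <;> simp [pl_apply, polar_pl, CharTwo.sub_eq_add]
  refine ⟨plS b hb, refl (pl b) (1, 0), dvd_orderOf_of_iter (Q := pl b) _ (0, 1) 0 ?_ ?_⟩
  · simp [e]
  · simp [e, two_add]

theorem r2_one {ε : ℤ} (hε : ε = 1 ∨ ε = -1) : R2 F ε 1 2 := by
  obtain ⟨b, hb⟩ := exists_pl (F := F) hε
  refine ⟨plS b hb, 1, ((1, 0) : F × F), map_one _, fun k _ hk => ?_⟩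
  have hk' : ∑ i ∈ Finset.range k, ((1 : O (pl b)) ^ i).1 (1, 0) = 0 := hk
  rw [← iter_eq_sum] at hk'
  refine dvd_of_iter 0 ?_ ?_ hk'
  · change (0 : F × F) + (1, 0) ≠ 0
    simp
  · change (0 : F × F) + (1, 0) + (1, 0) = 0
    simp [two_add]

theorem r1_two {ε : ℤ} (hε : ε = 1 ∨ ε = -1) : R1 F ε 2 4 := by
  obtain ⟨b, hb⟩ := exists_pl (F := F) hε
  let Q := (hyp F).prod (pl b)
  have e1 : ∀ v, (refl Q (0, (1, 0))).1 v = (v.1, (v.2.1 + v.2.2, v.2.2)) := fun v => by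
    rw [refl_apply]; ext <;> simp [Q, pl_apply, polar_pl, polar_prod, CharTwo.sub_eq_add]
  have e2 : ∀ v, (eich Q ((1, 0), 0) (0, (0, 1))).1 v =
      ((v.1.1 + v.2.1 + b * v.1.2, v.1.2), (v.2.1, v.2.2 + v.1.2)) := fun v => by
    rw [eich_apply (by simp [Q, hyp_apply]) (by simp [Q, polar_prod])]
    ext <;> simp [Q, pl_apply, polar_pl, polar_hyp, polar_prod, CharTwo.sub_eq_add]
  refine R1.cast ⟨(hypS F).prod (plS b hb), refl Q (0, (1, 0)) * eich Q ((1, 0), 0) (0, (0, 1)),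
    dvd_orderOf_of_iter (Q := Q) _ ((0, 1), (0, 0)) 1 ?_ ?_⟩ (one_mul _) rfl
  · simp [e1, e2, two_add]
  · simp [e1, e2, two_add]
    grind

theorem r2_two {ε : ℤ} (hε : ε = 1 ∨ ε = -1) : R2 F ε 2 4 := by
  obtain ⟨b, hb⟩ := exists_pl (F := F) hε
  let Q := (hyp F).prod (pl b)
  have e2 : ∀ v, (eich Q ((1, 0), 0) (0, (1, 0))).1 v =
      ((v.1.1 + v.2.2 + v.1.2, v.1.2), (v.2.1 + v.1.2, v.2.2)) := fun v => by
    rw [eich_apply (by simp [Q, hyp_apply]) (by simp [Q, polar_prod])]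
    ext <;> simp [Q, pl_apply, polar_pl, polar_hyp, polar_prod, CharTwo.sub_eq_add]
  refine R2.cast ⟨(hypS F).prod (plS b hb), eich Q ((1, 0), 0) (0, (1, 0)),
    (((0, 1), (0, 0)) : (F × F) × (F × F)), dickson_eich _ _ _, fun k _ hk => ?_⟩ (one_mul _) rfl
  have hk' : ∑ i ∈ Finset.range k, (eich Q ((1, 0), 0) (0, (1, 0)) ^ i).1 ((0, 1), (0, 0)) = 0 := hk
  rw [← iter_eq_sum] at hk'
  refine dvd_of_iter 1 ?_ ?_ hk'
  · simp [e2, two_add]
  · simp [e2, two_add]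

theorem r1_three {ε : ℤ} (hε : ε = 1 ∨ ε = -1) : R1 F ε 3 8 := by
  obtain ⟨b, hb⟩ := exists_pl (F := F) hε
  let Q := (hyp F).prod ((hyp F).prod (pl b))
  have e1 : ∀ v, (refl Q (0, (0, (1, 0)))).1 v = (v.1, (v.2.1, (v.2.2.1 + v.2.2.2, v.2.2.2))) :=
    fun v => by
      rw [refl_apply]; ext <;> simp [Q, pl_apply, polar_pl, polar_prod, CharTwo.sub_eq_add]
  have e2 : ∀ v, (eich Q (0, ((1, 0), 0)) (0, (0, (0, 1)))).1 v =
      (v.1, ((v.2.1.1 + v.2.2.1 + b * v.2.1.2, v.2.1.2), (v.2.2.1, v.2.2.2 + v.2.1.2))) :=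
    fun v => by
      rw [eich_apply (by simp [Q, hyp_apply]) (by simp [Q, polar_prod])]
      ext <;> simp [Q, pl_apply, polar_pl, polar_hyp, polar_prod, CharTwo.sub_eq_add]
  have e3 : ∀ v, (eich Q ((1, 0), 0) (0, ((0, 1), 0))).1 v =
      ((v.1.1 + v.2.1.1, v.1.2), ((v.2.1.1, v.2.1.2 + v.1.2), v.2.2)) := fun v => by
    rw [eich_apply (by simp [Q, hyp_apply]) (by simp [Q, polar_prod])]
    ext <;> simp [Q, hyp_apply, polar_hyp, polar_prod, CharTwo.sub_eq_add]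
  let g : O Q := refl Q (0, (0, (1, 0))) * eich Q (0, ((1, 0), 0)) (0, (0, (0, 1))) *
    eich Q ((1, 0), 0) (0, ((0, 1), 0))
  have h4 : (fun y => g.1 y)^[4] ((0, 1), ((0, 0), (0, 0))) = ((0, 1), ((1, 0), (0, 0))) := by
    simp [g, e1, e2, e3, two_add]
    grind
  have h8 : (fun y => g.1 y)^[4] ((0, 1), ((1, 0), (0, 0))) = ((0, 1), ((0, 0), (0, 0))) := by
    simp [g, e1, e2, e3, two_add]
    grind
  refine R1.cast ⟨(hypS F).prod ((hypS F).prod (plS b hb)), g,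
    dvd_orderOf_of_iter (Q := Q) _ ((0, 1), ((0, 0), (0, 0))) 2 ?_ ?_⟩ (by simp) rfl
  · change (fun y => g.1 y)^[4] _ ≠ _
    rw [h4]; simp
  · change (fun y => g.1 y)^[4 + 4] _ = _
    rw [Function.iterate_add_apply, h4, h8]

theorem r2_three {ε : ℤ} (hε : ε = 1 ∨ ε = -1) : R2 F ε 3 8 := by
  obtain ⟨b, hb⟩ := exists_pl (F := F) hε
  let Q := (hyp F).prod ((hyp F).prod (pl b))
  have e2 : ∀ v, (eich Q (0, ((1, 0), 0)) (0, (0, (1, 0)))).1 v =
      (v.1, ((v.2.1.1 + v.2.2.2 + v.2.1.2, v.2.1.2), (v.2.2.1 + v.2.1.2, v.2.2.2))) :=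
    fun v => by
      rw [eich_apply (by simp [Q, hyp_apply]) (by simp [Q, polar_prod])]
      ext <;> simp [Q, pl_apply, polar_pl, polar_hyp, polar_prod, CharTwo.sub_eq_add]
  have e3 : ∀ v, (eich Q ((1, 0), 0) (0, ((0, 1), 0))).1 v =
      ((v.1.1 + v.2.1.1, v.1.2), ((v.2.1.1, v.2.1.2 + v.1.2), v.2.2)) := fun v => by
    rw [eich_apply (by simp [Q, hyp_apply]) (by simp [Q, polar_prod])]
    ext <;> simp [Q, hyp_apply, polar_hyp, polar_prod, CharTwo.sub_eq_add]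
  let g : O Q := eich Q (0, ((1, 0), 0)) (0, (0, (1, 0))) * eich Q ((1, 0), 0) (0, ((0, 1), 0))
  have nd : (polarBilin Q).Nondegenerate := ((hypS F).prod ((hypS F).prod (plS b hb))).nd
  have hg : dickson nd g = 1 := by
    rw [map_mul, dickson_eich, dickson_eich, mul_one]
  refine R2.cast ⟨(hypS F).prod ((hypS F).prod (plS b hb)), g,
    (((0, 1), ((0, 0), (0, 0))) : (F × F) × ((F × F) × (F × F))), hg, fun k _ hk => ?_⟩
    (by simp) rfl
  have hk' : ∑ i ∈ Finset.range k, (g ^ i).1 ((0, 1), ((0, 0), (0, 0))) = 0 := hk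
  rw [← iter_eq_sum] at hk'
  refine dvd_of_iter 2 ?_ ?_ hk'
  · simp [g, e2, e3, two_add]
  · simp [g, e2, e3, two_add]

theorem r1_clog {ε : ℤ} (hε : ε = 1 ∨ ε = -1) {j : ℕ} (h1 : 1 ≤ j) (h4 : j ≤ 4) :
    R1 F ε j (2 ^ Nat.clog 2 (2 * j)) := by
  interval_cases j
  · exact r1_one hε
  · exact r1_two hε
  · exact r1_three hε
  · exact (rt_hyp.prod1 (r1_three hε)).cast (one_mul _) rfl

theorem r2_clog {ε : ℤ} (hε : ε = 1 ∨ ε = -1) {j : ℕ} (h1 : 1 ≤ j) (h4 : j ≤ 4) :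
    R2 F ε j (2 ^ Nat.clog 2 (2 * j)) := by
  interval_cases j
  · exact r2_one hε
  · exact r2_two hε
  · exact r2_three hε
  · exact (rt_hyp.prod2 (r2_three hε)).cast (one_mul _) rfl

end Cfsg.Agent.H30.Spec8
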