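import Mathlib
import Cfsg.Agent.H30.Spec8B
import Cfsg.Agent.S2517

/-!
The spectra of `Sp₈(q)`, `O₈⁻(q)` and `q⁸ : Ω₈⁻(q)` for even `q`.
-/

set_option autoImplicit false

namespace Cfsg.Agent.H30.Spec8

open QuadraticMap Module H28 H76 Polynomial

universe u

theorem lcm_dvd_int {M N : ℕ} {X : ℤ} (h1 : (M : ℤ) ∣ X) (h2 : (N : ℤ) ∣ X) :
    ((Nat.lcm M N : ℕ) : ℤ) ∣ X :=
  Int.natCast_dvd.2 (Nat.lcm_dvd (Int.natCast_dvd.1 h1) (Int.natCast_dvd.1 h2))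

/-- exponents of tori of small rank -/
structure Dv (q : ℤ) (m N : ℕ) : Prop where
  d0 : m = 0 → (N : ℤ) ∣ 1
  d1 : m ≤ 1 → (N : ℤ) ∣ q - 1 ∨ (N : ℤ) ∣ q + 1
  d2 : m ≤ 2 → (N : ℤ) ∣ q ^ 4 - 1
  d3 : m ≤ 3 → (N : ℤ) ∣ q ^ 4 - 1 ∨ (N : ℤ) ∣ q ^ 3 - 1 ∨ (N : ℤ) ∣ q ^ 3 + 1
  d4 : m ≤ 4 → (N : ℤ) ∣ q ^ 4 - 1 ∨ (N : ℤ) ∣ q ^ 4 + 1 ∨ (N : ℤ) ∣ (q ^ 3 - 1) * (q + 1) ∨
    (N : ℤ) ∣ (q ^ 3 + 1) * (q - 1)

theorem Dv.step {q ε : ℤ} {m N M D : ℕ} (h : Dv q m N) (hD : 0 < D) (hε : ε = 1 ∨ ε = -1)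
    (hM : (M : ℤ) = q ^ D - ε) : Dv q (D + m) (Nat.lcm M N) := by
  have a1 : q - 1 ∣ q ^ 4 - 1 := ⟨(q + 1) * (q ^ 2 + 1), by ring⟩
  have a2 : q + 1 ∣ q ^ 4 - 1 := ⟨(q - 1) * (q ^ 2 + 1), by ring⟩
  have a3 : q ^ 2 - 1 ∣ q ^ 4 - 1 := ⟨q ^ 2 + 1, by ring⟩
  have a4 : q ^ 2 + 1 ∣ q ^ 4 - 1 := ⟨q ^ 2 - 1, by ring⟩
  have b1 : q - 1 ∣ (q ^ 3 - 1) * (q + 1) := ⟨(q ^ 2 + q + 1) * (q + 1), by ring⟩
  have b2 : q + 1 ∣ (q ^ 3 - 1) * (q + 1) := dvd_mul_left _ _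
  have b3 : q - 1 ∣ (q ^ 3 + 1) * (q - 1) := dvd_mul_left _ _
  have b4 : q + 1 ∣ (q ^ 3 + 1) * (q - 1) := ⟨(q ^ 2 - q + 1) * (q - 1), by ring⟩
  have c1 : q ^ 3 - 1 ∣ (q ^ 3 - 1) * (q + 1) := dvd_mul_right _ _
  have c2 : q ^ 3 + 1 ∣ (q ^ 3 + 1) * (q - 1) := dvd_mul_right _ _
  have hM' : (M : ℤ) ∣ q ^ D - 1 ∨ (M : ℤ) ∣ q ^ D + 1 := by
    rcases hε with rfl | rfl
    · exact Or.inl hM.dvd
    · exact Or.inr (by rw [hM, sub_neg_eq_add])
  have m12 : D ≤ 2 → (M : ℤ) ∣ q ^ 4 - 1 := fun h2 => by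
    interval_cases D
    · simp only [pow_one] at hM'
      exact hM'.elim (·.trans a1) (·.trans a2)
    · exact hM'.elim (·.trans a3) (·.trans a4)
  refine ⟨fun h0 => by omega, fun h1 => ?_, fun h2 => ?_, fun h3 => ?_, fun h4 => ?_⟩
  · obtain rfl : D = 1 := by omega
    have h0 := h.d0 (by omega)
    simp only [pow_one] at hM'
    exact hM'.imp (fun k => lcm_dvd_int k (h0.trans (one_dvd _)))
      fun k => lcm_dvd_int k (h0.trans (one_dvd _))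
  · exact lcm_dvd_int (m12 (by omega)) (h.d2 (by omega))
  · by_cases h2 : D ≤ 2
    · exact Or.inl (lcm_dvd_int (m12 h2) (h.d2 (by omega)))
    · obtain rfl : D = 3 := by omega
      have h0 := h.d0 (by omega)
      exact Or.inr (hM'.imp (fun k => lcm_dvd_int k (h0.trans (one_dvd _)))
        fun k => lcm_dvd_int k (h0.trans (one_dvd _)))
  · obtain rfl | rfl | rfl | rfl : D = 1 ∨ D = 2 ∨ D = 3 ∨ D = 4 := by omega
    · rcases h.d3 (by omega) with k | k | k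
      · exact Or.inl (lcm_dvd_int (m12 (by omega)) k)
      · simp only [pow_one] at hM'
        exact Or.inr (Or.inr (Or.inl (lcm_dvd_int (hM'.elim (·.trans b1) (·.trans b2))
          (k.trans c1))))
      · simp only [pow_one] at hM'
        exact Or.inr (Or.inr (Or.inr (lcm_dvd_int (hM'.elim (·.trans b3) (·.trans b4))
          (k.trans c2))))
    · exact Or.inl (lcm_dvd_int (m12 (by omega)) (h.d2 (by omega)))
    · have h1 := h.d1 (by omega)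
      rcases hM' with k | k
      · exact Or.inr (Or.inr (Or.inl (lcm_dvd_int (k.trans c1)
          (h1.elim (·.trans b1) (·.trans b2)))))
      · exact Or.inr (Or.inr (Or.inr (lcm_dvd_int (k.trans c2)
          (h1.elim (·.trans b3) (·.trans b4)))))
    · have h0 := h.d0 (by omega)
      rcases hM' with k | k
      · exact Or.inl (lcm_dvd_int k (h0.trans (one_dvd _)))
      · exact Or.inr (Or.inl (lcm_dvd_int k (h0.trans (one_dvd _))))

variable {F : Type u} [Field F] [Fintype F] [CharP F 2] {L : Type*} [Field L] [CharP L 2]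

theorem units_eq_one_of_sq {α : Lˣ} (h : α ^ 2 = 1) : α = 1 :=
  units_eq_one_of_pow_char_pow 2 (j := 1) (by simpa using h)

theorem rt_torus {D : ℕ} (hD : 0 < D) {ε : ℤ} (hε : ε = 1 ∨ ε = -1) :
    ∃ M : ℕ, (M : ℤ) = (Fintype.card F : ℤ) ^ D - ε ∧ RT F ε D M := by
  rcases hε with rfl | rfl
  · exact ⟨_, by rw [Nat.cast_sub (Nat.one_le_pow _ _ Fintype.card_pos)]; simp, rt_plus D hD⟩
  · exact ⟨_, by simp, rt_minus D hD⟩

theorem split {n : ℕ} {s : Multiset (Lˣ × ℕ)} (hs : FAdm Even (Fintype.card F : ℤ) n s) :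
    ∃ (m j N : ℕ) (ε : ℤ), n = 2 * (m + j) ∧ (ε = 1 ∨ ε = -1) ∧ RT F ε m N ∧
      Dv (Fintype.card F) m N ∧ ∀ x ∈ s, x.1 ^ N = 1 ∧ (x.2 ≤ 2 * j ∨ x.2 = 1) := by
  refine FAdm.induction (P := fun n s => ∃ (m j N : ℕ) (ε : ℤ), n = 2 * (m + j) ∧
    (ε = 1 ∨ ε = -1) ∧ RT F ε m N ∧ Dv (Fintype.card F) m N ∧
      ∀ x ∈ s, x.1 ^ N = 1 ∧ (x.2 ≤ 2 * j ∨ x.2 = 1)) ?_ ?_ hs
  · exact ⟨0, 0, 1, 1, rfl, Or.inl rfl, rt_zero, ⟨by simp, by simp, by simp, by simp, by simp⟩,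
      by simp⟩
  · rintro a w t n ha - ⟨m, j, N, ε, rfl, hε, h1, h2, h3⟩
    rcases ha.spec with ⟨D, e, η, hD, he, hη, rfl, h4⟩ | ⟨α, -, h5, ⟨r, rfl⟩, rfl⟩
    · obtain ⟨M, hM, h6⟩ := rt_torus (F := F) hD hη
      obtain ⟨e, rfl⟩ : ∃ e', e = e' + 1 := ⟨e - 1, by omega⟩
      refine ⟨D + m, j + D * e, Nat.lcm M N, η * ε, by ring, ?_, h6.prod h1, h2.step hD hη hM,
        fun x hx => ?_⟩
      · rcases hη with rfl | rfl <;> rcases hε with rfl | rfl <;> simp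
      · rcases Multiset.mem_add.1 hx with hx | hx
        · have h7 : x.1 ^ M = 1 := by
            rw [← zpow_natCast, hM, zpow_sub, (h4 x hx).1, mul_inv_cancel]
          refine ⟨orderOf_dvd_iff_pow_eq_one.1
            ((orderOf_dvd_of_pow_eq_one h7).trans (Nat.dvd_lcm_left _ _)), ?_⟩
          rw [(h4 x hx).2.1]
          have := Nat.le_mul_of_pos_left e hD
          omega
        · refine ⟨orderOf_dvd_iff_pow_eq_one.1
            ((orderOf_dvd_of_pow_eq_one (h3 x hx).1).trans (Nat.dvd_lcm_right _ _)), ?_⟩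
          have := (h3 x hx).2
          omega
    · refine ⟨m, j + r, N, ε, by ring, hε, h1, h2, fun x hx => ?_⟩
      rcases Multiset.mem_add.1 hx with hx | hx
      · rw [Multiset.mem_singleton.1 hx, units_eq_one_of_sq h5]
        exact ⟨one_pow _, Or.inl (by simp only; omega)⟩
      · have := (h3 x hx).2
        exact ⟨(h3 x hx).1, by omega⟩

theorem rt_max {N : ℕ} (h : Dv (Fintype.card F) 4 N) : RT F (-1) 4 N := by
  obtain ⟨r, hr⟩ := odd_pow_sub (F := F) one_pos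
  have hr' : (Fintype.card F : ℤ) = r + r := by exact_mod_cast (pow_one (Fintype.card F)) ▸ hr
  have key : ∀ {D D' : ℕ} {ε : ℤ}, 0 < D → 0 < D' → D + D' = 4 → (ε = 1 ∨ ε = -1) →
      IsCoprime ((Fintype.card F : ℤ) ^ D - ε) ((Fintype.card F : ℤ) ^ D' + ε) →
      (N : ℤ) ∣ ((Fintype.card F : ℤ) ^ D - ε) * ((Fintype.card F : ℤ) ^ D' + ε) →
      RT F (-1) 4 N := by
    intro D D' ε hD hD' h4 hε hc hN
    obtain ⟨M, hM, h1⟩ := rt_torus (F := F) hD hε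
    obtain ⟨M', hM', h2⟩ := rt_torus (F := F) hD' (ε := -ε) (by omega)
    rw [sub_neg_eq_add] at hM'
    rw [← hM, ← hM'] at hc hN
    refine ((h1.prod h2).cast (by rcases hε with rfl | rfl <;> simp) h4).mono ?_
    rw [(Nat.isCoprime_iff_coprime.1 hc).lcm_eq_mul]
    exact_mod_cast hN
  rcases h.d4 le_rfl with k | k | k | k
  · refine key two_pos two_pos rfl (Or.inl rfl) ⟨2 * r ^ 2, 1 - 2 * r ^ 2, ?_⟩ ?_
    · rw [hr']; ring
    · convert k using 1; ring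
  · obtain ⟨M, hM, h1⟩ := rt_torus (F := F) (D := 4) (ε := -1) (by norm_num) (Or.inr rfl)
    rw [sub_neg_eq_add] at hM
    rw [← hM] at k
    exact h1.mono (by exact_mod_cast k)
  · refine key three_pos one_pos rfl (Or.inl rfl)
      ⟨r, 1 - r * ((r + r) ^ 2 - (r + r) + 1), ?_⟩ (by simpa using k)
    rw [hr']; ring
  · refine key three_pos one_pos rfl (Or.inr rfl)
      ⟨r, -1 - r * ((r + r) ^ 2 + (r + r) + 1), ?_⟩ (by simpa [sub_eq_add_neg] using k)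
    rw [hr']; ring

theorem upper {s : Multiset (Lˣ × ℕ)} (hs : FAdm Even (Fintype.card F : ℤ) 8 s) :
    ∃ N, OK 2 s N ∧ R1 F (-1) 4 N ∧ R2 F (-1) 4 N := by
  obtain ⟨m, j, N, ε, h8, hε, h1, h2, h3⟩ := split hs
  rcases Nat.eq_zero_or_pos j with rfl | hj
  · obtain rfl : m = 4 := by omega
    refine ⟨N, fun x hx => ⟨(h3 x hx).1, ?_⟩, (rt_max h2).r1, (rt_max h2).r2⟩
    have := hs.adm.pos x hx
    have h4 : x.2 = 1 := by have := (h3 x hx).2; omega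
    simp [h4]
  · have hε' : -ε = 1 ∨ -ε = -1 := by omega
    have e : ε * -ε = -1 := by rcases hε with rfl | rfl <;> simp
    refine ⟨Nat.lcm N (2 ^ Nat.clog 2 (2 * j)), fun x hx => ⟨?_, ?_⟩,
      (h1.prod1 (r1_clog hε' hj (by omega))).cast e (by omega),
      (h1.prod2 (r2_clog hε' hj (by omega))).cast e (by omega)⟩
    · exact orderOf_dvd_iff_pow_eq_one.1
        ((orderOf_dvd_of_pow_eq_one (h3 x hx).1).trans (Nat.dvd_lcm_left _ _))
    · refine (pow_dvd_pow 2 (Nat.clog_mono_right 2 ?_)).trans (Nat.dvd_lcm_right _ _)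
      have := (h3 x hx).2
      omega

omit [CharP F 2] in
theorem QS.exists_equiv {m : ℕ} (A : QS F (-1) (m + 1)) {a b : F} (hab : H79.Aniso a b) :
    Nonempty (A.Q.IsometryEquiv (qMinus F m a b)) := by
  have h : ¬ H79.IsPlus (F := F) A.Q := fun h => by
    have h1 := gau_plus A.nd A.dim h
    rw [A.sgn] at h1
    have h2 : (Fintype.card F : ℂ) ^ (m + 1) ≠ 0 := pow_ne_zero _ card_ne_zero_complex
    apply h2
    push_cast at h1
    linear_combination (-1 / 2 : ℂ) * h1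
  obtain ⟨e, he⟩ := H79.iso_minus_of_not_isPlus (m := m) A.dim A.Q ((H79.nd_iff _).1 A.nd) h hab
  exact ⟨⟨e, he⟩⟩

theorem ok_of_pk {n : ℕ} {Q : ℤ} {s : Multiset (Lˣ × ℕ)} (hs : FAdm Even Q n s) {k : ℕ}
    (h : PK 2 s k) : OK 2 s k := fun x hx => by
  refine ⟨units_eq_one_of_sq ?_, h.2 x hx⟩
  have := h.1 x hx _ (hs.inv_mem hx)
  rw [_root_.sq]
  nth_rewrite 2 [this]
  rw [inv_pow, mul_inv_cancel]

variable [Algebra F L] [IsAlgClosed L] [Algebra.IsAlgebraic F L]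

theorem exists_psp {m : ℕ} {s : Multiset (Lˣ × ℕ)}
    (hs : FAdm Even (Fintype.card F : ℤ) (2 * m) s) : ∃ g : PSp m F, OK 2 s (orderOf g) := by
  obtain ⟨g, hg⟩ := (models_psp F L 2 m).inn s hs
  exact ⟨g, ok_of_pk hs ((hg _).1 dvd_rfl)⟩

variable {ι : Type} [Fintype ι] [DecidableEq ι] {Q : QuadraticForm F (ι → F)}

omit [Algebra.IsAlgebraic F L] [CharP L 2] in
theorem fadm_isometry (hQ : (polarBilin Q).Nondegenerate) (g : isometryGroup F ⇑Q) :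
    FAdm Even (Fintype.card F : ℤ) (Fintype.card ι) (ujord L (g : GL ι F)) := by
  have ha : ∀ v, polarBilin Q v v = 0 := fun v => by
    rw [polarBilin_apply_apply, polar_self', CharTwo.two_eq_zero, zero_mul]
  exact fadm_ujord_alt (isEForm_of_isAlt ha hQ) ha fun v w => O_polar (isoEquiv Q g) v w

end Cfsg.Agent.H30.Spec8
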