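import Cfsg.Agent.H17.TwA

/-!
# The elementary abelian subgroups of order 32 of the Sylow 2-subgroup of `A₁₂`
-/

set_option autoImplicit false
set_option maxRecDepth 100000
set_option exponentiation.threshold 20000

namespace Cfsg.Agent.H30.A12

open Equiv Subgroup Cfsg.Agent.H89.TG Cfsg.Agent.H89.Rec Cfsg.Agent.H17.Ya Cfsg.Agent.H17.Tw

/-- The packed table. -/
def ftab : ℕ := nat_lit 0x89ab1023457689ab0132546789ab2310675489ab3201764598ba1023457698ba0132546798ba2310675498ba32017645ab8910234576ab8901325467ab8923106754ab8932017645ba9810234576ba9801325467ba9823106754ba983201764589ab4567103289ab5476012389ab6745230189ab7654321098ba4567103298ba5476012398ba6745230198ba76543210ab8945671032ab8954760123ab8967452301ab8976543210ba9845671032ba9854760123ba9867452301ba987654321089ab0123456789ab1032547689ab2301674589ab3210765498ba0123456798ba1032547698ba2301674598ba32107654ab8901234567ab8910325476ab8923016745ab8932107654ba9801234567ba9810325476ba9823016745ba983210765489ab456701238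9ab5476103289ab6745230189ab7654321098ba4567012398ba5476103298ba6745230198ba76543210ab8945670123ab8954761032ab8967452301ab8976543210ba9845670123ba9854761032ba9867452301ba9876543210ab9845672310ab9845673201ab9854762310ab9854763201ab9867452310ab9867453201ab9876542310ab9876543201ba8945672310ba8945673201ba8954762310ba8954763201ba8967452310ba8967453201ba8976542310ba8976543201ab8945672301ab8945673210ab8954762301ab8954763210ab8967452301ab8967453210ab8976542301ab8976543210ba9845672301ba9845673210ba9854762301ba9854763210ba9867452301ba9867453210ba9876542301ba9876543210ab9867540123ab9867541032ab9867542301ab9867543210ab9876450123ab9876451032ab9876452301ab9876453210ba8967540123ba8967541032ba8967542301ba8967543210ba8976450123ba8976451032ba8976452301ba8976453210ab8967450123ab8967451032ab8967452301ab8967453210ab8976540123ab8976541032ab8976542301ab8976543210ba9867450123ba9867451032ba9867452301ba9867453210ba9876540123ba9876541032ba9876542301ba987654321089ab6754231089ab6754320189ab7645231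089ab7645320198ba6754231098ba6754320198ba7645231098ba76453201ab8967542310ab8967543201ab8976452310ab8976453201ba9867542310ba9867543201ba9876452310ba987645320189ab6745230189ab6745321089ab7654230189ab7654321098ba6745230198ba6745321098ba7654230198ba76543210ab8967452301ab8967453210ab8976542301ab8976543210ba9867452301ba9867453210ba9876542301ba987654321089ab0132546789ab1023457698ba0132546798ba10234576ab8901325467ab8910234576ba9801325467ba981023457689ab0123456789ab1032547698ba0123456798ba10325476ab8901234567ab8910325476ba9801234567ba981032547689ab6754320189ab7645231098ba6754320198ba76452310ab8967543201ab8976452310ba9867543201ba987645231089ab6745230189ab7654321098ba6745230198ba76543210ab8967452301ab8976543210ba9867452301ba987654321089ab2310675489ab3201764598ba2310675498ba32017645ab8923106754ab8932017645ba9823106754ba983201764589ab2301674589ab3210765498ba2301674598ba32107654ab8923016745ab8932107654ba9823016745ba983210765489ab6754231089ab7645320198ba6754231098ba76453201ab8967542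310ab8976453201ba9867542310ba987645320189ab6745230189ab7654321098ba6745230198ba76543210ab8967452301ab8976543210ba9867452301ba9876543210ab8967542310ab8967543201ab8976452310ab8976453201ba9867542310ba9867543201ba9876452310ba9876453201ab9867452310ab9867453201ab9876542310ab9876543201ba8967452310ba8967453201ba8976542310ba8976543201ab9867542301ab9867543210ab9876452301ab9876453210ba8967542301ba8967543210ba8976452301ba8976453210ab8967452301ab8967453210ab8976542301ab8976543210ba9867452301ba9867453210ba9876542301ba9876543210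

/-- The elements of the eight groups of order 32. -/
noncomputable def fv : ℕ → El := fam ftab 255 (by decide +kernel)
/-- Codes. -/
noncomputable def fvc (i : ℕ) : ℕ := ent ftab 255 i
theorem fv_val (i : ℕ) : (fv i).val = fvc i := rfl

/-- The test holds on the Sylow subgroup. -/
noncomputable def allT (q : ℕ → Bool) : Bool :=
  allF (fun a => allF (fun r => forceB (mu (avc a) (rhoc r)) q) 8) 64

theorem rho_T : ∀ r < 8, rho r ∈ T := by kd

theorem allT_iff {q : ℕ → Bool} :
    (∀ c, IsC c → bimp (tB c) (q c) = true) ↔ allT q = true := by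
  rw [allT, ← allF_iff]
  constructor
  · intro H a ha
    refine allF_iff.1 fun r hr => ?_
    rw [forceB_eq, ← av_val, ← rho_val, ← val_mul]
    exact bimp_iff.2 (H _ (El.ok _)) (mem_T.1 (mul_mem (av_T a ha) (rho_T r hr)))
  · intro H c hc
    refine bimp_iff.1 fun h => ?_
    obtain ⟨r, hr, e⟩ := decT ⟨c, hc⟩ (mem_T.2 h)
    have := allF_iff.2 (H _ (idx_lt ((⟨c, hc⟩ : El) * (rho r)⁻¹).val)) r hr
    rwa [forceB_eq, ← av_val, ← rho_val, ← val_mul, e] at this

attribute [irreducible] allT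

/-- Decide a closed statement, with quantifiers `∀ x : El, x ∈ T → _`. -/
scoped macro "fdt" : tactic =>
  `(tactic| (tsimp; simp only [fv_val, allT_iff, band_iff, bor_iff, bimp_iff, bnot_iff, bfalse_iff,
      biff_iff, allF_iff, anyF_iff]; decide +kernel))

theorem fv_mul : ∀ i < 8, ∀ a < 32, ∀ b < 32,
    fv (32 * i + a) * fv (32 * i + b) = fv (32 * i + (a ^^^ b)) := by fdt

theorem fv_inj : ∀ i < 8, ∀ a < 32, ∀ b < 32, fv (32 * i + a) = fv (32 * i + b) → a = b := by fdt

theorem fv_zero : ∀ i < 8, fv (32 * i + 0) = 1 := by fdt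

theorem fv_T0 : ∀ j < 256, fv j ∈ T := by fdt

theorem fv_nA : ∀ i < 8, fv (32 * i + 16) ∉ A0 := by fdt

theorem fv_E : ∀ x : El, x ∈ T → (x ∈ E0 ↔ ∃ k < 32, x = fv (32 * 0 + k)) := by fdt

theorem factP : ∀ y : El, y ∈ T → y * y = 1 → y ∉ A0 → y * x13 ∉ A0 → ∃ i < 3, ∀ x : El, x ∈ T →
    x * x = 1 → Commute x y → x ∉ A0 → x * y ∉ A0 → ∃ k < 32, x = fv (32 * i + k) := by fdt

theorem factQ : ∀ y : El, y ∈ T → y * y = 1 → y ∉ A0 → ∃ i < 8, ∀ x : El, x ∈ T →
    x * x = 1 → Commute x y → (x ∈ A0 ∨ x * y ∈ A0) → ∃ k < 32, x = fv (32 * i + k) := by fdt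

theorem factC : ∀ i < 8, ∀ x : El, x ∈ T → (∀ k < 5, Commute x (fv (32 * i + 2 ^ k))) →
    ∃ k < 32, x = fv (32 * i + k) := by fdt

theorem factZ : ∀ x : El, x ∈ T → Commute x (av 1) → Commute x (av 4) → Commute x (av 16) →
    ∃ a < 64, av a * x ∈ E0 := by fdt

theorem fv_mod (i : ℕ) : fv (i % 256) = fv i :=
  El.ext' (by rw [fv_val, fv_val, fvc, fvc, ent, ent]; exact congrArg _ (Nat.mod_mod _ _))

theorem fv_T (i : ℕ) : fv i ∈ T := fv_mod i ▸ fv_T0 _ (Nat.mod_lt _ (by decide))

/-- The elements of the eight groups inside the Sylow subgroup. -/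
noncomputable def ft (i : ℕ) : T := ⟨fv i, fv_T i⟩

theorem ft_val (i : ℕ) : (ft i : El) = fv i := rfl

theorem xor32 {a b : ℕ} (ha : a < 32) (hb : b < 32) : a ^^^ b < 32 :=
  Nat.xor_lt_two_pow (n := 5) ha hb

theorem fv_sq {i a : ℕ} (hi : i < 8) (ha : a < 32) : fv (32 * i + a) * fv (32 * i + a) = 1 := by
  rw [fv_mul i hi a ha a ha, Nat.xor_self, fv_zero i hi]

theorem m8 (i : ℕ) : i % 8 < 8 := Nat.mod_lt _ (by decide)

/-- The eight elementary abelian subgroups of order 32 outside the group of order 64: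
`F 0 = E`, `F 1 = E'`, `F 2 = E''`, and `F 3, …, F 7` are the groups `C_A(v) ⟨v⟩` for the cosets
`v` of `rho 3, rho 1, rho 2, rho 4, rho 7`. -/
noncomputable def F (i : ℕ) : Subgroup T where
  carrier := {u | ∃ k < 32, (u : El) = fv (32 * (i % 8) + k)}
  one_mem' := ⟨0, by decide, (fv_zero _ (m8 i)).symm⟩
  mul_mem' := by
    rintro u v ⟨a, ha, e⟩ ⟨b, hb, e'⟩
    exact ⟨_, xor32 ha hb, by rw [coe_mul, e, e', fv_mul _ (m8 i) a ha b hb]⟩
  inv_mem' := by
    rintro u ⟨a, ha, e⟩
    exact ⟨a, ha, by rw [coe_inv, e]; exact inv_eq_of_mul_eq_one_right (fv_sq (m8 i) ha)⟩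

theorem mem_F {i : ℕ} (hi : i < 8) {u : T} : u ∈ F i ↔ ∃ k < 32, (u : El) = fv (32 * i + k) := by
  conv_rhs => rw [← Nat.mod_eq_of_lt hi]
  rfl

theorem ft_mem {i k : ℕ} (hi : i < 8) (hk : k < 32) : ft (32 * i + k) ∈ F i :=
  (mem_F hi).2 ⟨k, hk, rfl⟩

theorem F_ea {i : ℕ} (hi : i < 8) : EA (F i) := fun u hu => by
  obtain ⟨k, hk, e⟩ := (mem_F hi).1 hu
  exact Subtype.ext (by rw [coe_mul, e]; exact fv_sq hi hk)

/-- Counting inside one of the eight groups. -/
theorem card_inf {i : ℕ} (hi : i < 8) (Y : Subgroup T) (p : ℕ → Bool)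
    (h : ∀ k < 32, (ft (32 * i + k) ∈ Y ↔ p k = true)) : Nat.card ↥(F i ⊓ Y) = cntF p 32 := by
  classical
  have e : ((F i ⊓ Y : Subgroup T) : Set T) = (fun k => ft (32 * i + k)) ''
      ((Finset.range 32).filter fun k => p k = true : Finset ℕ) := by
    ext u
    simp only [coe_inf, Set.mem_inter_iff, SetLike.mem_coe, mem_F hi, Set.mem_image,
      Finset.mem_filter, Finset.mem_range]
    constructor
    · rintro ⟨⟨k, hk, e⟩, hu⟩
      obtain rfl : u = ft (32 * i + k) := Subtype.ext e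
      exact ⟨k, ⟨hk, (h k hk).1 hu⟩, rfl⟩
    · rintro ⟨k, ⟨hk, hp⟩, rfl⟩
      exact ⟨⟨k, hk, rfl⟩, (h k hk).2 hp⟩
  rw [cntF_eq, ← Set.ncard_coe_finset, ← Set.InjOn.ncard_image (f := fun k => ft (32 * i + k))
    (fun a ha b hb e => fv_inj i hi a (Finset.mem_range.1 (Finset.mem_filter.1 ha).1) b
      (Finset.mem_range.1 (Finset.mem_filter.1 hb).1) (congrArg Subtype.val e)), ← e]
  rfl

theorem F_card {i : ℕ} (hi : i < 8) : Nat.card (F i) = 32 := by
  have := card_inf hi ⊤ (fun _ => true) (by simp)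
  rw [inf_top_eq] at this
  exact this.trans (by decide +kernel)

theorem F_nA {i : ℕ} (hi : i < 8) : ¬ F i ≤ AT := fun h =>
  fv_nA i hi (h (ft_mem hi (by decide)))

theorem F_zero : F 0 = ET := Subgroup.ext fun u => by
  rw [mem_F (by decide), mem_ET, fv_E _ u.2]

theorem EA.comm {X : Type*} [Group X] {H : Subgroup X} (h : EA H) {x y : X} (hx : x ∈ H)
    (hy : y ∈ H) : Commute x y := by
  have := h _ (mul_mem hx hy)
  rw [commute_iff_eq, ← inv_eq_of_mul_eq_one_right this, mul_inv_rev,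
    inv_eq_of_mul_eq_one_right (h x hx), inv_eq_of_mul_eq_one_right (h y hy)]

/-- The eight groups are self-centralising. -/
theorem F_cent {i : ℕ} (hi : i < 8) {u : T} : (∀ x ∈ F i, Commute u x) ↔ u ∈ F i :=
  ⟨fun h => (mem_F hi).2 (factC i hi u u.2 fun k hk => (h _ (ft_mem hi
    (Nat.pow_lt_pow_right (by decide) hk))).map T.subtype), fun h _ hx => EA.comm (F_ea hi) h hx⟩

/-- Elementary abelian subgroups outside the group of order 64 lie in one of the eight groups. -/
theorem le_F {X : Subgroup T} (hX : EA X) (hA : ¬ X ≤ AT) : ∃ i < 8, X ≤ F i := by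
  have sq : ∀ x ∈ X, (x : El) * x = 1 := fun x hx => congrArg Subtype.val (hX x hx)
  have cm : ∀ x ∈ X, ∀ y ∈ X, Commute (x : El) y := fun x hx y hy =>
    (EA.comm hX hx hy).map T.subtype
  have iv : ∀ x ∈ X, (x : El)⁻¹ = x := fun x hx => inv_eq_of_mul_eq_one_right (sq x hx)
  have key : ∀ y ∈ X, ∀ x ∈ X, (y : El) ∉ A0 → (x : El) ∉ A0 → (x : El) * y ∉ A0 →
      (y : El) * x13 ∉ A0 → ∃ i < 8, X ≤ F i := fun y hy x hx ny nx nxy n13 => by
    obtain ⟨i, hi, H⟩ := factP y y.2 (sq y hy) ny n13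
    have hi' : i < 8 := hi.trans (by decide)
    have k : ∀ w ∈ X, (w : El) ∉ A0 → (w : El) * y ∉ A0 → w ∈ F i := fun w hw a b =>
      (mem_F hi').2 (H w w.2 (sq w hw) (cm w hw y hy) a b)
    refine ⟨i, hi', fun w hw => ?_⟩
    by_cases a : (w : El) ∈ A0
    · refine (mul_mem_cancel_right (k x hx nx nxy)).1 (k _ (mul_mem hw hx) (fun e => nx ?_)
        fun e => nxy ?_)
      · exact (mul_mem_cancel_left a).1 e
      · rw [coe_mul, mul_assoc] at e
        exact (mul_mem_cancel_left a).1 e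
    by_cases b : (w : El) * y ∈ A0
    · refine (mul_mem_cancel_right (k x hx nx nxy)).1 (k _ (mul_mem hw hx) (fun e => nxy ?_)
        fun e => nx ?_)
      · have := mul_mem (inv_mem e) b
        rwa [coe_mul, mul_inv_rev, mul_assoc, inv_mul_cancel_left, iv x hx] at this
      · rw [coe_mul, mul_assoc, (cm x hx y hy).eq, ← mul_assoc] at e
        exact (mul_mem_cancel_left b).1 e
    exact k w hw a b
  obtain ⟨y, hy, ny⟩ := SetLike.not_le_iff_exists.1 hA
  rw [mem_AT] at ny
  by_cases h : ∀ x ∈ X, (x : El) ∈ A0 ∨ (x : El) * y ∈ A0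
  · obtain ⟨i, hi, H⟩ := factQ y y.2 (sq y hy) ny
    exact ⟨i, hi, fun w hw => (mem_F hi).2 (H w w.2 (sq w hw) (cm w hw y hy) (h w hw))⟩
  push Not at h
  obtain ⟨x, hx, nx, nxy⟩ := h
  by_cases n13 : (y : El) * x13 ∈ A0
  · refine key x hx y hy nx ny (by rwa [(cm y hy x hx).eq]) fun e => nxy ?_
    have := mul_mem e (inv_mem n13)
    rwa [mul_inv_rev, mul_assoc, mul_inv_cancel_left, iv y hy] at this
  · exact key y hy x hx ny nx nxy n13

/-- The list of the elementary abelian subgroups of order 32 outside the group of order 64. -/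
theorem list32 {X : Subgroup T} (hX : EA X) (hc : Nat.card X = 32) (hA : ¬ X ≤ AT) :
    ∃ i < 8, X = F i := by
  obtain ⟨i, hi, h⟩ := le_F hX hA
  exact ⟨i, hi, eq_of_le_of_card_ge h (by rw [hc, F_card hi])⟩

/-- The order of an intersection. -/
noncomputable def cn (i j : ℕ) : ℕ :=
  cntF (fun k => anyF (fun l => Nat.beq (fvc (32 * i + k)) (fvc (32 * j + l))) 32) 32

theorem card_FF {i j : ℕ} (hi : i < 8) (hj : j < 8) : Nat.card ↥(F i ⊓ F j) = cn i j :=
  card_inf hi _ _ fun k _ => by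
    simp only [mem_F hj, ft_val, eq_iff, fv_val, anyF_iff]

theorem factM : ∀ i < 8, ∀ j < 8, i ≠ 0 → j ≠ 0 → cn i j = 16 → ∀ k < 32, ∀ l < 32,
    fv (32 * i + k) * fv (32 * j + l) * (fv (32 * i + k) * fv (32 * j + l)) = 1 ∨
      fv (32 * i + k) * fv (32 * j + l) * (fv (32 * i + k) * fv (32 * j + l)) = av 5 := by fdt

theorem factY : ∀ y : El, y ∈ T → y * y = 1 → y ∉ A0 → y ∉ E0 →
    (y * x13 ∈ A0 ∨ ¬ ∃ a < 64, av a * y ∈ E0) → ∃ i < 8, (∃ k < 32, y = fv (32 * i + k)) ∧
      ∃ j < 8, (∃ k < 32, y = fv (32 * j + k)) ∧ cn i j = 16 ∧ ∃ k < 32, ∃ l < 32,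
        fv (32 * i + k) * fv (32 * j + l) * (fv (32 * i + k) * fv (32 * j + l)) = av 5 := by fdt

/-- **MP** -/
theorem mp : MPStmt := by
  intro X Y hX hY cX cY aX aY eX eY hc x hx y hy
  obtain ⟨i, hi, rfl⟩ := list32 hX cX aX
  obtain ⟨j, hj, rfl⟩ := list32 hY cY aY
  obtain ⟨k, hk, e⟩ := (mem_F hi).1 hx
  obtain ⟨l, hl, e'⟩ := (mem_F hj).1 hy
  have := factM i hi j hj (fun h => eX (h ▸ F_zero)) (fun h => eY (h ▸ F_zero))
    ((card_FF hi hj).symm.trans hc) k hk l hl
  rw [← e, ← e'] at this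
  exact this.imp (fun h => Subtype.ext h) fun h => Subtype.ext h

theorem ET_ea : EA ET := F_zero ▸ F_ea (by decide)

theorem AT_ea : EA AT := fun u hu => by
  obtain ⟨a, ha, rfl⟩ := mem_AT'.1 hu
  exact tv_sq ha

theorem mem_sup_of {x : T} (h : ∃ a < 64, av a * x ∈ E0) : x ∈ AT ⊔ ET := by
  obtain ⟨a, ha, h⟩ := h
  exact (mul_mem_cancel_left (mem_sup_left (tv_mem ha))).1 (mem_sup_right (show tv a * x ∈ ET from h))

/-- **MZ** -/
theorem mz : MZStmt := by
  refine ⟨fun x => ⟨fun h => mem_sup_of (factZ x x.2 ?_ ?_ ?_), fun h a ha => ?_⟩,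
    fun y hy nA nE h => ?_⟩
  · exact (h (tv 1) ⟨tv_mem (by decide), mem_ET.2 (by kdt)⟩).map T.subtype
  · exact (h (tv 4) ⟨tv_mem (by decide), mem_ET.2 (by kdt)⟩).map T.subtype
  · exact (h (tv 16) ⟨tv_mem (by decide), mem_ET.2 (by kdt)⟩).map T.subtype
  · exact mem_centralizer_singleton_iff.1 ((sup_le (fun u hu => mem_centralizer_singleton_iff.2
      (EA.comm AT_ea hu ha.1)) fun u hu => mem_centralizer_singleton_iff.2
        (EA.comm ET_ea hu ha.2) : AT ⊔ ET ≤ centralizer {a}) h)
  · obtain ⟨i, hi, yi, j, hj, yj, hc, k, hk, l, hl, e⟩ := factY y y.2 (congrArg Subtype.val hy) nA nE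
      (h.imp_right fun n e => n (mem_sup_of e))
    exact ⟨F i, F j, F_ea hi, F_ea hj, F_card hi, F_card hj, F_nA hi, F_nA hj,
      (card_FF hi hj).trans hc, fun x hx => EA.comm (F_ea hi) hx ((mem_F hi).2 yi),
      fun x hx => EA.comm (F_ea hj) hx ((mem_F hj).2 yj), _, ft_mem hi hk, _, ft_mem hj hl,
      Subtype.ext e⟩

theorem eqns : True := by
  have := @ftab.eq_1; have := @fv.eq_1; have := @fvc.eq_1; have := @allT.eq_1
  have := @ft.eq_1; have := @F.eq_1; have := @cn.eq_1; trivial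

end Cfsg.Agent.H30.A12
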