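import Cfsg.Agent.H63.AnDefs2
import Cfsg.Agent.H19.S94Zs

/-! The theorem on isolated involutions modulo a central involution. -/

set_option autoImplicit false

namespace Cfsg.Agent.H30.AnZs

open Cfsg.Agent.H63.AN

universe u

theorem zs : ZsStmt.{u} := by
  intro G _ _ t u tt uu _ _ _ tu h c hc
  refine H19.S94Z.zstar uu tt tu.eq (fun c hc k => h c hc ?_) hc.eq
  rw [commutatorElement_def]
  rcases k with k | k <;> rw [k]
  · exact Or.inl (mul_inv_cancel t)
  · exact Or.inr (by rw [tu.eq, mul_inv_cancel_right])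

end Cfsg.Agent.H30.AnZs
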