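import Cfsg.Agent.H30.CM5Asm
import Cfsg.Agent.H28.CmS
import Cfsg.Agent.H3.CM5Ext
import Cfsg.Agent.H69.Cm5Mon

/-! The geometric maximal subgroups of `SL₅` and `SU₅`, given the residual lists. -/

set_option autoImplicit false

open Cfsg Cfsg.Geo

namespace Cfsg.Agent.H30.CM5

universe u

variable {F : Type u} [Field F] [Fintype F]

theorem fin5792 (hL : LinRes.{u}) :
    (∀ W : Submodule F (Fin 5 → F), W ≠ ⊥ → W ≠ ⊤ → IsMaximalIn (specialLinear (Fin 5) F) (subspaceStabilizer W ⊓ specialLinear (Fin 5) F)) ∧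
    (5 ≤ Fintype.card F → ∀ D : Fin 5 → Submodule F (Fin 5 → F), IsMDecomposition 1 D → IsMaximalIn (specialLinear (Fin 5) F) (decompositionStabilizer D ⊓ specialLinear (Fin 5) F)) ∧
    (∀ K : Subalgebra F (M5 F), IsFieldSubalgebra 5 K → IsMaximalIn (specialLinear (Fin 5) F) (subalgebraNormalizer K ⊓ specialLinear (Fin 5) F)) ∧
    (∀ (F₀ : Subfield F) (r : ℕ) (P : G5 F), r.Prime → Fintype.card F = Nat.card F₀ ^ r → IsMaximalIn (specialLinear (Fin 5) F) (subfieldSubgroup F₀ P ⊓ specialLinear (Fin 5) F)) ∧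
    ((∃ p : ℕ, p.Prime ∧ Fintype.card F = p ∧ (p % 5 = 1)) → ∀ R : Subgroup (G5 F), IsLinearSymplecticTypeData 5 R → IsMaximalIn (specialLinear (Fin 5) F) (subgroupNormalizer R ⊓ specialLinear (Fin 5) F)) ∧
    (Odd (Fintype.card F) → ∀ Q : (Fin 5 → F) → F, IsNondegenerateQuadraticForm Q → IsMaximalIn (specialLinear (Fin 5) F) (quadSimilarityGroup Q ⊓ specialLinear (Fin 5) F)) ∧
    (∀ (σ : F ≃+* F) (f : (Fin 5 → F) → (Fin 5 → F) → F), IsUnitaryForm σ f → IsMaximalIn (specialLinear (Fin 5) F) (similarityGroup f ⊓ specialLinear (Fin 5) F)) :=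
  s5792 hL H28.CmS.sing H28.CmS.singF H3.CM5E.ext

theorem fin5795 (hU : UniRes.{u}) (q : ℕ) (hF : Fintype.card F = q ^ 2) :
    (∀ W : Submodule F (Fin 5 → F), W ≠ ⊥ → IsTotallySingularFor (hermForm 5 F q) W → IsMaximalIn (GU 5 F q ⊓ specialLinear (Fin 5) F) (subspaceStabilizer W ⊓ (GU 5 F q ⊓ specialLinear (Fin 5) F))) ∧
    (∀ W : Submodule F (Fin 5 → F), W ≠ ⊥ → IsNondegenerateOn (hermForm 5 F q) W → 2 * Module.finrank F W < 5 → IsMaximalIn (GU 5 F q ⊓ specialLinear (Fin 5) F) (subspaceStabilizer W ⊓ (GU 5 F q ⊓ specialLinear (Fin 5) F))) ∧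
    (∀ D : Fin 5 → Submodule F (Fin 5 → F), IsNondegenerateMDecomposition (hermForm 5 F q) 1 D → IsMaximalIn (GU 5 F q ⊓ specialLinear (Fin 5) F) (decompositionStabilizer D ⊓ (GU 5 F q ⊓ specialLinear (Fin 5) F))) ∧
    (3 ≤ q → ∀ K : Subalgebra F (M5 F), IsFieldSubalgebra 5 K → IsAdjointClosedFor (hermForm 5 F q) K → IsMaximalIn (GU 5 F q ⊓ specialLinear (Fin 5) F) (subalgebraNormalizer K ⊓ (GU 5 F q ⊓ specialLinear (Fin 5) F))) ∧
    (∀ (F₀ : Subfield F) (r : ℕ) (P : G5 F), r.Prime → Odd r → Fintype.card F = Nat.card F₀ ^ r → IsFormRationalStructure (hermForm 5 F q) F₀ 1 P → IsMaximalIn (GU 5 F q ⊓ specialLinear (Fin 5) F) (subfieldSubgroup F₀ P ⊓ (GU 5 F q ⊓ specialLinear (Fin 5) F))) ∧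
    (Odd q → ∀ (F₀ : Subfield F) (P : G5 F), Fintype.card F = Nat.card F₀ ^ 2 → IsFormRationalStructure (hermForm 5 F q) F₀ 1 P → IsMaximalIn (GU 5 F q ⊓ specialLinear (Fin 5) F) (subfieldSubgroup F₀ P ⊓ (GU 5 F q ⊓ specialLinear (Fin 5) F))) ∧
    (∀ (p : ℕ) (R : Subgroup (G5 F)), p.Prime → CharP F p → ((q = p ∧ p % 5 = 4) ∨ (q = p ^ 2 ∧ (p % 5 = 2 ∨ p % 5 = 3))) → IsSymplecticTypeGroup 5 R → ActsAbsolutelyIrreducibly (matrixSet R) → R ≤ similarityGroup (hermForm 5 F q) → Nat.card R = 125 → Nat.card (Subgroup.center R) = 5 → IsMaximalIn (GU 5 F q ⊓ specialLinear (Fin 5) F) (subgroupNormalizer R ⊓ (GU 5 F q ⊓ specialLinear (Fin 5) F))) :=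
  s5795 hU H28.CmS.sing H28.CmS.singF H3.CM5E.ext H69.Cm5.mon q hF

end Cfsg.Agent.H30.CM5
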