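import Cfsg.Agent.H44.CkDefs
import Cfsg.Agent.H31.HermSU

/-! The groups `U₃(3)` and `U₃(5)` have at least twelve conjugacy classes. -/

set_option autoImplicit false

namespace Cfsg.Agent.H30.CkU

open Subgroup Matrix Cfsg.Agent.H44.CK
open scoped MatrixGroups

/-- class invariants modulo scalars `z` with `z ^ m = 1` -/
def Same {K : Type} [CommRing K] (m : ℕ) (A B : Matrix (Fin 3) (Fin 3) K) : Prop :=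
  A.trace ^ m = B.trace ^ m ∧ (A ^ m * A ^ m = 1 ↔ B ^ m * B ^ m = 1) ∧
    ((A ^ m - 1) * (A ^ m - 1) = 0 ↔ (B ^ m - 1) * (B ^ m - 1) = 0)

instance {K : Type} [CommRing K] [DecidableEq K] (m : ℕ) (A B : Matrix (Fin 3) (Fin 3) K) :
    Decidable (Same m A B) := by unfold Same; infer_instance

theorem same_conj {F : Type} [CommRing F] (m : ℕ) {C D M : Matrix (Fin 3) (Fin 3) F} {z : F}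
    (h1 : C * D = 1) (h2 : D * C = 1) (hz : z ^ m = 1) : Same m M (z • (C * M * D)) := by
  have mu : ∀ A B, C * A * D * (C * B * D) = C * (A * B) * D := fun A B => by
    calc _ = C * A * (D * C) * B * D := by simp only [Matrix.mul_assoc]
      _ = _ := by rw [h2]; simp only [Matrix.mul_assoc, Matrix.mul_one]
  have tr : (C * M * D).trace = M.trace := by
    rw [Matrix.trace_mul_cycle, h2, Matrix.one_mul]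
  have ij : ∀ A B, C * A * D = C * B * D ↔ A = B := fun A B => ⟨fun h => by
    have := congrArg (fun X => D * X * C) h
    simpa only [← Matrix.mul_assoc, h2, Matrix.one_mul, Matrix.mul_assoc _ D C, Matrix.mul_one]
      using this, fun h => by rw [h]⟩
  have o : ∀ A, C * A * D = 1 ↔ A = 1 := fun A => by rw [← ij A 1, Matrix.mul_one, h1]
  have z0 : ∀ A, C * A * D = 0 ↔ A = 0 := fun A => by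
    rw [← ij A 0, Matrix.mul_zero, Matrix.zero_mul]
  have s : ∀ A, C * A * D - 1 = C * (A - 1) * D := fun A => by
    rw [Matrix.mul_sub, Matrix.sub_mul, Matrix.mul_one, h1]
  have pw : ∀ k, (C * M * D) ^ k = C * M ^ k * D := fun k => by
    induction k with
    | zero => rw [pow_zero, pow_zero, Matrix.mul_one, h1]
    | succ k ih => rw [pow_succ, ih, mu, ← pow_succ]
  refine ⟨by rw [Matrix.trace_smul, smul_eq_mul, mul_pow, hz, one_mul, tr], ?_, ?_⟩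
  · rw [smul_pow, hz, one_smul, pw, mu, o]
  · rw [smul_pow, hz, one_smul, pw, s, mu, z0]

theorem same_map {K F : Type} [CommRing K] [CommRing F] (e : K →+* F) (he : Function.Injective e)
    (m : ℕ) {A B : Matrix (Fin 3) (Fin 3) K} (h : Same m (A.map e) (B.map e)) : Same m A B := by
  have hi : Function.Injective (e.mapMatrix : Matrix (Fin 3) (Fin 3) K →+* _) :=
    Matrix.map_injective he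
  have a : ∀ X : Matrix (Fin 3) (Fin 3) K, X.map e = e.mapMatrix X := fun _ => rfl
  have t : ∀ X : Matrix (Fin 3) (Fin 3) K, (X.map e).trace = e X.trace := fun X =>
    (AddMonoidHom.map_trace e X).symm
  obtain ⟨h1, h2, h3⟩ := h
  refine ⟨he (by rw [map_pow, map_pow, ← t, ← t, h1]), ?_, ?_⟩
  · rw [← hi.eq_iff, ← hi.eq_iff (a := B ^ m * B ^ m)]
    simpa only [map_mul, map_pow, map_one, a] using h2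
  · rw [← hi.eq_iff, ← hi.eq_iff (a := (B ^ m - 1) * (B ^ m - 1))]
    simpa only [map_mul, map_pow, map_one, map_sub, map_zero, a] using h3

theorem lower {K F : Type} [CommRing K] [Field F] [Fintype F] {q : ℕ} (hF : Fintype.card F = q ^ 2)
    (e : K →+* F) (he : Function.Injective e) (m : ℕ) (hz : ∀ z : F, z ^ 3 = 1 → z ^ m = 1)
    (A : Fin 12 → Matrix (Fin 3) (Fin 3) K) (hd : ∀ i, (A i).det = 1)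
    (hU : ∀ i, (A i)ᵀ * (A i).map (· ^ q) = 1) (hi : ∀ i j, Same m (A i) (A j) → i = j) :
    12 ≤ kk (Cfsg.PSU 3 F q) := by
  have hd' : ∀ i, ((A i).map e).det = 1 := fun i => by
    have := e.map_det (A i)
    rw [hd, map_one] at this
    exact this.symm
  have hU' : ∀ i, ((A i).map e)ᵀ * ((A i).map e).map (H31.frobQ hF) = 1 := fun i => by
    have := congrArg (e.mapMatrix : Matrix (Fin 3) (Fin 3) K →+* _) (hU i)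
    rw [map_mul, map_one] at this
    rw [← this]
    congr 1
    ext j k
    simp
  have mem : ∀ i, (⟨(A i).map e, hd' i⟩ : SL(3, F)) ∈ Cfsg.SU 3 F q := fun i u v => by
    have hv : ∀ w : Fin 3 → F, Cfsg.hermForm 3 F q u w = u ⬝ᵥ (H31.frobQ hF ∘ w) := fun _ => rfl
    change ((A i).map e *ᵥ u) ⬝ᵥ (H31.frobQ hF ∘ ((A i).map e *ᵥ v)) = _
    have : H31.frobQ hF ∘ ((A i).map e *ᵥ v) =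
        ((A i).map e).map (H31.frobQ hF) *ᵥ (H31.frobQ hF ∘ v) := by
      funext j
      exact RingHom.map_mulVec (H31.frobQ hF) _ v j
    rw [hv, this, ← Matrix.vecMul_transpose, Matrix.dotProduct_mulVec, Matrix.vecMul_vecMul, hU',
      Matrix.vecMul_one]
  have := Nat.card_le_card_of_injective
    (fun i : Fin 12 => ConjClasses.mk
      (QuotientGroup.mk ⟨_, mem i⟩ : Cfsg.PSU 3 F q)) fun i j h => by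
      obtain ⟨c, hc⟩ := isConj_iff.1 (ConjClasses.mk_eq_mk_iff_isConj.1 h)
      obtain ⟨c, rfl⟩ := QuotientGroup.mk_surjective c
      rw [← QuotientGroup.mk_inv, ← QuotientGroup.mk_mul, ← QuotientGroup.mk_mul,
        QuotientGroup.eq] at hc
      obtain ⟨z, hz'⟩ := (H31.mem_center_SU_iff hF (by norm_num)).1 hc
      refine hi i j (same_map e he m ?_)
      set X : Cfsg.SU 3 F q := (c * ⟨_, mem i⟩ * c⁻¹)⁻¹ * ⟨_, mem j⟩ with hX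
      have hz3 : z ^ 3 = 1 := by
        have := X.1.2
        rw [hz', Matrix.det_smul, Matrix.det_one, mul_one, Fintype.card_fin] at this
        exact this
      have e1 : (⟨_, mem j⟩ : Cfsg.SU 3 F q) = c * ⟨_, mem i⟩ * c⁻¹ * X := by
        rw [hX, mul_inv_cancel_left]
      have e2 : (A j).map e = c.1.1 * (A i).map e * (c⁻¹).1.1 * X.1.1 :=
        congrArg (fun g : Cfsg.SU 3 F q => g.1.1) e1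
      rw [hz', Matrix.mul_smul, Matrix.mul_one] at e2
      rw [e2]
      exact same_conj m (congrArg (fun g : Cfsg.SU 3 F q => g.1.1) (mul_inv_cancel c))
        (congrArg (fun g : Cfsg.SU 3 F q => g.1.1) (inv_mul_cancel c)) (hz z hz3)
  simpa using this

theorem exists_emb (p : ℕ) [Fact p.Prime] (h : ∀ r : ZMod p, r ^ 2 ≠ 2 + 0 * r) (F : Type)
    [Field F] [Fintype F] (hF : Fintype.card F = p ^ 2) :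
    ∃ e : QuadraticAlgebra (ZMod p) 2 0 →+* F, Function.Injective e := by
  have := Fact.mk h
  let : Fintype (QuadraticAlgebra (ZMod p) 2 0) :=
    Fintype.ofEquiv _ (QuadraticAlgebra.equivProd 2 0).symm
  let e : QuadraticAlgebra (ZMod p) 2 0 ≃+* F := FiniteField.ringEquivOfCardEq (by
    rw [hF, Fintype.card_congr (QuadraticAlgebra.equivProd 2 0), Fintype.card_prod, ZMod.card, sq])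
  exact ⟨e.toRingHom, e.injective⟩

/-- representatives for `q = 3` -/
def rep3 : Fin 12 → Matrix (Fin 3) (Fin 3) (QuadraticAlgebra (ZMod 3) 2 0) :=
  ![!![⟨0, 0⟩, ⟨0, 0⟩, ⟨0, 2⟩; ⟨1, 0⟩, ⟨0, 0⟩, ⟨0, 0⟩; ⟨0, 0⟩, ⟨0, 1⟩, ⟨0, 0⟩],
    !![⟨1, 1⟩, ⟨1, 2⟩, ⟨0, 0⟩; ⟨2, 2⟩, ⟨1, 2⟩, ⟨0, 0⟩; ⟨0, 0⟩, ⟨0, 0⟩, ⟨1, 0⟩],
    !![⟨1, 0⟩, ⟨0, 0⟩, ⟨0, 0⟩; ⟨0, 0⟩, ⟨1, 0⟩, ⟨0, 0⟩; ⟨0, 0⟩, ⟨0, 0⟩, ⟨1, 0⟩],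
    !![⟨0, 0⟩, ⟨2, 0⟩, ⟨0, 0⟩; ⟨0, 2⟩, ⟨0, 0⟩, ⟨0, 0⟩; ⟨0, 0⟩, ⟨0, 0⟩, ⟨0, 1⟩],
    !![⟨0, 0⟩, ⟨0, 2⟩, ⟨0, 0⟩; ⟨1, 0⟩, ⟨0, 0⟩, ⟨0, 0⟩; ⟨0, 0⟩, ⟨0, 0⟩, ⟨0, 2⟩],
    !![⟨0, 2⟩, ⟨0, 0⟩, ⟨0, 0⟩; ⟨0, 0⟩, ⟨0, 1⟩, ⟨0, 0⟩; ⟨0, 0⟩, ⟨0, 0⟩, ⟨1, 0⟩],
    !![⟨1, 1⟩, ⟨0, 0⟩, ⟨1, 1⟩; ⟨1, 1⟩, ⟨0, 0⟩, ⟨2, 2⟩; ⟨0, 0⟩, ⟨0, 2⟩, ⟨0, 0⟩],
    !![⟨1, 2⟩, ⟨1, 2⟩, ⟨0, 0⟩; ⟨0, 0⟩, ⟨0, 0⟩, ⟨0, 1⟩; ⟨1, 2⟩, ⟨2, 1⟩, ⟨0, 0⟩],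
    !![⟨2, 2⟩, ⟨1, 2⟩, ⟨0, 0⟩; ⟨2, 2⟩, ⟨2, 1⟩, ⟨0, 0⟩; ⟨0, 0⟩, ⟨0, 0⟩, ⟨1, 0⟩],
    !![⟨2, 0⟩, ⟨0, 0⟩, ⟨0, 0⟩; ⟨0, 0⟩, ⟨0, 0⟩, ⟨0, 2⟩; ⟨0, 0⟩, ⟨0, 1⟩, ⟨0, 0⟩],
    !![⟨0, 2⟩, ⟨0, 0⟩, ⟨0, 0⟩; ⟨0, 0⟩, ⟨2, 0⟩, ⟨0, 0⟩; ⟨0, 0⟩, ⟨0, 0⟩, ⟨0, 2⟩],
    !![⟨0, 1⟩, ⟨0, 0⟩, ⟨0, 0⟩; ⟨0, 0⟩, ⟨2, 0⟩, ⟨0, 0⟩; ⟨0, 0⟩, ⟨0, 0⟩, ⟨0, 1⟩]]

/-- representatives for `q = 5` -/
def rep5 : Fin 12 → Matrix (Fin 3) (Fin 3) (QuadraticAlgebra (ZMod 5) 2 0) :=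
  ![!![⟨0, 0⟩, ⟨4, 0⟩, ⟨0, 0⟩; ⟨0, 0⟩, ⟨0, 0⟩, ⟨3, 3⟩; ⟨2, 3⟩, ⟨0, 0⟩, ⟨0, 0⟩],
    !![⟨0, 2⟩, ⟨0, 0⟩, ⟨1, 1⟩; ⟨1, 1⟩, ⟨0, 0⟩, ⟨2, 4⟩; ⟨0, 0⟩, ⟨2, 2⟩, ⟨0, 0⟩],
    !![⟨1, 2⟩, ⟨0, 0⟩, ⟨1, 2⟩; ⟨0, 1⟩, ⟨0, 0⟩, ⟨0, 4⟩; ⟨0, 0⟩, ⟨3, 3⟩, ⟨0, 0⟩],
    !![⟨0, 4⟩, ⟨4, 3⟩, ⟨0, 0⟩; ⟨0, 0⟩, ⟨0, 0⟩, ⟨3, 3⟩; ⟨0, 4⟩, ⟨1, 2⟩, ⟨0, 0⟩],
    !![⟨3, 1⟩, ⟨1, 1⟩, ⟨0, 0⟩; ⟨0, 0⟩, ⟨0, 0⟩, ⟨2, 2⟩; ⟨1, 1⟩, ⟨0, 3⟩, ⟨0, 0⟩],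
    !![⟨1, 4⟩, ⟨0, 0⟩, ⟨0, 2⟩; ⟨1, 4⟩, ⟨1, 1⟩, ⟨0, 1⟩; ⟨1, 2⟩, ⟨3, 4⟩, ⟨4, 0⟩],
    !![⟨0, 0⟩, ⟨1, 1⟩, ⟨0, 3⟩; ⟨3, 2⟩, ⟨0, 0⟩, ⟨0, 0⟩; ⟨0, 0⟩, ⟨2, 1⟩, ⟨3, 0⟩],
    !![⟨1, 0⟩, ⟨0, 0⟩, ⟨0, 0⟩; ⟨0, 0⟩, ⟨1, 2⟩, ⟨0, 1⟩; ⟨0, 0⟩, ⟨0, 1⟩, ⟨1, 3⟩],
    !![⟨1, 0⟩, ⟨0, 0⟩, ⟨0, 0⟩; ⟨0, 0⟩, ⟨1, 0⟩, ⟨0, 0⟩; ⟨0, 0⟩, ⟨0, 0⟩, ⟨1, 0⟩],
    !![⟨0, 4⟩, ⟨0, 4⟩, ⟨0, 0⟩; ⟨1, 2⟩, ⟨4, 3⟩, ⟨0, 0⟩; ⟨0, 0⟩, ⟨0, 0⟩, ⟨3, 3⟩],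
    !![⟨0, 1⟩, ⟨0, 1⟩, ⟨0, 0⟩; ⟨4, 2⟩, ⟨1, 3⟩, ⟨0, 0⟩; ⟨0, 0⟩, ⟨0, 0⟩, ⟨2, 3⟩],
    !![⟨3, 2⟩, ⟨0, 0⟩, ⟨0, 0⟩; ⟨0, 0⟩, ⟨0, 0⟩, ⟨3, 2⟩; ⟨0, 0⟩, ⟨3, 2⟩, ⟨0, 0⟩]]

theorem det3 : ∀ i, (rep3 i).det = 1 := by
  intro i
  rw [Matrix.det_fin_three]
  revert i
  decide +kernel

theorem det5 : ∀ i, (rep5 i).det = 1 := by
  intro i
  rw [Matrix.det_fin_three]
  revert i
  decide +kernel

theorem uni3 : ∀ i, (rep3 i)ᵀ * (rep3 i).map (· ^ 3) = 1 := by decide +kernel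

theorem uni5 : ∀ i, (rep5 i)ᵀ * (rep5 i).map (· ^ 5) = 1 := by decide +kernel

theorem inj3 : ∀ i j, Same 1 (rep3 i) (rep3 j) → i = j := by decide +kernel

theorem inj5 : ∀ i j, Same 3 (rep5 i) (rep5 j) → i = j := by decide +kernel

theorem ns3 : ∀ r : ZMod 3, r ^ 2 ≠ 2 + 0 * r := by decide

theorem ns5 : ∀ r : ZMod 5, r ^ 2 ≠ 2 + 0 * r := by decide

theorem ku3 : KU3Stmt := by
  intro F _ _ hF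
  have := Fact.mk Nat.prime_three
  obtain ⟨e, he⟩ := exists_emb 3 ns3 F hF
  refine lower hF e he 1 (fun z hz => ?_) rep3 det3 uni3 inj3
  have := FiniteField.pow_card z
  rw [hF, sq, pow_mul, hz, one_pow] at this
  rw [← this, one_pow]

theorem ku5 : KU5Stmt := by
  intro F _ _ hF
  have := Fact.mk Nat.prime_five
  obtain ⟨e, he⟩ := exists_emb 5 ns5 F hF
  exact lower hF e he 3 (fun z hz => hz) rep5 det5 uni5 inj5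

theorem eqns : True := by
  have := @Same.eq_1
  have := @rep3.eq_1
  have := @rep5.eq_1
  trivial

end Cfsg.Agent.H30.CkU
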