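import Cfsg.Agent.H74.CksDefs
import Cfsg.Agent.S2144
import Cfsg.Agent.S0292
import Cfsg.Agent.H82.Zsigmondy

/-!
# The groups `PΩ_{2n+1}(3)` have no doubly transitive action of degree a power of three
-/

set_option autoImplicit false
set_option linter.unusedSectionVars false

namespace Cfsg.Agent.H30.CksOb3

open Cfsg.Agent.H30 Cfsg.Agent.H33 Cfsg.Agent.H33.OD QuadraticMap Module Finset

/-! ### Group theory -/

/-- A subgroup of index prime to the degree of a transitive action is transitive. -/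
theorem trans_of_coprime {G Ω : Type*} [Group G] [MulAction G Ω] [Finite Ω]
    [MulAction.IsPretransitive G Ω] (L : Subgroup G) (h : (Nat.card Ω).Coprime L.index)
    (ω ω' : Ω) : ∃ l ∈ L, l • ω = ω' := by
  have h1 : (MulAction.stabilizer G ω).index = Nat.card Ω :=
    MulAction.index_stabilizer_of_transitive G ω
  have h2 : (MulAction.stabilizer L ω).index = (MulAction.orbit L ω).ncard :=
    MulAction.index_stabilizer L ω
  have h3 : (MulAction.stabilizer G ω).relIndex L = (MulAction.orbit L ω).ncard := by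
    rw [← h2]
    rfl
  have h4 : Nat.card Ω ∣ (MulAction.orbit L ω).ncard * L.index := by
    rw [← h3, ← Subgroup.inf_relIndex_right, Subgroup.relIndex_mul_index inf_le_right, ← h1]
    exact Subgroup.index_dvd_of_le inf_le_left
  have h5 := h.dvd_of_dvd_mul_right h4
  have h6 : 0 < (MulAction.orbit L ω).ncard :=
    (Set.ncard_pos (Set.toFinite _)).2 ⟨ω, MulAction.mem_orbit_self ω⟩
  have h7 : MulAction.orbit L ω = Set.univ :=
    Set.eq_of_subset_of_ncard_le (Set.subset_univ _)
      (by rw [Set.ncard_univ]; exact Nat.le_of_dvd h6 h5) (Set.toFinite _)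
  obtain ⟨l, hl⟩ : ω' ∈ MulAction.orbit L ω := h7 ▸ Set.mem_univ _
  exact ⟨l, l.2, hl⟩

/-- No subgroup of index three if the squares come from a perfect group. -/
theorem no_index_three {A K : Type*} [Group A] [Finite A] [Group K] [Group.IsPerfect K]
    (ι : K →* A) (M : Subgroup A) (hM : M.index = 3)
    (h : ∀ g : A, ∃ s ∈ M.normalCore, ∃ k, (s * g) * (s * g) = ι k) : False := by
  classical
  have := Fintype.ofFinite (A ⧸ M)
  have hc : Nat.card (Equiv.Perm (A ⧸ M)) = 6 := by
    rw [Nat.card_eq_fintype_card, Fintype.card_perm, ← Nat.card_eq_fintype_card]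
    change (M.index).factorial = 6
    rw [hM]
    rfl
  have hz : IsZGroup (Equiv.Perm (A ⧸ M)) := IsZGroup.of_squarefree (by
    rw [hc]
    exact (Nat.squarefree_mul (by norm_num : Nat.Coprime 2 3)).2
      ⟨Nat.prime_two.prime.squarefree, Nat.prime_three.prime.squarefree⟩)
  let ψ := MulAction.toPermHom A (A ⧸ M)
  have hp : Group.IsPerfect (ψ.comp ι).range := Group.IsPerfect.range _
  have hk : ∀ k, ι k ∈ M.normalCore := fun k => by
    rw [Subgroup.normalCore_eq_ker, MonoidHom.mem_ker]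
    by_contra hne
    have : Nontrivial (ψ.comp ι).range :=
      ⟨⟨⟨_, k, rfl⟩, 1, fun he => hne (congrArg Subtype.val he)⟩⟩
    exact Group.IsPerfect.not_isSolvable (ψ.comp ι).range inferInstance
  have h3 : 3 ∣ Nat.card (A ⧸ M.normalCore) :=
    hM ▸ Subgroup.index_dvd_of_le M.normalCore_le
  have : Fact (Nat.Prime 3) := ⟨by decide⟩
  obtain ⟨a, ha⟩ := exists_prime_orderOf_dvd_card' 3 h3
  obtain ⟨g, rfl⟩ := QuotientGroup.mk'_surjective _ a
  obtain ⟨s, hs, k, hsk⟩ := h g
  have h1 : QuotientGroup.mk' M.normalCore s = 1 := (QuotientGroup.eq_one_iff s).2 hs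
  have h2 := (QuotientGroup.eq_one_iff _).2 (hk k)
  change QuotientGroup.mk' M.normalCore (ι k) = 1 at h2
  rw [← hsk, map_mul, map_mul, h1, one_mul, ← pow_two] at h2
  have := orderOf_dvd_of_pow_eq_one h2
  rw [ha] at this
  omega

/-! ### Geometry -/

variable {F V : Type*} [Field F] [Fintype F] [AddCommGroup V] [Module F V] [FiniteDimensional F V]
  [Fintype V] {Q : QuadraticForm F V} {Ω : Type*} [MulAction (eichGroup Q) Ω] [Fintype Ω]
  {x x' : V}

variable (Q) in
/-- The stabiliser of `x` and of the class of `v` modulo `x`. -/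
def L2 (x v : V) : Subgroup (eichGroup Q) where
  carrier := {g | g • x = x ∧ g • v - v ∈ F ∙ x}
  one_mem' := ⟨one_smul _ _, by rw [one_smul, sub_self]; exact zero_mem _⟩
  mul_mem' {a b} ha hb := ⟨by rw [mul_smul, hb.1, ha.1], by
    obtain ⟨c, hc⟩ := Submodule.mem_span_singleton.1 hb.2
    have : (a * b) • v - v = c • x + (a • v - v) := by
      rw [mul_smul, ← sub_add_cancel (b • v) v, ← hc, gsmul_add, gsmul_smul, ha.1]
      abel
    rw [this]
    exact add_mem (Submodule.smul_mem _ _ (Submodule.mem_span_singleton_self x)) ha.2⟩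
  inv_mem' {a} ha := ⟨by rw [inv_smul_eq_iff, ha.1], by
    obtain ⟨c, hc⟩ := Submodule.mem_span_singleton.1 ha.2
    have h1 : a⁻¹ • x = x := by rw [inv_smul_eq_iff, ha.1]
    have : a⁻¹ • v - v = (-c) • x := by
      have h2 := congrArg (fun z => a⁻¹ • z) hc
      simp only [gsmul_smul, gsmul_sub, inv_smul_smul, h1] at h2
      rw [neg_smul, h2]
      abel
    rw [this]
    exact Submodule.smul_mem _ _ (Submodule.mem_span_singleton_self x)⟩

theorem eqns : True := by
  have := @L2.eq_1.{0, 0}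
  trivial

theorem mem_L2 {v : V} {g : eichGroup Q} : g ∈ L2 Q x v ↔ g • x = x ∧ g • v - v ∈ F ∙ x :=
  Iff.rfl

theorem index_stab (hQ : (polarBilin Q).Nondegenerate) (h5 : 5 ≤ finrank F V) (hx0 : x ≠ 0)
    (hx : Q x = 0) : (MulAction.stabilizer (eichGroup Q) x).index = (sing Q).card := by
  rw [MulAction.index_stabilizer, ← Set.ncard_coe_finset]
  congr 1
  ext y
  rw [Finset.mem_coe, mem_sing]
  constructor
  · rintro ⟨g, rfl⟩
    exact ⟨gsmul_ne_zero g hx0, (Q_gsmul g x).trans hx⟩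
  · rintro ⟨h0, h1⟩
    exact exists_smul_eq_one hQ h5 hx0 h0 (hx.trans h1.symm)

theorem hproj_eq_iff (h : IsHyp Q x x') {a b : V} (ha : polar Q x a = 0) (hb : polar Q x b = 0) :
    hproj Q x x' a = hproj Q x x' b ↔ a - b ∈ F ∙ x := by
  constructor
  · intro he
    rw [hproj_eq h ha, hproj_eq h hb, he, Submodule.mem_span_singleton]
    exact ⟨polar Q a x' - polar Q b x', by rw [sub_smul]; abel⟩
  · intro he
    obtain ⟨c, hc⟩ := Submodule.mem_span_singleton.1 he
    rw [← sub_add_cancel a b, ← hc]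
    simp only [hproj, polar_add_left, polar_smul_left', h.pol, h.polar_left]
    module

theorem exists_two (hQ : (polarBilin Q).Nondegenerate) (h7 : 7 ≤ finrank F V) (hx0 : x ≠ 0)
    (hx : Q x = 0) {v w : V} (hv : polar Q x v = 0) (hw : polar Q x w = 0) (hvx : v ∉ F ∙ x)
    (hwx : w ∉ F ∙ x) (h : Q v = Q w) : ∃ g : eichGroup Q, g • x = x ∧ g • v = w := by
  simpa using exists_smul_eq_two hQ h7 hx0 hx hv hw hvx hwx (t := 1) one_ne_zero (by simp [h])

theorem relIndex_L2 (hQ : (polarBilin Q).Nondegenerate) (h7 : 7 ≤ finrank F V) (h : IsHyp Q x x')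
    {v : V} (hv : polar Q x v = 0) (hvx : v ∉ F ∙ x) (hv0 : Q v = 0) :
    (L2 Q x v).relIndex (MulAction.stabilizer (eichGroup Q) x) = (cl Q x x' 0).card := by
  rw [Subgroup.relIndex, index_eq_card_range _
    (fun g : MulAction.stabilizer (eichGroup Q) x => hproj Q x x' (g.1 • v)),
    Nat.card_coe_set_eq, ← Set.ncard_coe_finset]
  · congr 1
    ext w
    rw [Finset.mem_coe, mem_cl_zero, mem_nz]
    constructor
    · rintro ⟨g, rfl⟩
      have h1 := polar_gsmul_zero' g.2 hv
      refine ⟨⟨h.hproj_mem _, fun h0 => hvx ?_⟩, by rw [Q_hproj h h1, Q_gsmul, hv0]⟩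
      have h2 := hproj_eq h h1
      dsimp only at h0
      rw [h0, zero_add, smul_eq_iff_eq_inv_smul, gsmul_smul,
        show g.1⁻¹ • x = x from g⁻¹.2] at h2
      rw [h2]
      exact Submodule.smul_mem _ _ (Submodule.mem_span_singleton_self x)
    · rintro ⟨⟨h1, h2⟩, h3⟩
      obtain ⟨g, hg1, hg2⟩ := exists_two hQ h7 h.left_ne_zero h.left hv (hperp_polar h1) hvx
        (not_mem_span_of_hperp h h1 h2) (hv0.trans h3.symm)
      refine ⟨⟨g, hg1⟩, ?_⟩
      simp only [hg2, hproj, h1.1, h1.2, zero_smul, sub_zero]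
  · intro g g'
    rw [hproj_eq_iff h (polar_gsmul_zero' g.2 hv) (polar_gsmul_zero' g'.2 hv),
      Subgroup.mem_subgroupOf, mem_L2]
    have hi : g.1⁻¹ • x = x := g⁻¹.2
    have he : ((g⁻¹ * g' : MulAction.stabilizer (eichGroup Q) x) : eichGroup Q) • v - v =
        g.1⁻¹ • (-(g.1 • v - g'.1 • v)) := by
      rw [neg_sub, gsmul_sub, inv_smul_smul, ← mul_smul]
      rfl
    rw [he]
    constructor
    · intro h1
      obtain ⟨c, hc⟩ := Submodule.mem_span_singleton.1 h1
      refine ⟨(g⁻¹ * g').2, ?_⟩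
      rw [← hc, gsmul_neg, gsmul_smul, hi]
      exact neg_mem (Submodule.smul_mem _ _ (Submodule.mem_span_singleton_self x))
    · rintro ⟨-, h1⟩
      obtain ⟨c, hc⟩ := Submodule.mem_span_singleton.1 h1
      rw [eq_inv_smul_iff, gsmul_smul, show g.1 • x = x from g.2] at hc
      rw [← neg_mem_iff, ← hc]
      exact Submodule.smul_mem _ _ (Submodule.mem_span_singleton_self x)

theorem three_dvd_nc {W : Type*} [AddCommGroup W] [Module F W] [FiniteDimensional F W]
    {R : QuadraticForm F W} (hR : (polarBilin R).Nondegenerate) (hF : Fintype.card F = 3)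
    (h3 : 3 ≤ finrank F W) : 3 ∣ nc R 0 := by
  obtain ⟨e, f, h⟩ := exists_isHyp_of_three_le hR h3
  have := h.finrank_hperp
  rw [h.nc_eq, Nat.card_eq_fintype_card, hF]
  exact dvd_add (Dvd.dvd.mul_left (dvd_pow_self 3 (by omega)) _) (Dvd.intro _ rfl)

theorem coprime_sing (hQ : (polarBilin Q).Nondegenerate) (h7 : 7 ≤ finrank F V)
    (hF : Fintype.card F = 3) : Nat.Coprime 3 (sing Q).card := by
  have h1 := three_dvd_nc hQ hF (by omega)
  rw [← card_sing'] at h1
  exact (Nat.Prime.coprime_iff_not_dvd Nat.prime_three).2 (by omega)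

theorem coprime_L2 (hQ : (polarBilin Q).Nondegenerate) (h7 : 7 ≤ finrank F V)
    (hF : Fintype.card F = 3) (h : IsHyp Q x x') {v : V} (hv : polar Q x v = 0) (hvx : v ∉ F ∙ x)
    (hv0 : Q v = 0) : Nat.Coprime 3 (L2 Q x v).index := by
  rw [← Subgroup.relIndex_mul_index (show L2 Q x v ≤ MulAction.stabilizer _ x from fun _ hg => hg.1),
    relIndex_L2 hQ h7 h hv hvx hv0, index_stab hQ (by omega) h.left_ne_zero h.left]
  refine Nat.Coprime.mul_right ?_ (coprime_sing hQ h7 hF)
  have h1 := three_dvd_nc (h.nondegOn_hperp hQ).restrict hF (by have := h.finrank_hperp; omega)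
  rw [← card_cl_zero] at h1
  exact (Nat.Prime.coprime_iff_not_dvd Nat.prime_three).2 (by omega)

theorem three_cases (hF : Fintype.card F = 3) (c : F) : c = 0 ∨ c = 1 ∨ c = -1 := by
  by_cases hc : c = 0
  · exact Or.inl hc
  · exact Or.inr (mul_self_eq_one_iff.1 (mul_self_of_three hF hc))

section core

variable [MulAction.IsPretransitive (eichGroup Q) Ω] {c : ℕ}

/-- The point stabilisers are transitive on the singular flags. -/
theorem key (hQ : (polarBilin Q).Nondegenerate) (h7 : 7 ≤ finrank F V)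
    (hF : Fintype.card F = 3) (hΩ : Fintype.card Ω = 3 ^ c) (h : IsHyp Q x x') {v : V}
    (hv : polar Q x v = 0) (hvx : v ∉ F ∙ x) (hv0 : Q v = 0) (ω ω' : Ω) :
    ∃ l ∈ L2 Q x v, l • ω = ω' :=
  trans_of_coprime _ (by
    rw [Nat.card_eq_fintype_card, hΩ]
    exact (coprime_L2 hQ h7 hF h hv hvx hv0).pow_left c) ω ω'

/-- Long root elements have no fixed points. -/
theorem no_fix (hQ : (polarBilin Q).Nondegenerate) (h7 : 7 ≤ finrank F V)
    (hF : Fintype.card F = 3) (hΩ : Fintype.card Ω = 3 ^ c) (hc : 0 < c) (h : IsHyp Q x x') {v : V}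
    (hvx : v ∉ F ∙ x) (hv0 : Q v = 0) (ω : Ω) : ¬ St Q x ω v := by
  rintro ⟨hv, hfix⟩
  have h1 : ∀ ω' : Ω, T Q x v • ω' = ω' := fun ω' => by
    obtain ⟨l, hl, rfl⟩ := key hQ h7 hF hΩ h hv hvx hv0 ω ω'
    obtain ⟨a, ha⟩ := Submodule.mem_span_singleton.1 hl.2
    have : l * T Q x v = T Q x v * l := by
      rw [mul_T, hl.1, ← sub_add_cancel (l • v) v, ← ha, add_comm, T_add_smul]
    rw [← mul_smul, ← this, mul_smul, hfix]
  have h2 : ∀ y w : V, y ≠ 0 → Q y = 0 → polar Q y w = 0 → Q w = 0 → St Q y ω w := by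
    intro y w hy0 hy hw hw0
    by_cases hwy : w ∈ F ∙ y
    · obtain ⟨a, rfl⟩ := Submodule.mem_span_singleton.1 hwy
      exact St.smul_self hy ω a
    obtain ⟨g, hg⟩ := exists_smul_eq_one hQ (by omega) hy0 h.left_ne_zero (hy.trans h.left.symm)
    have hgw : g • w ∉ F ∙ x := fun hm => by
      obtain ⟨a, ha⟩ := Submodule.mem_span_singleton.1 hm
      rw [← hg, ← gsmul_smul] at ha
      rw [← MulAction.injective g ha] at hwy
      exact hwy (Submodule.smul_mem _ _ (Submodule.mem_span_singleton_self y))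
    obtain ⟨k, hk1, hk2⟩ := exists_two hQ h7 h.left_ne_zero h.left
      (v := g • w) (by rw [← hg, polar_gsmul, hw]) hv hgw hvx (by rw [Q_gsmul, hw0, hv0])
    rw [← St_gsmul' (x' := x) (g := k * g) (by rw [mul_smul, hg, hk1]), mul_smul k g w, hk2]
    exact ⟨hv, h1 _⟩
  have h3 : eichGroup Q ≤ (MulAction.stabilizer (eichGroup Q) ω).map (eichGroup Q).subtype :=
    eichGroup_le fun u w hu0 hu huw => by
      obtain ⟨e, f, n, hef, he, hf, -⟩ := exists_hyp_perp hQ (F ∙ u)
        (by rw [finrank_span_singleton hu0]; omega)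
      have := mem_of_singular hef he hf (eichAddSubgroup
        ((MulAction.stabilizer (eichGroup Q) ω).map (eichGroup Q).subtype) hu)
        (fun z hz hz0 => ⟨mem_perp_singleton.1 hz,
          ⟨T Q u z, (h2 u z hu0 hu (mem_perp_singleton.1 hz) hz0).2, rfl⟩⟩)
        (mem_perp_singleton.2 huw)
      exact this.2
  have h4 : ∀ ω' : Ω, ω' = ω := fun ω' => by
    obtain ⟨g, rfl⟩ := MulAction.exists_smul_eq (eichGroup Q) ω ω'
    obtain ⟨g', hg', he⟩ := h3 g.2
    rwa [← (Subtype.ext he : g' = g)]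
  have h5 : Fintype.card Ω ≤ 1 := Fintype.card_le_one_iff.2 fun a b => (h4 a).trans (h4 b).symm
  have := Nat.one_lt_pow hc.ne' (show 1 < 3 by omega)
  omega

/-- The groups `Q_x` act semiregularly. -/
theorem reg (hQ : (polarBilin Q).Nondegenerate) (h7 : 7 ≤ finrank F V)
    (hF : Fintype.card F = 3) (hΩ : Fintype.card Ω = 3 ^ c) (hc : 0 < c) (h : IsHyp Q x x')
    (ω : Ω) : Reg Q x ω := by
  let M : Submodule F V :=
    { carrier := {u | u ∈ hperp Q x x' ∧ St Q x ω u}
      add_mem' := fun ha hb => ⟨add_mem ha.1 hb.1, St.add h.left ha.2 hb.2⟩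
      zero_mem' := ⟨zero_mem _, by simpa using St.smul_self h.left ω 0⟩
      smul_mem' := fun a u hu => ⟨Submodule.smul_mem _ _ hu.1, by
        rcases three_cases hF a with rfl | rfl | rfl
        · simpa using St.smul_self h.left ω 0
        · simpa using hu.2
        · simpa using hu.2.neg⟩ }
  have hM : finrank F M ≤ 2 := by
    by_contra hlt
    obtain ⟨v, hv, hv0, hv1⟩ := exists_singular_mem Q M (by omega)
    exact no_fix hQ h7 hF hΩ hc h (not_mem_span_of_hperp h hv.1 hv0) hv1 ω hv.2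
  obtain ⟨v, hv, hv0, hv1⟩ := exists_singular_mem Q (perp Q (M ⊔ Submodule.span F {x, x'})) (by
    have h1 := finrank_add_finrank_perp hQ (M ⊔ Submodule.span F {x, x'})
    have h2 := Submodule.finrank_add_le_finrank_add_finrank M (Submodule.span F {x, x'})
    have h3 := h.finrank_span
    omega)
  rw [perp_sup, ← hperp_eq_perp] at hv
  intro r hr
  have hvx := hperp_polar hv.2
  have h1 : ∀ w ∈ hperp Q x x', Q w = 0 → polar Q w r = 0 := fun w hw hw0 => by
    by_cases hw1 : w = 0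
    · simp [hw1]
    obtain ⟨g, hg1, hg2⟩ := exists_two hQ h7 h.left_ne_zero h.left hvx (hperp_polar hw)
      (not_mem_span_of_hperp h hv.2 hv0) (not_mem_span_of_hperp h hw hw1) (hv1.trans hw0.symm)
    obtain ⟨l, hl, hlω⟩ := key hQ h7 hF hΩ h hvx (not_mem_span_of_hperp h hv.2 hv0) hv1 ω (g⁻¹ • ω)
    obtain ⟨a, ha⟩ := Submodule.mem_span_singleton.1 hl.2
    have e1 : (g * l) • x = x := by rw [mul_smul, hl.1, hg1]
    have e2 : (g * l) • ω = ω := by rw [mul_smul, hlω, smul_inv_smul]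
    have e3 : (g * l) • v = a • x + w := by
      rw [mul_smul, ← sub_add_cancel (l • v) v, ← ha, gsmul_add, gsmul_smul, hg1, hg2]
    have e4 : St Q x ω ((g * l)⁻¹ • r) := by
      rw [← St_gsmul' e1, e2, smul_inv_smul]
      exact hr
    have e5 := mem_perp.1 hv.1 _ ⟨h.hproj_mem _, (St_hproj h e4.1).2 e4⟩
    have e6 := polar_gsmul_left (g * l) v r
    rw [e3, polar_add_left, polar_smul_left', hr.1, mul_zero, zero_add, hproj_eq h e4.1,
      polar_add_right, polar_comm Q v, e5, polar_smul_right', polar_comm Q v, hvx, mul_zero,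
      add_zero] at e6
    exact e6
  obtain ⟨e, f, n, hef, he, hf, -⟩ := exists_hyp_perp hQ (Submodule.span F {x, x'})
    (by rw [h.finrank_span]; omega)
  rw [← hperp_eq_perp] at he hf
  have h2 : ∀ w ∈ hperp Q x x', polar Q r w = 0 := fun w hw =>
    mem_perp_singleton.1 (mem_of_singular hef he hf (perp Q (F ∙ r)).toAddSubgroup
      (fun z hz hz0 => mem_perp_singleton.2 (by rw [polar_comm]; exact h1 z hz hz0)) hw)
  have h3 : hproj Q x x' r = 0 := h.nondegOn_hperp hQ _ (h.hproj_mem r) fun w hw => by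
    have := h2 w hw
    rwa [hproj_eq h hr.1, polar_add_left, polar_smul_left', hperp_polar hw, mul_zero,
      add_zero] at this
  rw [hproj_eq h hr.1, h3, zero_add]
  exact Submodule.smul_mem _ _ (Submodule.mem_span_singleton_self x)

end core

theorem ext_mem (h : IsHyp Q x x') (k : eichGroup (Q.restrict (hperp Q x x'))) :
    orthSum h.orthDec (1, k.1) ∈ eichGroup Q := by
  have : eichGroup (Q.restrict (hperp Q x x')) ≤ (eichGroup Q).comap
      ((orthSum h.orthDec).comp (MonoidHom.inr _ _)) :=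
    eichGroup_le fun u v _ _ _ => by
      change orthSum h.orthDec (1, eich _ u v) ∈ eichGroup Q
      rw [orthSum_eich_right]
      exact eich_mem_eichGroup _ _
  exact this k.2

/-- The Levi subgroup inside the stabiliser of `x`. -/
noncomputable def levi (h : IsHyp Q x x') :
    eichGroup (Q.restrict (hperp Q x x')) →* MulAction.stabilizer (eichGroup Q) x where
  toFun k := ⟨⟨orthSum h.orthDec (1, k.1), ext_mem h k⟩,
    orthSum_apply_left h.orthDec (1, k.1) ⟨x, Submodule.subset_span (by simp)⟩⟩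
  map_one' := Subtype.ext (Subtype.ext (map_one (orthSum h.orthDec)))
  map_mul' a b := Subtype.ext (Subtype.ext (by
    change orthSum h.orthDec (1, a.1 * b.1) =
      orthSum h.orthDec (1, a.1) * orthSum h.orthDec (1, b.1)
    rw [← map_mul, Prod.mk_mul_mk, one_mul]))

theorem eqns' : True := by
  have := @levi.eq_1.{0, 0}
  trivial

theorem sq_mem (hQ : (polarBilin Q).Nondegenerate) (h7 : 7 ≤ finrank F V) (h : IsHyp Q x x')
    (g : MulAction.stabilizer (eichGroup Q) x) (hg : g.1 • x' = x') :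
    ∃ k, g * g = levi h k := by
  obtain ⟨k, hk⟩ := h.stabilizerEquiv.surjective ⟨g.1.1, by
    rw [MulAction.mem_stabilizer_iff]
    exact Prod.ext g.2 hg⟩
  have hk' : orthSum h.orthDec (1, k) = g.1.1 := congrArg Subtype.val hk
  have hW := (h.nondegOn_hperp hQ).restrict
  have hd := h.finrank_hperp
  refine ⟨⟨k * k, ?_⟩, Subtype.ext (Subtype.ext ?_)⟩
  · rw [eichGroup_eq_kerDS hW (not_isExc_of_finrank (by omega)) (by omega), mem_kerDS, map_mul,
      map_mul]
    exact ⟨Int.units_mul_self _, sqCl_mul_self _⟩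
  · change g.1.1 * g.1.1 = orthSum h.orthDec (1, k * k)
    rw [← hk', ← map_mul, Prod.mk_mul_mk, one_mul]

theorem exists_T (h : IsHyp Q x x') {y : V} (hy : IsHyp Q x y) :
    ∃ u, polar Q x u = 0 ∧ T Q x u • x' = y := by
  obtain ⟨w, hw⟩ := h.partnerEquiv.surjective ⟨y, hy⟩
  have hw' : (-Q w) • x + (1 : F) • x' + w = y := congrArg Subtype.val hw
  refine ⟨w, hperp_polar w.2, ?_⟩
  rw [T_smul h.left (hperp_polar w.2), h.pol', polar_comm Q x', w.2.2, ← hw']
  module

open Classical in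
/-- There is no transitive action of degree `3 ^ (d - 1)`. -/
theorem core [MulAction.IsPretransitive (eichGroup Q) Ω] (hQ : (polarBilin Q).Nondegenerate)
    (h7 : 7 ≤ finrank F V) (hF : Fintype.card F = 3)
    (hΩ : Fintype.card Ω = 3 ^ (finrank F V - 1)) : False := by
  obtain ⟨x, x', h⟩ := exists_isHyp_of_three_le hQ (by omega)
  have : Finite (O Q) := finite_O
  have hR := reg hQ h7 hF hΩ (by omega) h
  obtain ⟨ω⟩ : Nonempty Ω := Fintype.card_pos_iff.1 (by rw [hΩ]; positivity)
  have ho : ∀ (g : eichGroup Q), g • x = x → ∀ ω ω' : Ω, g • ω' ∈ orb Q x (g • ω) ↔ ω' ∈ orb Q x ω :=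
    fun g hg => orb_gsmul one_ne_zero (by rw [one_smul, hg])
  let M : Subgroup (MulAction.stabilizer (eichGroup Q) x) :=
    { carrier := {g | g.1 • ω ∈ orb Q x ω}
      one_mem' := by simpa using mem_orb_self x ω
      mul_mem' := fun {a b} ha hb => by
        have h1 := (ho a.1 a.2 ω _).2 hb
        rw [orb_eq h.left ω _ ha, ← mul_smul] at h1
        exact h1
      inv_mem' := fun {a} ha => by
        have h1 := (ho a⁻¹.1 a⁻¹.2 _ _).2 ha
        rw [← mul_smul, ← Subgroup.coe_mul, inv_mul_cancel, Subgroup.coe_one, one_smul] at h1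
        exact mem_orb_symm h.left h1 }
  have hM : M.index = 3 := by
    have h1 := card_filter_eq_mul_ncl (orb Q x : Ω → Finset Ω) (mem_orb_self x) (orb_eq h.left)
      (fun _ => True) (fun _ _ _ _ => trivial) (fun ω _ => (hR ω).card_orb h)
    rw [Finset.filter_true, Finset.card_univ, hΩ, hF,
      show finrank F V - 1 = finrank F V - 2 + 1 by omega, pow_succ] at h1
    have h2 := Nat.eq_of_mul_eq_mul_left (by positivity) h1
    rw [index_eq_card_range M (fun g => orb Q x (g.1 • ω)), h2, ncl, Nat.card_coe_set_eq,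
      ← Set.ncard_coe_finset]
    · congr 1
      ext B
      simp only [Set.mem_range, Finset.filter_true, Finset.coe_image, Finset.coe_univ,
        Set.image_univ]
      constructor
      · rintro ⟨g, rfl⟩
        exact ⟨_, rfl⟩
      · rintro ⟨ω', rfl⟩
        obtain ⟨l, hl, rfl⟩ := trans_of_coprime (MulAction.stabilizer (eichGroup Q) x) (by
          rw [Nat.card_eq_fintype_card, hΩ, index_stab hQ (by omega) h.left_ne_zero h.left]
          exact (coprime_sing hQ h7 hF).pow_left _) ω ω'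
        exact ⟨⟨l, hl⟩, rfl⟩
    · intro g g'
      change _ ↔ (g⁻¹ * g').1 • ω ∈ orb Q x ω
      rw [← ho g.1 g.2, ← mul_smul, ← Subgroup.coe_mul, mul_inv_cancel_left]
      exact ⟨fun he => he ▸ mem_orb_self x _, fun he => (orb_eq h.left _ _ he).symm⟩
  have hd := h.finrank_hperp
  have : Group.IsPerfect (eichGroup (Q.restrict (hperp Q x x'))) :=
    Subgroup.isPerfect_iff.2 (eichGroup_perfect (h.nondegOn_hperp hQ).restrict (by omega))
  refine no_index_three (levi h) M hM fun g => ?_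
  have hy : IsHyp Q x (g.1 • x') :=
    ⟨h.left, by rw [Q_gsmul, h.right], by
      have h1 := polar_gsmul g.1 x x'
      rwa [show g.1 • x = x from g.2, h.pol] at h1⟩
  obtain ⟨u, hu, hu'⟩ := exists_T h hy
  refine ⟨⟨T Q x u, T_smul_self' u⟩⁻¹, inv_mem fun b => ?_, sq_mem hQ h7 h _ ?_⟩
  · change (b.1 * T Q x u * b.1⁻¹) • ω ∈ orb Q x ω
    rw [T_conj, show b.1 • x = x from b.2]
    exact mem_orb.2 ⟨_, polar_gsmul_zero' b.2 hu, rfl⟩
  · change ((T Q x u)⁻¹ * g.1) • x' = x'
    rw [mul_smul, ← hu', inv_smul_smul]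

/-! ### The endgame -/

theorem exp_le {n c N : ℕ} (hn : 3 ≤ n)
    (hN : 2 * N = 3 ^ (n ^ 2) * ∏ i ∈ Finset.range n, (3 ^ (2 * (i + 1)) - 1))
    (h : 3 ^ c - 1 ∣ N) : c ≤ 2 * n := by
  by_contra hlt
  obtain ⟨r, hr, hp⟩ := H82.zsigmondy 3 c (by omega) (by omega) (by omega) (by omega)
  have : Fact r.Prime := ⟨hr⟩
  have key : ∀ k, r ∣ 3 ^ k - 1 ↔ c ∣ k := fun k => by
    rw [← ZMod.natCast_eq_zero_iff, Nat.cast_sub (Nat.one_le_pow _ _ (by omega)), sub_eq_zero,
      Nat.cast_pow, Nat.cast_one, hp.pow_eq_one_iff_dvd]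
  have h1 : r ∣ 2 * N := (((key c).2 dvd_rfl).trans h).mul_left 2
  rw [hN] at h1
  rcases (Nat.Prime.dvd_mul hr).1 h1 with h2 | h2
  · obtain rfl := (Nat.prime_dvd_prime_iff_eq hr Nat.prime_three).1 (hr.dvd_of_dvd_pow h2)
    have h3 := (key c).2 dvd_rfl
    have h4 : 3 ∣ 3 ^ c := dvd_pow_self 3 (by omega)
    have h5 := Nat.one_le_pow c 3 (by omega)
    omega
  · obtain ⟨i, hi, h3⟩ := (Prime.dvd_finsetProd_iff hr.prime _).1 h2
    have := Nat.le_of_dvd (by omega) ((key _).1 h3)
    have := Finset.mem_range.1 hi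
    omega

theorem le_exp {n c : ℕ} (hn : 3 ≤ n) (h : 3 ^ n * (3 ^ n - 1) / 2 ≤ 3 ^ c) : 2 * n ≤ c := by
  by_contra hlt
  obtain ⟨k, rfl⟩ : ∃ k, n = k + 1 := ⟨n - 1, by omega⟩
  have h1 : 3 ^ c ≤ 3 ^ (2 * k + 1) := Nat.pow_le_pow_right (by omega) (by omega)
  have h2 : 3 ^ 2 ≤ 3 ^ k := Nat.pow_le_pow_right (by omega) (by omega)
  rw [show 3 ^ (2 * k + 1) = 3 * (3 ^ k * 3 ^ k) by ring] at h1
  rw [pow_succ, Nat.mul_sub, show 3 ^ k * 3 * (3 ^ k * 3) = 9 * (3 ^ k * 3 ^ k) by ring] at h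
  have h3 : 9 * 3 ^ k ≤ 3 ^ k * 3 ^ k := Nat.mul_le_mul_right _ h2
  omega

/-- **OB3** -/
theorem ob3 : H74.Cks.Ob3Stmt := by
  classical
  rintro F _ _ hF n hn H hH - ⟨c, hc⟩
  have hodd : Odd (Fintype.card F) := by rw [hF]; decide
  have h1 := exp_le (c := c) hn (S0292.result hF (by decide) n hn)
    (hc ▸ (Dvd.intro_left _ rfl).trans hH.dvd)
  have h2 := le_exp hn (hc ▸ (S2144.result hF n hn).1 H hH.max.1)
  have nd := qOdd_nondegenerate (F := F) (two_ne_zero_iff_odd_card.2 hodd) n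
  have hV : finrank F (Unit ⊕ (Fin n ⊕ Fin n) → F) = 2 * n + 1 := by
    simp; omega
  let e := pomegaEquivEich nd (not_isExc_of_finrank (by omega)) (by rw [finrank_pi'] at hV; omega)
  let f := e.symm.toMonoidHom.comp (QuotientGroup.mk' _)
  have hf : Function.Surjective f := e.symm.surjective.comp (QuotientGroup.mk'_surjective _)
  have h3 : (H.comap f).index = H.index := Subgroup.index_comap_of_surjective H hf
  have : Finite (O (qOdd F n)) := finite_O
  have := Fintype.ofFinite (_ ⧸ H.comap f)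
  refine core (Ω := _ ⧸ H.comap f) nd (by omega) hF ?_
  rw [← Nat.card_eq_fintype_card, hV]
  change (H.comap f).index = _
  rw [h3, hc, show c = 2 * n by omega]
  rfl

end Cfsg.Agent.H30.CksOb3
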