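import Cfsg.Agent.H73.CVKit
import Cfsg.Agent.H59.C6Small

/-!
# The case of a small socle, unitary version in dimension eleven
-/

set_option autoImplicit false

namespace Cfsg.Agent.H30.CvSmall

open Matrix Cfsg.Geo Subgroup Cfsg.Agent.H59.C6S
open Cfsg.Agent.H25 Cfsg.Agent.H73.CV
open Cfsg.Agent.H25.CU (qF hf subSU qF_eq hf_eq)
open Cfsg.Agent.H25.C6 hiding Fld Mod Bc Low Ar Tri StdStmt NrmStmt EsStmt GeoStmt TpStmt TvStmt OddStmt ZsStmt H3bStmt
  H3cStmt H3dStmt H3Stmt A1Stmt K0Stmt SwStmt PrimStmt RealStmt BigStmt SmallStmt ClsStmt A2Stmt CopStmt Tv5Stmt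
  LiftStmt KbStmt KoddStmt UqStmt One

universe u

theorem small : SmallStmt.{u} := by
  intro F _ _ r n p ω H P hL hA hS
  have hrn := hL.fld.rn
  obtain ⟨hr, hn, hc, hc2, hr2⟩ : r.Prime ∧ n.Prime ∧ r.Coprime n ∧ Nat.Coprime 2 n ∧
      Nat.Coprime 2 r := by
    rcases hrn with ⟨rfl, rfl⟩ | ⟨rfl, rfl⟩ <;> norm_num
  have := Fact.mk hr
  have := Fact.mk hn
  -- the socle inside the projective group
  let φ : L45.Bar P →* GL (Fin n) F ⧸ scalars (Fin n) F :=
    QuotientGroup.map _ _ P.subtype le_rfl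
  have hφ : Function.Injective φ := (injective_iff_map_eq_one φ).2 fun x =>
    QuotientGroup.induction_on x fun y hy => (QuotientGroup.eq_one_iff y).2 (π_eq_one.1 hy)
  have hq := sq_of φ hφ hr hn hS
  have hm : ∀ x ∈ P, π x ∈ φ.range := fun x hx => ⟨QuotientGroup.mk ⟨x, hx⟩, rfl⟩
  have hm' : ∀ y ∈ φ.range, ∃ x ∈ P, π x = y := by
    rintro _ ⟨y, rfl⟩
    exact QuotientGroup.induction_on y fun x => ⟨x, x.2, rfl⟩
  have hdet : ∀ x ∈ P, GeneralLinearGroup.det x = 1 := fun x hx => le_SL_of_perfect hA.perfect hx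
  -- the element of order `r`
  have hω : ω ^ r = 1 := hL.fld.ord ▸ pow_orderOf_eq_one ω
  have hu : uB n ω ^ r = 1 := by
    rw [uB, ← map_pow, ← map_one gD]
    exact congrArg gD (funext fun k => by rw [Pi.pow_apply, ← pow_mul, mul_comm, pow_mul, hω,
      one_pow, Pi.one_apply])
  obtain ⟨a₁, h1, h2, h3⟩ := hq.exists_comm hr (u := π (uB n ω)) (by rw [← map_pow, hu, map_one])
    (mem_normalizer_fintype fun y hy => by
      obtain ⟨x, hx, rfl⟩ := hm' y hy
      simpa using hm _ (hA.nb _ hL.u x hx))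
  obtain ⟨a, haP, har, hao, hau⟩ : ∃ a ∈ P, a ^ r = 1 ∧ orderOf (π a) = r ∧
      Commute (π (uB n ω)) (π a) := by
    obtain ⟨a₀, h4, rfl⟩ := hm' _ h1
    refine ⟨a₀ ^ n, pow_mem h4 n, ?_, by rw [map_pow, Nat.Coprime.orderOf_pow (h2 ▸ hc), h2],
      by rw [map_pow]; exact h3.pow_right n⟩
    obtain ⟨c, e⟩ : a₀ ^ r ∈ scalars (Fin n) F :=
      π_eq_one.1 (by rw [map_pow, ← h2, pow_orderOf_eq_one])
    replace e : scal (Fin n) c = a₀ ^ r := e
    have h5 := congrArg Units.val (hdet _ (pow_mem h4 r))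
    rw [← e, GeneralLinearGroup.val_det_apply, coe_scal, det_smul, det_one, mul_one,
      Fintype.card_fin] at h5
    rw [← pow_mul, mul_comm, pow_mul, ← e, ← map_pow, show c ^ n = 1 from Units.ext (by
      simpa using h5), map_one]
  -- elements normalising it
  have key : ∀ g : GL (Fin n) F, π g * π a * (π g)⁻¹ ∈ zpowers (π a) →
      ∃ i : ℕ, g * a = a ^ i * g := fun g hg => by
    obtain ⟨i, hi⟩ := (mem_powers_iff_mem_zpowers.2 hg : _ ∈ Submonoid.powers _)
    refine ⟨i, mul_inv_eq_iff_eq_mul.1 (eq_of_π (m := r) (by simpa using hi.symm) ?_ ?_ hc hn.pos)⟩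
    · rw [conj_pow, har, ← pow_mul, mul_comm i, pow_mul, har]
      simp
    · simp [hdet a haP]
  obtain ⟨x, rfl⟩ : ∃ x, a = gD x := by
    refine diag_of_comm (x := fun k => ω ^ (((k : ℕ) + 1) * ((k : ℕ) + 1))) (fun k l e =>
      sq_inj hrn k l (by rwa [pow_eq_pow_iff_modEq, hL.fld.ord] at e)) ?_
    refine (mul_inv_eq_iff_eq_mul.1 (eq_of_π (m := r) (x := uB n ω * a * (uB n ω)⁻¹) ?_ ?_ ?_ hc
      hn.pos)).symm
    · rw [map_mul, map_mul, map_inv, hau.eq, mul_inv_cancel_right]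
    · rw [conj_pow, har]; simp
    · simp
  obtain ⟨b₁, h4, h5, h6⟩ := hq.nrm _ (hm _ haP) hao
  obtain ⟨b, hbP, rfl⟩ := hm' _ h4
  obtain ⟨j, hj⟩ := key b h6
  have hjm : ∀ m : ℕ, b ^ m * gD x = gD x ^ j ^ m * b ^ m := fun m => by
    induction m with
    | zero => simp
    | succ m ih =>
      have : b * gD x ^ j ^ m = gD x ^ j ^ (m + 1) * b := by
        rw [← mul_inv_eq_iff_eq_mul, ← conj_pow, hj, mul_inv_cancel_right, ← pow_mul, pow_succ']
      rw [pow_succ', mul_assoc, ih, ← mul_assoc, this, mul_assoc]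
  have hpa : ∀ {i k : ℕ}, (i : ZMod r) = k ↔ π (gD x) ^ i = π (gD x) ^ k := by
    intro i k
    rw [pow_eq_pow_iff_modEq, hao, ZMod.natCast_eq_natCast_iff]
  have hpa' : ∀ {i k : ℕ}, (i : ZMod r) = k → gD x ^ i = gD x ^ k := fun e =>
    pow_eq_pow_iff_modEq.2 (((ZMod.natCast_eq_natCast_iff ..).1 e).of_dvd
      (orderOf_dvd_of_pow_eq_one har))
  have hj1 : (j : ZMod r) ≠ 1 := fun e => by
    have h7 := hq.cen _ (hm _ haP) hao _ h4 (by
      have := congrArg π hj
      rwa [hpa' (k := 1) (by simpa using e), pow_one, map_mul, map_mul] at this)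
    have h8 := orderOf_dvd_of_mem_zpowers h7
    rw [h5, hao] at h8
    exact hn.one_lt.ne' (hc.symm.eq_one_of_dvd h8)
  have hjn : (j : ZMod r) ^ n = 1 := by
    have := congrArg π (hjm n)
    rw [map_mul, map_mul, map_pow π b, orderOf_dvd_iff_pow_eq_one.1 h5.dvd, one_mul, mul_one,
      map_pow] at this
    simpa using hpa.2 (this.symm.trans (pow_one _).symm)
  -- the entries of the diagonal matrix
  have hxr : ∀ k, x k ^ r = 1 := fun k => gD_inj (d := x ^ r) (e := 1) (by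
    rw [map_pow, har, map_one]) k
  obtain ⟨k₀, hk₀⟩ : ∃ k, x k ≠ 1 := by
    by_contra hc'
    push Not at hc'
    rw [show x = 1 from funext hc', map_one, map_one, orderOf_one] at hao
    exact hr.one_lt.ne hao
  have hx₀ : orderOf (x k₀) = r := orderOf_eq_prime (hxr k₀) hk₀
  choose σ hσ using row b
  have hσx : ∀ m : ℕ, x (σ^[m] k₀) = x k₀ ^ j ^ m := fun m => by
    induction m with
    | zero => simp
    | succ m ih =>
      rw [Function.iterate_succ_apply', entry (x := x) (y := x ^ j) (by rw [map_pow, hj]) (hσ _),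
        Pi.pow_apply, ih, ← pow_mul, pow_succ]
  have hinj : ∀ m m' : Fin n, x (σ^[m] k₀) = x (σ^[m'] k₀) → m = m' := fun m m' e => by
    rw [hσx, hσx, pow_eq_pow_iff_modEq, hx₀, ← ZMod.natCast_eq_natCast_iff] at e
    exact pow_inj hrn j hjn hj1 m m' (by simpa using e)
  have hsur : ∀ l, ∃ m : Fin n, σ^[m] k₀ = l := Finite.surjective_of_injective
    (f := fun m : Fin n => σ^[m] k₀) fun m m' e => hinj m m' (congrArg x e)
  have hxi : Function.Injective x := fun k l e => by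
    obtain ⟨m, rfl⟩ := hsur k
    obtain ⟨m', rfl⟩ := hsur l
    rw [hinj m m' e]
  refine ⟨fun d hd h7 => ?_, fun hD => ?_⟩
  · have h8 : gD d ^ 2 ∈ scalars (Fin n) F := by
      rw [← map_pow]
      exact gD_mem (fun k l => by simpa [sq] using h7 k l) k₀
    have h9 : gD x * b⁻¹ = b⁻¹ * gD x ^ j := by
      rw [eq_inv_mul_iff_mul_eq, ← mul_assoc, hj, mul_inv_cancel_right]
    obtain ⟨d', hd'⟩ : ∃ d', b * gD d * b⁻¹ = gD d' := by
      refine diag_of_comm (x := x ^ j) (fun k l e => hxi ?_) ?_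
      · have hjr : j.Coprime r := ((Nat.coprime_or_dvd_of_prime hr j).resolve_right fun e' => by
          rw [(ZMod.natCast_eq_zero_iff j r).2 e', zero_pow hn.ne_zero] at hjn
          exact zero_ne_one hjn).symm
        obtain ⟨t, -, ht⟩ := Nat.exists_mul_mod_eq_one_of_coprime hjr hr.one_lt
        have h10 : ∀ k, x k = (x k ^ j) ^ t := fun k => by
          rw [← pow_mul, ← Nat.div_add_mod (j * t) r, pow_add, pow_mul, hxr, one_pow, one_mul, ht,
            pow_one]
        rw [h10 k, h10 l]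
        exact congrArg (· ^ t) e
      · rw [map_pow, mul_assoc, ← h9, ← mul_assoc, mul_assoc b, H59.C6S.gD_comm, ← mul_assoc, hj]
        group
    have h10 : π (gD d') ^ 2 = 1 := by
      rw [← hd', map_mul, map_mul, map_inv, conj_pow, ← map_pow, π_eq_one.2 h8]
      simp
    have h11 : gD d' * (gD d)⁻¹ ∈ P := by
      rw [← hd', mul_assoc, mul_assoc, ← mul_assoc (gD d)]
      exact mul_mem hbP (hA.nb _ hd _ (inv_mem hbP))
    have h12 := hq.cen _ (hm _ haP) hao _ (hm _ h11) (Commute.map (by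
      rw [← map_inv, ← map_mul]; exact H59.C6S.gD_comm _ _) π)
    have h13 : π (gD d' * (gD d)⁻¹) ^ 2 = 1 := by
      have hcm : Commute (π (gD d')) (π (gD d))⁻¹ := (Commute.map (H59.C6S.gD_comm d' d) π).inv_right
      rw [map_mul, map_inv, hcm.mul_pow, h10, inv_pow, ← map_pow, π_eq_one.2 h8, inv_one, one_mul]
    have h14 : π (gD d' * (gD d)⁻¹) = 1 := orderOf_eq_one_iff.1
      (Nat.eq_one_of_dvd_coprimes hr2 (orderOf_dvd_of_pow_eq_one h13)
        (hao ▸ orderOf_dvd_of_mem_zpowers h12))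
    have h15 : b * gD d * b⁻¹ = gD d := by
      refine eq_of_π (m := 2) (by rwa [hd', ← mul_inv_eq_one, ← map_inv, ← map_mul]) ?_ (by simp)
        hc2 hn.pos
      rw [conj_pow, scalar_comm h8 b, mul_inv_cancel_right]
    have h16 : ∀ m : ℕ, d (σ^[m] k₀) = d k₀ := fun m => by
      induction m with
      | zero => rfl
      | succ m ih =>
        rw [Function.iterate_succ_apply', entry (mul_inv_eq_iff_eq_mul.1 h15) (hσ _), ih]
    intro k l
    obtain ⟨m, rfl⟩ := hsur k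
    obtain ⟨m', rfl⟩ := hsur l
    rw [h16, h16]
  · have h7 : ∀ h ∈ H, π h ^ r ∈ φ.range := fun h hh => by
      obtain ⟨y₁, h8, h9⟩ := hq.syl _ (hm _ haP) hao _ (hm _ (hA.nb _ hh _ haP)) (by
        rw [← map_pow, conj_pow, har]; simp)
      obtain ⟨y, hy, rfl⟩ := hm' _ h8
      obtain ⟨i, hi⟩ := key (y * h) (by simpa [mul_assoc] using h9)
      obtain ⟨l, hl⟩ := row (y * h) k₀
      obtain ⟨m, rfl⟩ := hsur l
      have h10 := entry (x := x) (y := x ^ i) (by rw [map_pow, hi]) hl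
      rw [hσx, Pi.pow_apply, pow_eq_pow_iff_modEq, hx₀, ← ZMod.natCast_eq_natCast_iff] at h10
      obtain ⟨d, hd⟩ := diag_of_comm (g := (b ^ (m : ℕ))⁻¹ * (y * h)) hxi (by
        rw [mul_assoc, hi, ← hpa' h10, inv_mul_eq_iff_eq_mul, ← mul_assoc, ← mul_assoc, hjm]
        group)
      have hz : y⁻¹ * b ^ (m : ℕ) ∈ P := mul_mem (inv_mem hy) (pow_mem hbP _)
      have hdH : gD d ∈ H := hd ▸ mul_mem (inv_mem (pow_mem (hA.le hbP) _)) (mul_mem (hA.le hy) hh)
      have hh' : h = y⁻¹ * b ^ (m : ℕ) * gD d := by rw [← hd]; group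
      have h11 : ∀ t : ℕ, h ^ t * (gD d ^ t)⁻¹ ∈ P := fun t => by
        induction t with
        | zero => simp
        | succ t ih =>
          have : h ^ (t + 1) * (gD d ^ (t + 1))⁻¹ = y⁻¹ * b ^ (m : ℕ) *
              (gD d * (h ^ t * (gD d ^ t)⁻¹) * (gD d)⁻¹) := by
            rw [pow_succ' h, pow_succ' (gD d)]
            nth_rewrite 1 [hh']
            group
          exact this ▸ mul_mem hz (hA.nb _ hdH _ ih)
      have h12 : gD d ^ r ∈ scalars (Fin n) F := by
        rw [← map_pow]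
        exact gD_mem (fun k l => hD d hdH k l) k₀
      have := hm _ (h11 r)
      rwa [map_mul, map_inv, π_eq_one.2 h12, inv_one, mul_one, map_pow] at this
    have h8 : ∀ s ∈ H, s ∉ scalars (Fin n) F → s * s ∈ scalars (Fin n) F →
        π s ∈ φ.range ∧ orderOf (π s) = 2 := fun s hs h9 h10 => by
      have h11 : π s ^ 2 = 1 := by rw [← map_pow, sq]; exact π_eq_one.2 h10
      obtain ⟨t, ht⟩ := Nat.coprime_two_left.1 hr2
      have := h7 s hs
      rw [ht, pow_succ, pow_mul, h11, one_pow, one_mul] at this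
      exact ⟨this, orderOf_eq_prime h11 fun e => h9 (π_eq_one.1 e)⟩
    intro s hs t ht h9 h10 h11 h12
    obtain ⟨c₁, h13, h14⟩ := hq.inv _ (h8 s hs h9 h11).1 _ (h8 t ht h10 h12).1 (h8 s hs h9 h11).2
      (h8 t ht h10 h12).2
    obtain ⟨c, hcP, rfl⟩ := hm' _ h13
    exact ⟨c, hA.le hcP, π_eq_one.1 (by simp only [map_mul, map_inv, h14, mul_inv_cancel])⟩

end Cfsg.Agent.H30.CvSmall
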