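import Cfsg.Agent.H63.GvDefs

/-! Project CY, route GV: no flat pairs. -/

set_option autoImplicit false

namespace Cfsg.Agent.H30.CyNf

open Subgroup MulAction Cfsg.Agent.H11.Cy Cfsg.Agent.H45.Iv Cfsg.Agent.H63.Gv
open scoped commutatorElement

section
variable {G : Type} [Group G] {Ω : Type} [MulAction G Ω] {p : ℕ} {A : Ω → Subgroup G}

def II (A : Ω → Subgroup G) (P : Set Ω) (z : G) : Prop :=
  ∃ Ψ, Mx A P Ψ ∧ z ∈ Ts A Ψ ⊓ Cs A Ψ ∧ z ∉ Cs A P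

def rl (A : Ω → Subgroup G) (P : Set Ω) (u v : Ω) : Prop :=
  ∀ z, II A P z → (z • u = u ↔ z • v = v)

theorem ln_sub (c : Cx p A) {x y : Ω} (hxy : x ≠ y) : Sub A (Ln A x y) := by
  intro z hz w hw hzw
  rw [(c.sk.sp x y hxy z hz w hw hzw).2.2]

theorem ln_good (c : Cx p A) {x y : Ω} (hxy : x ≠ y) : Good A (Ln A x y) := by
  intro z hz w hw hzw k hk v hv
  rw [(c.sk.sp x y hxy z hz w hw hzw).2.1] at hk
  exact (c.ep.kfix x y hxy k).1 hk.2 v hv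

theorem ex_ne (h : St p A) (x : Ω) : ∃ a ∈ A x, a ≠ 1 := by
  by_contra hh
  have : A x = ⊥ := by
    rw [eq_bot_iff]
    intro a ha
    rw [mem_bot]
    by_contra h1
    exact hh ⟨a, ha, h1⟩
  have h2 := h.card x
  rw [this, Subgroup.card_bot] at h2
  exact h.pp.one_lt.ne h2

theorem zi (c : Cx p A) {P : Set Ω} (m : MB A P) (mk : MK A P) {u w : Ω} (hu : u ∈ P) (hw : w ∈ P)
    (huw : u ≠ w) {z : G} (hz : z ∈ Zl A u w) :
    ∃ Ψ, Mx A P Ψ ∧ u ∈ Ψ ∧ w ∈ Ψ ∧ z ∈ Ts A Ψ ⊓ Cs A Ψ := by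
  have hne : Ln A u w ≠ P := fun e => m.2.1 (e ▸ ln_good c huw)
  obtain ⟨Ψ, hΨ, hle⟩ := mk.ex _ (ln_sub c huw) (m.1 u hu w hw huw) hne
  have h1 : u ∈ Ψ := hle (c.sk.ln u w).1
  have h2 : w ∈ Ψ := hle (c.sk.ln u w).2
  have hT : z ∈ Ts A Ψ := (c.sk.fle Ψ u h1 w h2).2 ((c.ls u w huw).1.zle hz)
  exact ⟨Ψ, hΨ, h1, h2, hT, mk.invol Ψ hΨ.1 (m.2.2 Ψ hΨ.1 hΨ.2.1 hΨ.2.2.1) z hT
    ((c.ls u w huw).2.2.1.zsq z hz)⟩

theorem II_cj {P : Set Ω} (mk : MK A P) {g z : G} (hg : g ∈ Ms A P) (hz : II A P z) :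
    II A P (g * z * g⁻¹) := by
  obtain ⟨Ψ, h1, h2, h3⟩ := hz
  exact mk.cj g hg Ψ h1 z h2 h3

theorem rl_inv {P : Set Ω} (mk : MK A P) {g : G} (hg : g ∈ Ms A P) {u v : Ω} (h : rl A P u v) :
    rl A P (g • u) (g • v) := by
  intro z hz
  have h1 := h _ (II_cj mk (inv_mem hg) hz)
  have key : ∀ w : Ω, (g⁻¹ * z * g⁻¹⁻¹) • w = w ↔ z • g • w = g • w := by
    intro w
    rw [inv_inv, mul_smul, mul_smul, inv_smul_eq_iff]
  rw [key, key] at h1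
  exact h1

theorem rl_ft {P : Set Ω} (mk : MK A P) (fe : FE A P) {y b : Ω} (hy : y ∈ P) (hb : b ∈ P) (hyb : y ≠ b)
    {a : G} (ha : a ∈ A y) (h1 : a ≠ 1) (hf : Ft A P y b a) : rl A P y b := by
  rintro z ⟨Ψ, hΨ, hz, hz'⟩
  rw [mk.fixiff Ψ hΨ z hz hz' y hy, mk.fixiff Ψ hΨ z hz hz' b hb]
  exact fe y hy b hb hyb a ha h1 hf Ψ hΨ z hz hz'

theorem rl_ms (c : Cx p A) {P : Set Ω} (mk : MK A P) {x y : Ω} (hx : x ∈ P) (hy : y ∈ P) {r : G}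
    (hr : r ∈ Rl A x y) : r ∈ Ms A P := mk.tle P ((c.sk.fle P x hx y hy).2 hr)

theorem rl_sub (c : Cx p A) {P : Set Ω} (m : MB A P) (mk : MK A P) (u : Ω) :
    Sub A {v | v ∈ P ∧ rl A P u v} := by
  rintro v ⟨hv, hv'⟩ v1 ⟨hv1, hv1'⟩ hne w hw
  have hwP : w ∈ P := m.1 v hv v1 hv1 hne hw
  refine ⟨hwP, fun z hz => (hv' z hz).trans ?_⟩
  have both : ∀ z, II A P z → z • v = v → ∃ Ψ, Mx A P Ψ ∧ z ∈ Cs A Ψ ∧ v ∈ Ψ ∧ v1 ∈ Ψ := by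
    intro z hz e
    have e1 : z • v1 = v1 := (hv1' z hz).1 ((hv' z hz).2 e)
    obtain ⟨Ψ, hΨ, h2, h3⟩ := hz
    exact ⟨Ψ, hΨ, h2.2, (mk.fixiff Ψ hΨ z h2 h3 v hv).1 e, (mk.fixiff Ψ hΨ z h2 h3 v1 hv1).1 e1⟩
  constructor
  · intro e
    obtain ⟨Ψ, hΨ, h2, h3, h4⟩ := both z hz e
    exact c.sk.csfix Ψ z h2 w (hΨ.1 v h3 v1 h4 hne hw)
  · intro e
    obtain ⟨f, hf, rfl⟩ := (c.ls v v1 hne).1.tr w hw
    have hz' := II_cj mk (inv_mem (rl_ms c mk hv hv1 hf)) hz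
    have e' : (f⁻¹ * z * f⁻¹⁻¹) • v = v := by
      rw [inv_inv, mul_smul, mul_smul, e, inv_smul_smul]
    obtain ⟨Ψ, hΨ, h2, h3, h4⟩ := both _ hz' e'
    have hfM : f ∈ Ms A Ψ := mk.tle Ψ ((c.sk.fle Ψ v h3 v1 h4).2 hf)
    have hc := (mem_centralizer_iff.1 h2) f hfM
    have : f⁻¹ * z * f⁻¹⁻¹ = z := by
      have h5 : f * (f⁻¹ * z * f⁻¹⁻¹) * f⁻¹ = z := by group
      rwa [hc, mul_inv_cancel_right] at h5
    rwa [this] at e'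

theorem comm_ft (h : St p A) {P : Set Ω} {u w : Ω} {a s : G} (ha : a ∈ A u) (hs : s • u = w)
    (h1 : ⁅a, s⁆ ∈ Rl A u w) (h2 : ⁅a, s⁆ * ⁅a, s⁆ ∈ Cs A P) : Ft A P u w a := by
  have e : a * (s * a * s⁻¹)⁻¹ = ⁅a, s⁆ := by rw [commutatorElement_def]; group
  exact ⟨s * a * s⁻¹, hs ▸ h.eqv s u a ha, e ▸ h1, e ▸ h2⟩

theorem rl_le (c : Cx p A) {x y : Ω} (hxy : x ≠ y) : Rl A x y ≤ Fl A x y :=
  (c.ls x y hxy).1.sup ▸ le_sup_left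

theorem blk (h : St p A) (c : Cx p A) {P : Set Ω} (m : MB A P) (mk : MK A P) (fe : FE A P) :
    Blk A P (rl A P) where
  refl := fun _ _ _ _ => Iff.rfl
  symm := fun _ _ _ _ h z hz => (h z hz).symm
  trans := fun _ _ _ _ _ _ h h' z hz => (h z hz).trans (h' z hz)
  inv := fun _ hg _ _ _ _ h => rl_inv mk hg h
  sub := fun u _ => rl_sub c m mk u
  good := fun u hu => by
    refine m.2.2 _ (rl_sub c m mk u) (fun v hv => hv.1) fun e => ?_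
    obtain ⟨x, hx, y, hy, hxy, z, hz, hz'⟩ := mk.two
    obtain ⟨Ψ, hΨ, h1, _, h3⟩ := zi c m mk hx hy hxy hz
    have hI : II A P z := ⟨Ψ, hΨ, h3, hz'⟩
    have all : ∀ w ∈ P, rl A P u w := fun w hw => by
      have : w ∈ {v | v ∈ P ∧ rl A P u v} := by rw [e]; exact hw
      exact this.2
    refine hΨ.2.2.1 (Set.Subset.antisymm hΨ.2.1 fun w hw => ?_)
    exact (mk.fixiff Ψ hΨ z h3 hz' w hw).1
      ((all w hw z hI).1 ((all x hx z hI).2 ((mk.fixiff Ψ hΨ z h3 hz' x hx).2 h1)))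
  fix := fun u hu v hv huv huv' r hr w hw => by
    have hrM : r ∈ Ms A P := rl_ms c mk hu hv hr
    have h0 : rl A P u (r • u) := by
      have s := rl_sub c m mk u
      have hu1 : u ∈ {v | v ∈ P ∧ rl A P u v} := ⟨hu, fun _ _ => Iff.rfl⟩
      have hv1 : v ∈ {v | v ∈ P ∧ rl A P u v} := ⟨hv, huv'⟩
      exact (c.sk.inv _ s r (mk.tle _ ((c.sk.fle _ u hu1 v hv1).2 hr)) u hu1).2
    by_cases huw : rl A P u w
    · exact fun z hz => (huw z hz).symm.trans ((h0 z hz).trans (rl_inv mk hrM huw z hz))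
    have hne : u ≠ w := fun e => huw (e ▸ fun _ _ => Iff.rfl)
    have hz : ∃ z ∈ Zl A u w, z ∉ Cs A P := by
      by_contra hh
      apply huw
      obtain ⟨a, ha, ha1⟩ := ex_ne h u
      obtain ⟨s, hs, hs'⟩ := (c.ls u w hne).1.tr w (c.sk.ln u w).2
      have hc : ⁅a, s⁆ ∈ Rl A u w :=
        commutator_mem_commutator (le_sup_left (a := A u) (b := A w) ha) (rl_le c hne hs)
      refine rl_ft mk fe hu hw hne ha ha1 (comm_ft h ha hs' hc ?_)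
      by_contra h2
      exact hh ⟨_, (c.ls u w hne).2.1.sq _ hc, h2⟩
    obtain ⟨z, hz, hz'⟩ := hz
    obtain ⟨Ψ, hΨ, h1, h2, h3⟩ := zi c m mk hu hw hne hz
    have hI : II A P z := ⟨Ψ, hΨ, h3, hz'⟩
    have hvΨ : v ∈ Ψ := (mk.fixiff Ψ hΨ z h3 hz' v hv).1
      ((huv' z hI).1 ((mk.fixiff Ψ hΨ z h3 hz' u hu).2 h1))
    have ga := c.ga Ψ hΨ.1 (m.2.2 Ψ hΨ.1 hΨ.2.1 hΨ.2.2.1) u h1
    obtain ⟨t, ht, rfl⟩ := ga.tr w h2
    have hrT : r ∈ Ts A Ψ := (c.sk.fle Ψ u h1 v hvΨ).2 hr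
    have hk := ga.com r hrT t ht
    have hin : (t * r) • u ∈ Ψ := c.sk.inv Ψ hΨ.1 _ (mk.tle Ψ (mul_mem ht hrT)) u h1
    have e : r • t • u = t • r • u := by
      have := c.sk.csfix Ψ _ hk _ hin
      rw [← mul_smul, commutatorElement_def] at this
      rw [← mul_smul, ← mul_smul, ← this]
      congr 1; group
    rw [e]
    exact rl_inv mk ((mk.mono Ψ P hΨ.2.1).1 (mk.tle Ψ ht)) h0

end

theorem nf : NfStmt := by
  intro G _ _ Ω _ _ p A h c P m mk o b fe x hx y hy hxy r hr hr' hsq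
  obtain ⟨N, hN, hN'⟩ := b _ (blk h c m mk fe)
  have no : ∀ u ∈ P, ∀ v ∈ P, u ≠ v → ¬ rl A P u v := by
    intro u hu v hv huv hr
    obtain ⟨s, hs, hs'⟩ := (c.ls u v huv).1.tr v (c.sk.ln u v).2
    exact huv ((c.sk.csfix P s (o N hN (hN' u hu v hv huv hr hs)) u hu).symm.trans hs')
  obtain ⟨a, ha, ha1⟩ := ex_ne h x
  obtain ⟨s, hs, hk⟩ := (c.ls x y hxy).2.2.1.surj a ha ha1 r hr
  have haF : a ∈ Fl A x y := le_sup_left (a := A x) (b := A y) ha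
  have hne : x ≠ s • x := by
    intro e
    have hsZ := (c.ls x y hxy).2.1.stab s hs x (c.sk.ln x y).1 e.symm
    have h1 : ⁅a, s⁆ = 1 := by
      rw [commutatorElement_eq_one_iff_mul_comm]
      exact (mem_centralizer_iff.1 hsZ.2) a haF
    rw [h1, mul_one] at hk
    exact hr' (inv_mem_iff.1 hk)
  have hL : s • x ∈ Ln A x y :=
    c.sk.inv _ (ln_sub c hxy) s (mk.tle _ ((c.sk.fle _ x (c.sk.ln x y).1 y (c.sk.ln x y).2).2 hs)) x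
      (c.sk.ln x y).1
  have hP : s • x ∈ P := m.1 x hx y hy hxy hL
  have hR := (c.sk.sp x y hxy x (c.sk.ln x y).1 _ hL hne).1
  have hc : ⁅a, s⁆ ∈ Rl A x y := commutator_mem_commutator haF (rl_le c hxy hs)
  refine no x hx _ hP hne (rl_ft mk fe hx hP hne ha ha1 (comm_ft h ha rfl (hR ▸ hc) ?_))
  obtain ⟨k, hk1, e⟩ : ∃ k, k ∈ Zl A x y ∧ ⁅a, s⁆ = r * k := ⟨_, hk, by group⟩
  have h1 := (mem_centralizer_iff.1 hk1.2) r (rl_le c hxy hr)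
  have h2 := (c.ls x y hxy).2.2.1.zsq k hk1
  have : r * k * (r * k) = r * r := by
    calc r * k * (r * k) = r * (k * r) * k := by group
      _ = r * r * (k * k) := by rw [← h1]; group
      _ = r * r := by rw [h2, mul_one]
  rw [e, this]
  exact hsq

end Cfsg.Agent.H30.CyNf
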