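import Mathlib

/-!
Statement S3817 (a characterisation of the second Fitting subgroup): the interface between the
reduction and the core argument.
-/

set_option autoImplicit false

namespace Cfsg.Agent.H30.F2

open Subgroup

universe u

/-- Modulo a nilpotent normal `p'`-subgroup of `H`, `x` lies in a normal `p`-subgroup of `H`. -/
def Good {G : Type u} [Group G] (p : ℕ) (x : G) (H : Subgroup G) : Prop :=
  ∃ A K : Subgroup G, A ≤ K ∧ K ≤ H ∧ H ≤ normalizer (A : Set G) ∧ H ≤ normalizer (K : Set G) ∧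
    x ∈ K ∧ Group.IsNilpotent A ∧ (Nat.card A).Coprime p ∧ ∀ k ∈ K, ∃ n : ℕ, k ^ p ^ n ∈ A

/-- The core of the proof: there is no non-solvable minimal counterexample. -/
def CoreStmt : Prop := ∀ (G : Type u) [Group G] [Finite G] (p : ℕ) (x : G), p.Prime →
  orderOf x = p → (∀ N : Subgroup G, N.Normal → N ≠ ⊥ → N ⊔ zpowers x = ⊤) →
  normalClosure ({x} : Set G) = ⊤ → ¬ Group.IsSolvable G →
  (∀ H : Subgroup G, H ≠ ⊤ → x ∈ H → Good p x H) → (∀ y : G, closure ({x, y} : Set G) ≠ ⊤) → False

theorem eqns : True := by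
  have := @Good.eq_1.{0}
  have := @CoreStmt.eq_1.{0}
  trivial

end Cfsg.Agent.H30.F2
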