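import Cfsg.Agent.H78.G40A
import Cfsg.Agent.H46.TE7
import Cfsg.Agent.H8.L40Aut

/-! Project L40G: conjugates of the outer involution are never inner (piece E7L). -/

set_option autoImplicit false

open scoped Pointwise
open Subgroup

namespace Cfsg.Agent.H30.G40E7

open Cfsg.Agent.H8 Cfsg.Agent.H23.D2 Cfsg.Agent.H46.TE7 Cfsg.Agent.H46.L40 Cfsg.Agent.H8.L40Aut
open Cfsg.Agent.H46.S94 hiding S3
open Cfsg.Agent.H78.G40 (Kit E7lS y8)

universe u

local notation "C[" A "]" => Subgroup.centralizer (SetLike.coe A)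
local notation "N[" A "]" => Subgroup.normalizer (SetLike.coe A)

set_option synthInstance.maxSize 2000 in
set_option synthInstance.maxHeartbeats 200000 in
theorem orth : ∀ a b c : ZMod 3, a * a + b * b + c * c = 1 → ∀ d e f : ZMod 3,
    d * d + e * e + f * f = 1 → a * d + b * e + c * f = 0 → ∀ g h i : ZMod 3,
    g * g + h * h + i * i = 1 → a * g + b * h + c * i = 0 → d * g + e * h + f * i = 0 →
    !![a, b, c; d, e, f; g, h, i] ^ 4 = 1 ∨ !![a, b, c; d, e, f; g, h, i] ^ 6 = 1 := by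
  decide +kernel

theorem pow12 {n : S3} (h : tr n = n) : n ^ 12 = 1 := by
  have h1 : n.1 * n.1.transpose = 1 := by
    nth_rewrite 1 [← h]
    rw [coe_tr, ← Matrix.transpose_mul]
    change (n * n⁻¹).1.transpose = 1
    rw [mul_inv_cancel]
    exact Matrix.transpose_one
  have e : ∀ i j, n.1 i 0 * n.1 j 0 + n.1 i 1 * n.1 j 1 + n.1 i 2 * n.1 j 2 =
      (1 : Matrix (Fin 3) (Fin 3) (ZMod 3)) i j := fun i j => by
    rw [← h1, Matrix.mul_apply, Fin.sum_univ_three]; rfl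
  have h2 := orth _ _ _ (e 0 0) _ _ _ (e 1 1) (e 0 1) _ _ _ (e 2 2) (e 0 2) (e 1 2)
  rw [← Matrix.eta_fin_three n.1] at h2
  rcases h2 with h2 | h2
  · rw [show 12 = 4 * 3 from rfl, pow_mul, show n ^ 4 = 1 from Subtype.ext h2, one_pow]
  · rw [show 12 = 6 * 2 from rfl, pow_mul, show n ^ 6 = 1 from Subtype.ext h2, one_pow]

theorem trE_sq : trE * trE = 1 := MulEquiv.ext tr_tr

theorem trE_conj (n : S3) : trE * MulAut.conj n = MulAut.conj (tr n) * trE :=
  MulEquiv.ext fun x => by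
    simp only [MulAut.mul_apply, MulAut.conj_apply, trE_apply, tr_mul, tr_inv]

theorem cases (k : Kit) (δ : MulAut S3) : ∃ n, δ = MulAut.conj n ∨ δ = MulAut.conj n * trE := by
  obtain ⟨m, h | h⟩ := k.aut δ
  · exact ⟨m, Or.inl (MulEquiv.ext h)⟩
  · exact ⟨m, Or.inr (MulEquiv.ext h)⟩

theorem cen12 (k : Kit) {δ : MulAut S3} (h : Commute δ trE) : δ ^ 12 = 1 := by
  obtain ⟨n, hn⟩ := cases k δ
  have h1 : Commute (MulAut.conj n) trE := by
    rcases hn with rfl | rfl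
    · exact h
    · have := h.mul_left (Commute.refl trE)
      rwa [mul_assoc, trE_sq, mul_one] at this
  have h2 : MulAut.conj n ^ 12 = 1 := by
    rw [← map_pow, pow12 (conj_inj (mul_right_cancel ((trE_conj n).symm.trans h1.eq.symm))),
      map_one]
  rcases hn with rfl | rfl
  · exact h2
  · rw [h1.mul_pow, h2, one_mul, show 12 = 2 * 6 from rfl, pow_mul, pow_two, trE_sq, one_pow]

theorem gc {Γ : Type*} [Group Γ] {e δ τ : Γ} (h : Commute δ (e * τ * e⁻¹)) :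
    Commute (e⁻¹ * δ * e) τ := by
  calc e⁻¹ * δ * e * τ = e⁻¹ * (δ * (e * τ * e⁻¹)) * e := by group
    _ = τ * (e⁻¹ * δ * e) := by rw [h.eq]; group

theorem pow4 (k : Kit) {α δ : MulAut S3} (h1 : α * α = 1) (h2 : ¬ H46.S94.Inn α) (h3 : Commute δ α)
    (h4 : δ ^ 8 = 1) : δ ^ 4 = 1 := by
  obtain ⟨m, hm⟩ := cases k α
  obtain rfl := hm.resolve_left fun h => h2 ⟨m, h⟩
  rw [mul_assoc, ← mul_assoc trE, trE_conj, mul_assoc, trE_sq, mul_one, ← map_mul] at h1
  obtain ⟨e, rfl⟩ := k.gr m (conj_inj (h1.trans (map_one _).symm))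
  rw [map_mul, mul_assoc, ← tr_inv, ← trE_conj, ← mul_assoc, map_inv] at h3
  have h5 := cen12 k (gc h3)
  nth_rewrite 2 [← inv_inv (MulAut.conj e)] at h5
  rw [conj_pow, mul_inv_eq_one, inv_mul_eq_iff_eq_mul, mul_inv_cancel,
    show 12 = 8 + 4 from rfl, pow_add, h4, one_mul] at h5
  exact h5

theorem rel : y8 * z0 = z0 * y8 ∧ y8 ^ 8 = 1 ∧ y8 ^ 4 ≠ 1 := by decide +kernel

theorem gd {Γ : Type*} [Group Γ] {c y z : Γ} (h : y * z = z * y) :
    c * z * c⁻¹ * (c * y * c⁻¹) = c * y * c⁻¹ * (c * z * c⁻¹) := by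
  calc _ = c * (z * y) * c⁻¹ := by group
    _ = _ := by rw [← h]; group

theorem eight (k : Kit) {a : S3} (h : a * a = 1) : ∃ p : S3, a * p = p * a ∧ p ^ 8 = 1 ∧ p ^ 4 ≠ 1 := by
  obtain ⟨r1, r2, r3⟩ := rel
  by_cases h1 : a = 1
  · exact ⟨y8, by rw [h1, one_mul, mul_one], r2, r3⟩
  · obtain ⟨c, rfl⟩ := isConj_iff.1 (k.inv a h h1)
    exact ⟨c * y8 * c⁻¹, gd r1, by rw [conj_pow, r2, mul_one, mul_inv_cancel],
      by rwa [conj_pow, Ne, mul_inv_eq_one, mul_eq_left]⟩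

theorem ind_pow {G : Type u} [Group G] {B : Subgroup G} {d : B →* S3} {x : G} {δ : MulAut S3}
    (hx : x ∈ N[B]) (h : Ind d x δ) (n : ℕ) : Ind d (x ^ n) (δ ^ n) := by
  induction n with
  | zero => rw [pow_zero, pow_zero]; exact ind_C (one_mem _)
  | succ n ih => rw [pow_succ, pow_succ]; exact Ind.mul hx ih h

theorem e7l : E7lS.{u} := by
  intro k G _ _ φ t F O B d h α as c W E BF _ hH hF hh h2 ht hα hout
  have := as.normal
  have := Fact.mk Nat.prime_two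
  have c4 : ∀ x ∈ N[B], x * h = h * x → x ^ 8 = 1 → x ^ 4 ∈ C[B] := fun x hx e1 e2 => by
    obtain ⟨δ, hδ⟩ := E.aut x hx
    have a1 := Ind.mul hh.1.1 hδ hα
    rw [e1] at a1
    have a2 := ind_pow hx hδ 8
    rw [e2] at a2
    have a3 := ind_pow hx hδ 4
    rw [pow4 k (ind_sq E hh.1.1 hα h2) hout (ind_uniq E (mul_mem hh.1.1 hx) a1 (Ind.mul hx hα hδ))
      (ind_uniq E (one_mem _) a2 (ind_C (one_mem _)))] at a3
    exact E.inn _ (pow_mem hx 4) a3
  have pg : ∀ {Γ : Type u} [Group Γ] {a : Γ} {n : ℕ}, a ^ 2 ^ n = 1 → IsPGroup 2 (zpowers a) :=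
    fun {Γ} _ {a n} e => by
      rintro ⟨_, j, rfl⟩
      exact ⟨n, Subtype.ext (by
        change (a ^ j) ^ 2 ^ n = 1
        rw [← zpow_natCast, ← zpow_mul, mul_comm, zpow_mul, zpow_natCast, e, one_zpow])⟩
  obtain ⟨R, hR, tR⟩ := exists_isSylowIn_ge (H := centralizer {h})
    (pg (n := 1) (by rw [pow_one, pow_two, c.tt]))
    (zpowers_le.2 (mem_centralizer_singleton_iff.2 ht.symm))
  have tH : t ∈ N[XX t B] := mem_N_iff.2 (by
    rw [smul_sup, conj_smul_conj_smul, c.tt, map_one, one_smul, sup_comm])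
  have RH : R ≤ N[XX t B] := by
    by_contra nl
    obtain ⟨r, hr, nr⟩ := SetLike.exists_of_lt (lt_inf_normalizer_of_lt hR.isPGroup
      (H := R ⊓ N[XX t B]) (lt_of_le_of_ne inf_le_left fun e => nl (inf_eq_left.1 e)))
    exact nr ⟨hr.1, hH r (norm_conj hr.2 ⟨tR (mem_zpowers t), tH⟩).2⟩
  have never : ∀ g β, g * h * g⁻¹ ∈ N[B] → Ind d (g * h * g⁻¹) β → ¬ H46.S94.Inn β := by
    rintro g _ hu hβ ⟨a, rfl⟩
    have a1 := ind_sq E hu hβ (by
      calc _ = g * (h * h) * g⁻¹ := by group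
        _ = 1 := by rw [h2]; group)
    rw [← map_mul] at a1
    obtain ⟨p, p1, p2, p3⟩ := eight k (conj_inj (a1.trans (map_one _).symm))
    have pP : IsPGroup 2 (zpowers p) := IsPGroup.of_card (n := 3) (by
      rw [Nat.card_zpowers]; exact orderOf_eq_prime_pow p3 p2)
    obtain ⟨ι, i1, i2⟩ := E.lift _ hu _ hβ (zpowers p) pP (by
      rintro _ ⟨j, rfl⟩
      rw [map_zpow, MulAut.conj_apply, p1, mul_inv_cancel_right])
    obtain ⟨y, hy⟩ : ∃ y, y = ι ⟨p, mem_zpowers p⟩ := ⟨_, rfl⟩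
    have y8 : (y : G) ^ 8 = 1 := by
      rw [← coe_pow, hy, ← map_pow, show (⟨p, mem_zpowers p⟩ : zpowers p) ^ 8 = 1 from
        Subtype.ext p2, map_one, coe_one]
    have y4 : (y : G) ^ 4 ≠ 1 := fun e => p3 (by
      have := congrArg d (show y ^ 4 = 1 from Subtype.ext e)
      rwa [map_pow, hy, i1, map_one] at this)
    have yh : g⁻¹ * y * g⁻¹⁻¹ ∈ centralizer ({h} : Set G) := mem_centralizer_singleton_iff.2 (by
      calc g⁻¹ * y * g⁻¹⁻¹ * h = g⁻¹ * (y * (g * h * g⁻¹)) * g := by group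
        _ = _ := by rw [hy, ← i2]; group)
    obtain ⟨j, -, hj⟩ := hR.exists_conj_le (pg (n := 3) (a := g⁻¹ * y * g⁻¹⁻¹) (by
      rw [conj_pow]; norm_num [y8])) (zpowers_le.2 yh)
    obtain ⟨x, hx⟩ : ∃ x, x = j * g⁻¹ * y * (j * g⁻¹)⁻¹ := ⟨_, rfl⟩
    have xR : x ∈ R := hj (mem_conj.2 (by
      rw [show j⁻¹ * x * j = g⁻¹ * y * g⁻¹⁻¹ by rw [hx]; group]; exact mem_zpowers _))
    have x0 : x ∈ H0 t B := hF ⟨RH xR, hx ▸ as.normal.conj_mem _ (BF y.2) _⟩
    have xh : x * h = h * x := mem_centralizer_singleton_iff.1 (hR.le xR)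
    have x8 : x ^ 8 = 1 := by rw [hx, conj_pow, y8, mul_one, mul_inv_cancel]
    have tp : ∀ n : ℕ, (t * x * t) ^ n = t * x ^ n * t := fun n => by
      nth_rewrite 2 4 [← c.tinv]
      exact conj_pow
    have b1 := c4 x x0.1 xh x8
    have b2 := c4 _ (tN c x0) (by
      calc t * x * t * h = t * (x * h) * t := by rw [mul_assoc _ t, ← ht]; group
        _ = _ := by rw [xh, ← mul_assoc, ← ht]; group) (by rw [tp, x8, mul_one, c.tt])
    rw [tp] at b2
    have b3 : x ^ 4 ∈ C[XX t B] := by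
      have : XX t B ≤ centralizer {x ^ 4} := sup_le
        (fun b hb => mem_centralizer_singleton_iff.2 (b1 b hb)) fun b hb =>
          mem_centralizer_singleton_iff.2 (by
            have a3 := (comm_conj_iff (g := t)).2 (b2 _ ((mem_tB c).1 hb))
            rwa [c.tinv, tt_cj c, tt_cj c] at a3)
      exact fun b hb => mem_centralizer_singleton_iff.1 (this hb)
    have b4 : x ^ 4 = 1 := eq_one_of_odd_two (E.codd.of_dvd_nat (by
      simpa using orderOf_dvd_natCard (⟨_, b3⟩ : C[XX t B]))) (n := 1) (by rw [← pow_mul]; exact x8)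
    rw [hx, conj_pow, mul_inv_eq_one, mul_eq_left] at b4
    exact y4 b4
  intro g _ β γ hu h3 h4
  have e : t * (g * h * g⁻¹) * t = t * g * h * (t * g)⁻¹ := by rw [mul_inv_rev, c.tinv]; group
  exact iff_of_false (never g β hu.1 h3) (never (t * g) γ (e ▸ tN c hu) (e ▸ h4))

end Cfsg.Agent.H30.G40E7
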