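import Cfsg.Agent.H56.HLK

/-! Project HL (S3727), piece P1: lines in the parabolic case. -/

set_option autoImplicit false
set_option linter.unusedSectionVars false

namespace Cfsg.Agent.H30.HlP1

open MulAction Subgroup Cfsg.Agent.H83 Cfsg.Agent.H56.TT Cfsg.Agent.H56.HL
open scoped Cfsg.Agent.H63

universe u v

theorem vx_ne_bot {G : Type u} [Group G] {N E : Subgroup G} {q : ℕ} (h : L3 N q) (hE : Vx N q E) :
    ∃ t ∈ E, t ≠ 1 := by
  by_contra hc
  push Not at hc
  have e : E = ⊥ := (eq_bot_iff_forall _).2 hc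
  have h1 := hE.card
  rw [e, card_bot] at h1
  have h2 := h.two_le
  nlinarith

theorem p1 : P1Stmt.{u, v} := by
  intro G Ω _ _ _ _ _ NN q h hP
  classical
  have hex : ∀ x y : Ω, ∃ E : Subgroup G, x ≠ y → Vx (NN x) q E ∧ NN x ⊓ stabilizer G y ≤ N[E] ∧
      SS (NN x) q E ≤ stabilizer G y := fun x y => by
    by_cases hxy : x ≠ y
    · obtain ⟨E, hE⟩ := hP x y hxy
      exact ⟨E, fun _ => hE⟩
    · exact ⟨⊥, fun h => absurd h hxy⟩
  choose EE hEE using hex
  have vx : ∀ {x y : Ω}, x ≠ y → Vx (NN x) q (EE x y) := fun hxy => (hEE _ _ hxy).1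
  have sS : ∀ {x y : Ω}, x ≠ y → SS (NN x) q (EE x y) ≤ stabilizer G y :=
    fun hxy => (hEE _ _ hxy).2.2
  have uniq : ∀ {x y : Ω} {E : Subgroup G}, x ≠ y → Vx (NN x) q E →
      SS (NN x) q E ≤ stabilizer G y → EE x y = E := fun {x y E} hxy h1 h2 =>
    (h.kit x).ka.normS h1 (vx hxy) ((le_inf SS_le_N h2).trans (hEE _ _ hxy).2.1)
  have smul : ∀ (g : G) {x y : Ω}, x ≠ y → EE (g • x) (g • y) = cj g (EE x y) :=
    fun g {x y} hxy => by
      refine uniq (fun e => hxy (MulAction.injective g e)) ?_ ?_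
      · rw [h.smul]; exact (vx hxy).cj' g
      · rw [h.smul, ← cj_SS', ← cj_stab]; exact cj_mono g (sS hxy)
  have same : ∀ {x y p : Ω}, x ≠ y → x ≠ p → Same (NN x) (EE x y) (EE x p) :=
    fun hy hp => h.same_of_smul vx smul hy hp
  have nrm : ∀ {x y : Ω} {g : G}, x ≠ y → g • x = x → g • y = y → g ∈ N[EE x y] :=
    fun {x y g} hxy hx hy => cj_eq_self_iff.1 (by rw [← smul g hxy, hx, hy])
  have dich : ∀ {a b : Ω}, a ≠ b → EE a b = EE b a ∨ EE b a ≤ C[NN a] := fun {a b} hab => by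
    have hSa : ∀ s ∈ SS (NN a) q (EE a b), s • a = a := fun s hs => h.fix a (SS_le_N hs)
    have hSb : ∀ s ∈ SS (NN a) q (EE a b), s • b = b := fun s hs => sS hab hs
    have hS'a : ∀ s ∈ SS (NN b) q (EE b a), s • a = a := fun s hs => sS hab.symm hs
    have hS'b : ∀ s ∈ SS (NN b) q (EE b a), s • b = b := fun s hs => h.fix b (SS_le_N hs)
    have hnS : ∀ g : G, g • a = a → g • b = b → g ∈ N[SS (NN a) q (EE a b)] :=
      fun g ha hb => mem_norm_SS (h.norm ha) (nrm hab ha hb)
    have hle := (h.kit b).ka.leSS (vx hab.symm)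
    by_cases h0 : ∃ t ∈ EE b a ⊓ SS (NN a) q (EE a b), t ≠ 1
    · left
      obtain ⟨t, ht, ht1⟩ := h0
      obtain ⟨F, hF⟩ := (h.kit b).ka.nbr (vx hab.symm)
      have hES : EE b a ≤ SS (NN a) q (EE a b) := fun t' ht' => by
        by_cases e : t' = 1
        · rw [e]; exact one_mem _
        obtain ⟨g, hg, rfl⟩ := ((h.kit b).l3.fd hF.symm).trS t ht.1 t' ht' ht1 e
        exact (mem_normalizer_iff.1 (hnS g (hS'a g hg) (hS'b g hg)) t).1 ht.2
      refine ((h.kit a).ka.normS (vx hab)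
        ⟨hES.trans SS_le_N, (vx hab.symm).sq, (vx hab.symm).card⟩ fun s hs => ?_).symm
      exact nrm hab.symm (hSb s hs) (hSa s hs)
    · right
      push Not at h0
      intro w hw
      have hwa := hS'a w (hle hw)
      have hwb := hS'b w (hle hw)
      refine (h.kit a).kb.ck (vx hab) w (h.norm hwa) (mem_centralizer_iff.2 fun s hs => ?_)
      have h1 : s * w * s⁻¹ * w⁻¹ = 1 := by
        refine h0 _ ⟨?_, ?_⟩
        · exact (EE b a).mul_mem
            ((mem_normalizer_iff.1 (nrm hab.symm (hSb s hs) (hSa s hs)) w).1 hw)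
            ((EE b a).inv_mem hw)
        · have h2 := (mem_normalizer_iff.1 (hnS w hwa hwb) s⁻¹).1 (inv_mem hs)
          have h3 := (SS (NN a) q (EE a b)).mul_mem hs h2
          simpa [mul_assoc] using h3
      rw [mul_inv_eq_one, mul_inv_eq_iff_eq_mul] at h1
      exact h1
  have symm : ∀ a b : Ω, a ≠ b → EE a b = EE b a := fun a b hab => by
    rcases dich hab with e | hc
    · exact e
    exfalso
    have hall := h.spread (fun x y => EE y x ≤ C[NN x]) (fun g x y hxy hxy' => by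
      rw [smul g hxy.symm, h.smul, ← cj_centralizer]; exact cj_mono g hxy') hab hc
    obtain ⟨n, hn, hnb⟩ := h.fix1 hab
    have hna : n • a = a := h.fix a hn
    have hb'a : n • b ≠ a := fun e => hab (MulAction.injective n (hna.trans e.symm))
    have e1 : EE (n • b) a = EE b a := by
      conv_lhs => rw [← hna]
      rw [smul n hab.symm]
      exact cj_eq_self (centralizer_le_normalizer _ (le_centralizer_iff.1 hc hn))
    have h1 : EE b a ≤ NN (n • b) := e1 ▸ (vx hb'a).le
    have h2 : EE b (n • b) ≤ C[NN (n • b)] := hall _ _ hnb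
    have e2 : EE b (n • b) = EE b a := by
      by_contra hne
      exact (h.kit b).ka.move (vx hnb.symm) (same hnb.symm hab.symm) hne
        (h2.trans ((cent_anti h1).trans (centralizer_le_normalizer _)))
    obtain ⟨t, ht, ht1⟩ := vx_ne_bot (h.kit b).l3 (vx hab.symm)
    exact ht1 ((h.kit _).ka.cenN t (h1 ht) (h2 (e2 ▸ ht)))
  refine ⟨EE, h, ⟨vx, symm, smul, fun {x y p} hxy hxp hle => ?_, same⟩, sS⟩
  by_contra hne
  exact (h.kit x).ka.move (vx hxy) (same hxy hxp) (Ne.symm hne)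
    ((le_inf (vx hxy).le hle).trans (hEE _ _ hxp).2.1)

end Cfsg.Agent.H30.HlP1
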