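import Cfsg.Agent.H42.HtDefs

/-! The element moving `t` to `t z` can be chosen in one of two normalisers. -/

set_option autoImplicit false

namespace Cfsg.Agent.H30.HtTC2

open Cfsg Cfsg.Agent.H63 Cfsg.Agent.H63.AN Cfsg.Agent.H42.HT Cfsg.Agent.H7.AA Subgroup
open Equiv (swap Perm)
open Equiv.Perm (sign)
open scoped commutatorElement

universe u

theorem cj_comm {G : Type u} [Group G] {g a b : G} (h : Commute a (g * b * g⁻¹)) :
    Commute (g⁻¹ * a * g) b := by
  have := h.map (MulAut.conj g⁻¹)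
  simpa [mul_assoc] using this

theorem tc2 : Tc2Stmt.{u} := by
  intro ff G _ _ ψ t fr _ u s d g nw gz gu tc
  have h5 : 5 ≤ Fintype.card (Fin 10) := by decide
  have sz : sign z8 = 1 := by decide
  set z := ev ψ z8 with hz
  have tL : ∀ σ, Commute t (ev ψ σ) := fun σ => KA_ev fr.tK σ
  have uz : Commute u z := nw.ua.comm sz (by decide)
  have s_z : Commute s z := nw.sA _ z8_mem
  have zz : z * z = 1 := by rw [hz, ← ev_mul sz sz, show z8 * z8 = 1 by decide, ev_one]
  have si : s⁻¹ = s := inv_eq_of_mul_eq_one_right nw.s2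
  have uK : u ∉ KA ψ := fun h => absurd (nw.ua.eq_of h5 fr.inj h) (by decide)
  obtain ⟨s', hs'⟩ : ∃ s', s' = g * s * g⁻¹ := ⟨_, rfl⟩
  have s'u : Commute s' u := hs' ▸ (gu.mul_left nw.su).mul_left gu.inv_left
  have s'z : Commute s' z := hs' ▸ (gz.gz.mul_left s_z).mul_left gz.gz.inv_left
  have s'2 : s' * s' = 1 := by rw [hs', conj_mul, nw.s2]; group
  have s't : s' * t * s'⁻¹ = t * u := by
    have e : s' * (t * z) * s'⁻¹ = t * z * u := by
      rw [← gz.gt, hs']
      calc _ = g * (s * t * s⁻¹) * g⁻¹ := by group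
        _ = g * t * g⁻¹ * (g * u * g⁻¹) := by rw [nw.st]; group
        _ = _ := by rw [gu.eq, mul_inv_cancel_right]
    refine mul_right_cancel (b := z) ?_
    rw [mul_assoc t, uz.eq, ← mul_assoc t, ← e, mul_assoc _ _ z, s'z.inv_left.eq]; group
  obtain ⟨c, hc⟩ : ∃ c, c = s * s' := ⟨_, rfl⟩
  have ct : Commute c t := by
    have e : c * t * c⁻¹ = t := by
      calc _ = s * (s' * t * s'⁻¹) * s⁻¹ := by rw [hc]; group
        _ = s * t * s⁻¹ * (s * u * s⁻¹) := by rw [s't]; group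
        _ = t := by rw [nw.st, nw.su.eq, mul_inv_cancel_right, mul_assoc, nw.u2, mul_one]
    exact mul_inv_eq_iff_eq_mul.1 e
  have cu : Commute c u := hc ▸ nw.su.mul_left s'u
  have cz : Commute c z := hc ▸ s_z.mul_left s'z
  have sc : s * c * s⁻¹ = c⁻¹ := by
    rw [hc, ← mul_assoc, nw.s2, one_mul, mul_inv_rev, inv_eq_of_mul_eq_one_right s'2]
  obtain ⟨q, hq⟩ := fr.act c ct
  have hq4 := ff.cz q (hq.comm_perm fr.inj sz cz) fun σ hσ σz => by
    have s1 : sign σ = 1 := (H78.mem_altOn.1 hσ).2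
    have sq : sign ⁅σ, q⁆ = 1 := by
      rw [commutatorElement_def, mul_assoc, mul_assoc, ← mul_assoc q, map_mul, sign_conj', map_inv,
        mul_inv_cancel]
    have az : Commute (ev ψ σ) z := ev_comm s1 sz σz
    have au : Commute u (ev ψ σ) := nw.ua.comm s1 (by
      refine Equiv.Perm.Disjoint.commute fun k => ?_
      by_cases hk : k = 2 ∨ k = 3
      · exact Or.inr ((H78.mem_altOn.1 hσ).1 k (by rcases hk with rfl | rfl <;> decide))
      · exact Or.inl (Equiv.swap_apply_of_ne_of_ne (fun e => hk (Or.inl e)) fun e => hk (Or.inr e)))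
    obtain ⟨o, ho, e⟩ := tc.2.2 (g⁻¹ * ev ψ σ * g)
      (cj_comm (gz.gt ▸ (tL σ).symm.mul_right az))
      ((gu.inv_left.mul_left au.symm).mul_left gu)
    have ho' := tc.1 _ (tc.2.1 _ ho)
    have e1 : ev ψ ⁅σ, q⁆ = s * (g * ⁅g⁻¹ * ev ψ σ * g, s⁆ * g⁻¹) * s⁻¹ := by
      have s2 : sign σ⁻¹ = 1 := by rw [map_inv, s1, inv_one]
      have e2 := hq σ⁻¹ s2
      rw [commutatorElement_def, mul_assoc, mul_assoc, ← mul_assoc q,
        ev_mul s1 (by rw [sign_conj', s2]), ← e2, ev_inv s1, hc, hs', commutatorElement_def]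
      calc _ = (ev ψ σ * s) * (g * s * g⁻¹ * (ev ψ σ)⁻¹ * (s * (g * s * g⁻¹))⁻¹) := by group
        _ = _ := by rw [← (nw.sA σ hσ).eq]; group
    rcases e with e | e <;> rw [e] at e1
    · rw [ev_KA h5 fr.inj sq (e1 ▸ ho'.1.1), orderOf_one]; exact odd_one
    · have e2 : ev ψ ⁅σ, q⁆ = s * (g * o * g⁻¹) * s⁻¹ * u := by
        rw [e1, ← mul_assoc g, mul_assoc _ u, ← gu.inv_left.eq, ← mul_assoc _ _ u, ← mul_assoc s,
          mul_assoc _ u, ← nw.su.inv_left.eq, ← mul_assoc]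
      have := (acts_ev (ψ := ψ) sq).uniq h5 fr.inj (e2 ▸ (acts_of_KA ho'.1.1).mul nw.ua)
      rw [this] at sq
      exact absurd sq (by decide)
  have key : ∀ y, Acts ψ y q → y * y = 1 → Commute y s → Commute y t → Commute y u → Commute y c →
      ∃ g', Gz ψ t g' ∧ Commute g' u ∧ g' * s * g'⁻¹ = s * y := by
    intro y ya yy ys yt yu yc
    have yi : y⁻¹ = y := inv_eq_of_mul_eq_one_right yy
    obtain ⟨κ, hκ⟩ : ∃ κ, κ = c * y⁻¹ := ⟨_, rfl⟩
    have κK : κ ∈ KA ψ := Acts.KA (by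
      have := hq.mul ya.inv
      rwa [mul_inv_cancel, ← hκ] at this)
    have κt : Commute κ t := hκ ▸ ct.mul_left yt.inv_left
    have κu : Commute κ u := hκ ▸ cu.mul_left yu.inv_left
    have κy : Commute κ y := hκ ▸ yc.symm.mul_left (Commute.refl y).inv_left
    have sκ : s * κ * s⁻¹ = κ⁻¹ := by
      calc _ = s * c * s⁻¹ * (s * y⁻¹ * s⁻¹) := by rw [hκ]; group
        _ = _ := by
          rw [sc, ← ys.inv_left.eq, mul_inv_cancel_right, hκ, ← yc.inv_left.eq, mul_inv_rev,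
            inv_inv, yi]
    rcases fr.ker κ κK κt with h | h
    · obtain ⟨j, hj⟩ := h.2.2
      obtain ⟨o, ho⟩ : ∃ o, o = κ ^ (j + 1) := ⟨_, rfl⟩
      have oo : o * o = κ := by
        rw [ho, ← pow_add, show j + 1 + (j + 1) = 2 * j + 1 + 1 by ring, ← hj, pow_succ,
          pow_orderOf_eq_one, one_mul]
      have so : s * o * s⁻¹ = o⁻¹ := by rw [ho, ← conj_pow, sκ, inv_pow]
      have ot : Commute o t := ho ▸ κt.pow_left _
      have oz : Commute o z := ho ▸ (Commute.pow_left (KA_ev κK z8) _)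
      have oy : Commute o y := ho ▸ κy.pow_left _
      refine ⟨o * g, ⟨?_, oz.mul_left gz.gz⟩, (ho ▸ κu.pow_left _ : Commute o u).mul_left gu, ?_⟩
      · calc _ = o * (g * t * g⁻¹) * o⁻¹ := by group
          _ = _ := by rw [gz.gt, (ot.mul_right oz).eq, mul_inv_cancel_right]
      · have e : s' = s * (o * o) * y := by
          rw [oo, hκ, hc, ← mul_assoc, ← mul_assoc, nw.s2, one_mul, inv_mul_cancel_right]
        have so' : o * s = s * o⁻¹ := by
          rw [← so, ← mul_assoc, ← mul_assoc, nw.s2, one_mul, si]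
        calc _ = o * (g * s * g⁻¹) * o⁻¹ := by group
          _ = o * s * (o * o) * (y * o⁻¹) := by rw [← hs', e]; group
          _ = _ := by rw [so', ← oy.inv_left.eq]; group
    · have h' := (tc.1 _ ⟨h, κu.mul_left nw.ut.symm⟩).1.1
      have e : κ * t * (s * (κ * t) * s⁻¹) = u := by
        calc _ = κ * t * ((s * κ * s⁻¹) * (s * t * s⁻¹)) := by group
          _ = t * t * u := by rw [sκ, nw.st, κt.eq]; group
          _ = u := by rw [fr.t2, one_mul]
      exact absurd (e ▸ mul_mem h.1 h') uK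
  have za : Acts ψ z z8 := acts_ev sz
  rcases hq4 with rfl | rfl | rfl | rfl
  · obtain ⟨g', h1, h2, h3⟩ := key 1 acts_one (mul_one _) (Commute.one_left _) (Commute.one_left _)
      (Commute.one_left _) (Commute.one_left _)
    exact ⟨g', h1, Or.inl ((mem_Mr nw.u2).2 ⟨h2, Or.inl (h3.trans (mul_one s))⟩)⟩
  · obtain ⟨g', h1, h2, h3⟩ := key u nw.ua nw.u2 nw.su.symm nw.ut (Commute.refl u) cu.symm
    exact ⟨g', h1, Or.inl ((mem_Mr nw.u2).2 ⟨h2, Or.inr h3⟩)⟩
  · obtain ⟨g', h1, h2, h3⟩ := key z za zz s_z.symm (tL _).symm uz.symm cz.symm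
    refine ⟨g', h1, Or.inr ((mem_Mr nw.u2).2 ⟨h2, Or.inl ?_⟩)⟩
    calc _ = g' * t * g'⁻¹ * (g' * s * g'⁻¹) := by group
      _ = t * s * (z * z) := by rw [h1.gt, h3, ← hz, mul_assoc, ← mul_assoc z, ← s_z.eq]; group
      _ = _ := by rw [zz, mul_one]
  · obtain ⟨g', h1, h2, h3⟩ := key (u * z) (nw.ua.mul za)
      (by rw [mul_assoc, ← mul_assoc z, ← uz.eq, mul_assoc, zz, mul_one, nw.u2])
      (nw.su.symm.mul_left s_z.symm) (nw.ut.mul_left (tL _).symm)
      ((Commute.refl u).mul_left uz.symm) (cu.symm.mul_left cz.symm)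
    refine ⟨g', h1, Or.inr ((mem_Mr nw.u2).2 ⟨h2, Or.inr ?_⟩)⟩
    calc _ = g' * t * g'⁻¹ * (g' * s * g'⁻¹) := by group
      _ = t * s * (z * z) * u := by
        rw [h1.gt, h3, ← hz, uz.eq, mul_assoc, ← mul_assoc z, ← s_z.eq]; group
      _ = _ := by rw [zz, mul_one]

end Cfsg.Agent.H30.HtTC2
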