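import Mathlib

set_option autoImplicit false

namespace Cfsg.Agent.H30.K4Ar

theorem key (q x y z : ℤ) (hq : q = 1 + x^2 + y^2 + z^2)
    (H : ∀ a b c d : ℤ, q ∣ b - a*x → q ∣ c - a*y → q ∣ d - a*z → q*a ≤ a^2+b^2+c^2+d^2)
    (k e a nx ny nz rx ry rz : ℤ) (ha : 8*a = k*q + e) (hx : k*x = 8*nx + rx)
    (hy : k*y = 8*ny + ry) (hz : k*z = 8*nz + rz) :
    8*(k*q+e) ≤ q*(k^2+rx^2+ry^2+rz^2) + 2*e*(k + rx*x + ry*y + rz*z) + e^2 := by
  have hq0 : 0 < q := by rw [hq]; positivity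
  have h := H a (a*x - q*nx) (a*y - q*ny) (a*z - q*nz) ⟨-nx, by ring⟩ ⟨-ny, by ring⟩ ⟨-nz, by ring⟩
  have hb : 8*(a*x - q*nx) = q*rx + e*x := by linear_combination x*ha + q*hx
  have hc : 8*(a*y - q*ny) = q*ry + e*y := by linear_combination y*ha + q*hy
  have hd : 8*(a*z - q*nz) = q*rz + e*z := by linear_combination z*ha + q*hz
  have h2 : q*(8*(8*a)) ≤ (8*a)^2 + (8*(a*x - q*nx))^2 + (8*(a*y - q*ny))^2
      + (8*(a*z - q*nz))^2 := by nlinarith [h]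
  rw [hb, hc, hd, ha] at h2
  have h3 : (k*q+e)^2 + (q*rx + e*x)^2 + (q*ry + e*y)^2 + (q*rz + e*z)^2
      = q * (q*(k^2+rx^2+ry^2+rz^2) + 2*e*(k + rx*x + ry*y + rz*z) + e^2) := by
    linear_combination (-e^2) * hq
  rw [h3] at h2
  exact le_of_mul_le_mul_left h2 hq0

theorem key2 (q x y z : ℤ) (hq : q = 1 + x^2 + y^2 + z^2)
    (H : ∀ a b c d : ℤ, q ∣ b - a*x → q ∣ c - a*y → q ∣ d - a*z → q*a ≤ a^2+b^2+c^2+d^2)
    (k nx ny nz rx ry rz : ℤ) (hx : k*x = 8*nx + rx)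
    (hy : k*y = 8*ny + ry) (hz : k*z = 8*nz + rz) :
    (8*k - k^2 - rx^2 - ry^2 - rz^2) * q ≤ 16 := by
  obtain ⟨e, a, he0, he8, ha⟩ : ∃ e a : ℤ, 0 ≤ e ∧ e ≤ 8 ∧ 8*a = k*q + e := by
    generalize k*q = t
    exact ⟨(-t) % 8, -((-t) / 8), by omega, by omega, by omega⟩
  have h1 := key q x y z hq H k e a nx ny nz rx ry rz ha hx hy hz
  have h2 := key q x y z hq H k (e-8) (a-1) nx ny nz rx ry rz (by linear_combination ha) hx hy hz
  have h3 := mul_le_mul_of_nonneg_left h1 (show 0 ≤ 8 - e by omega)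
  have h4 := mul_le_mul_of_nonneg_left h2 he0
  nlinarith [h3, h4, sq_nonneg (e - 4)]

theorem fin : ∀ i ∈ Finset.range 8, ∀ j ∈ Finset.range 8, ∀ l ∈ Finset.range 8,
    (1 + i + j + l) % 2 = 1 → ∃ k ∈ Finset.Icc (1 : ℤ) 4,
      1 ≤ 8*k - k^2 - ((k*(i:ℤ)+4) % 8 - 4)^2 - ((k*(j:ℤ)+4) % 8 - 4)^2
        - ((k*(l:ℤ)+4) % 8 - 4)^2 := by
  decide +kernel

theorem res (k x : ℤ) (i : ℕ) (hi : x % 8 = i) :
    ∃ n : ℤ, k*x = 8*n + ((k*(i:ℤ)+4) % 8 - 4) := by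
  have hx : x = 8 * (x / 8) + i := by omega
  refine ⟨k * (x / 8) + (k*(i:ℤ)+4) / 8, ?_⟩
  have h1 : k * x = 8 * (k * (x / 8)) + k * i := by
    conv_lhs => rw [hx]
    ring
  rw [h1]
  generalize k * (x / 8) = s
  generalize k * (i:ℤ) = t
  omega

theorem sqpar (x : ℤ) : x^2 % 2 = x % 2 := by
  rcases Int.emod_two_eq_zero_or_one x with h | h <;> simp [pow_two, Int.mul_emod, h]

theorem odd_le (q x y z : ℤ) (hq : q = 1 + x^2 + y^2 + z^2)
    (H : ∀ a b c d : ℤ, q ∣ b - a*x → q ∣ c - a*y → q ∣ d - a*z → q*a ≤ a^2+b^2+c^2+d^2)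
    (hodd : q % 2 = 1) : q ≤ 16 := by
  have hq0 : 0 < q := by rw [hq]; positivity
  obtain ⟨i, hi⟩ : ∃ i : ℕ, x % 8 = i := ⟨(x % 8).toNat, by omega⟩
  obtain ⟨j, hj⟩ : ∃ j : ℕ, y % 8 = j := ⟨(y % 8).toNat, by omega⟩
  obtain ⟨l, hl⟩ : ∃ l : ℕ, z % 8 = l := ⟨(z % 8).toNat, by omega⟩
  have px := sqpar x
  have py := sqpar y
  have pz := sqpar z
  obtain ⟨k, -, hk⟩ := fin i (by simp; omega) j (by simp; omega) l (by simp; omega) (by omega)
  obtain ⟨nx, hx⟩ := res k x i hi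
  obtain ⟨ny, hy⟩ := res k y j hj
  obtain ⟨nz, hz⟩ := res k z l hl
  have h := key2 q x y z hq H k nx ny nz _ _ _ hx hy hz
  nlinarith [h, hk, hq0]

theorem odd_cases (q x y z : ℤ) (hq : q = 1 + x^2 + y^2 + z^2)
    (H : ∀ a b c d : ℤ, q ∣ b - a*x → q ∣ c - a*y → q ∣ d - a*z → q*a ≤ a^2+b^2+c^2+d^2)
    (hodd : q % 2 = 1) : q = 1 ∨ q = 3 ∨ q = 7 ∨ q = 15 := by
  have hle := odd_le q x y z hq H hodd
  have hx1 : -4 < x := by nlinarith [sq_nonneg y, sq_nonneg z]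
  have hx2 : x < 4 := by nlinarith [sq_nonneg y, sq_nonneg z]
  have hy1 : -4 < y := by nlinarith [sq_nonneg x, sq_nonneg z]
  have hy2 : y < 4 := by nlinarith [sq_nonneg x, sq_nonneg z]
  have hz1 : -4 < z := by nlinarith [sq_nonneg x, sq_nonneg y]
  have hz2 : z < 4 := by nlinarith [sq_nonneg x, sq_nonneg y]
  have hev : x % 2 = 0 → y % 2 = 0 → z % 2 = 0 → q ≤ 1 := by
    intro h1 h2 h3
    have h := key2 q x y z hq H 4 (x/2) (y/2) (z/2) 0 0 0 (by omega) (by omega) (by omega)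
    norm_num at h
    omega
  have h11 : q ≠ 11 := by
    intro h11
    have h := key2 q x y z hq H 2 ((2*x+4)/8) ((2*y+4)/8) ((2*z+4)/8) ((2*x+4)%8-4) ((2*y+4)%8-4)
      ((2*z+4)%8-4) (by omega) (by omega) (by omega)
    rw [h11] at h hq
    clear H hev
    interval_cases x <;> interval_cases y <;> interval_cases z <;>
      first | omega | (exact absurd h (by decide))
  clear H
  interval_cases x <;> interval_cases y <;> interval_cases z <;> omega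

theorem sq8 (x : ℤ) : x^2 % 8 = 0 ∨ x^2 % 8 = 1 ∨ x^2 % 8 = 4 := by
  have : x % 8 = 0 ∨ x % 8 = 1 ∨ x % 8 = 2 ∨ x % 8 = 3 ∨ x % 8 = 4 ∨ x % 8 = 5 ∨ x % 8 = 6
      ∨ x % 8 = 7 := by omega
  rcases this with h | h | h | h | h | h | h | h <;> simp [pow_two, Int.mul_emod, h]

/-- prime power form -/
theorem ar (p n : ℕ) (hp : p.Prime) (q x y z : ℤ) (hpn : q = (p : ℤ)^n)
    (hq : q = 1 + x^2 + y^2 + z^2) (hx : x ≠ 0) (hy : y ≠ 0) (hz : z ≠ 0)
    (H : ∀ a b c d : ℤ, q ∣ b - a*x → q ∣ c - a*y → q ∣ d - a*z → q*a ≤ a^2+b^2+c^2+d^2) :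
    q = 4 ∨ q = 7 := by
  have x1 : 0 < x^2 := by positivity
  have y1 : 0 < y^2 := by positivity
  have z1 : 0 < z^2 := by positivity
  have h4 : 4 ≤ q := by omega
  rcases hp.eq_two_or_odd' with h2 | ho
  · subst h2
    left
    by_contra hne
    have hn : 3 ≤ n := by
      by_contra hn
      have : n ≤ 2 := by omega
      interval_cases n <;> simp at hpn <;> omega
    obtain ⟨m, rfl⟩ := Nat.exists_eq_add_of_le hn
    have h8 : q % 8 = 0 := by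
      rw [hpn, pow_add]; push_cast; omega
    have a1 := sq8 x
    have a2 := sq8 y
    have a3 := sq8 z
    omega
  · have hodd : q % 2 = 1 := by
      have : Odd q := by
        rw [hpn]; exact Odd.pow (by exact_mod_cast ho)
      exact Int.odd_iff.mp this
    rcases odd_cases q x y z hq H hodd with h | h | h | h
    · omega
    · omega
    · exact Or.inr h
    · exfalso
      have h15 : p ^ n = 15 := by
        have : ((p ^ n : ℕ) : ℤ) = 15 := by push_cast; rw [← hpn, h]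
        exact_mod_cast this
      have h3 : 3 ∣ p := Nat.Prime.dvd_of_dvd_pow Nat.prime_three (by rw [h15]; norm_num)
      have h5 : 5 ∣ p := Nat.Prime.dvd_of_dvd_pow Nat.prime_five (by rw [h15]; norm_num)
      have e3 := (Nat.prime_dvd_prime_iff_eq Nat.prime_three hp).mp h3
      have e5 := (Nat.prime_dvd_prime_iff_eq Nat.prime_five hp).mp h5
      omega

end Cfsg.Agent.H30.K4Ar
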