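import Cfsg.Agent.H30.OUGauss

/-! Every element of `SU_n(q)` is a commutator: assembly from the pieces. -/

set_option autoImplicit false
set_option linter.unusedSectionVars false

namespace Cfsg.Agent.H30.OU

open Matrix

universe u

section
variable {F : Type u} [Field F] [StarRing F] {ι κ : Type} [Fintype ι] [DecidableEq ι] [Fintype κ]
  [DecidableEq κ]

variable (F ι κ) in
/-- the parabolic subgroup -/
def Pb : Subgroup (GJ F ι κ) where
  carrier := {g | ∃ a b c e f i, mat g = blk a b c 0 e f 0 0 i}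
  mul_mem' := by
    rintro x y ⟨a, b, c, e, f, i, hx⟩ ⟨a', b', c', e', f', i', hy⟩
    exact ⟨a * a', a * b' + b * e', a * c' + b * f' + c * i', e * e', e * f' + f * i', i * i', by
      simp [mat_mul, hx, hy, blk_mul]⟩
  one_mem' := ⟨_, _, _, _, _, _, blk_one⟩
  inv_mem' := by
    rintro x ⟨a, b, c, e, f, i, hx⟩
    exact ⟨iᴴ, fᴴ, cᴴ, eᴴ, bᴴ, aᴴ, by simp [mat_inv, hx, J, blk_ct, blk_mul]⟩

theorem Col.mem_Pb [Subsingleton κ] {g : GJ F ι κ} {a : Matrix ι ι F} {x : Matrix κ ι F}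
    (h : Col g a x 0) : g ∈ Pb F ι κ := by
  have hx : x = 0 := by
    have := h.rel
    simp only [conjTranspose_zero, Matrix.zero_mul, Matrix.mul_zero, zero_add, add_zero] at this
    have h2 := eq_zero_of_mul_ct (y := xᴴ) (by rwa [conjTranspose_conjTranspose])
    simpa using h2
  subst hx
  obtain ⟨b, c', e, f, h, i, hg⟩ := h
  have := mat_uni g
  simp only [hg, J, blk_ct, blk_mul, blk_inj, conjTranspose_zero, Matrix.mul_zero,
    Matrix.zero_mul, add_zero, zero_add, Matrix.mul_one] at this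
  have h1 := congrArg (i * ·) this.2.1
  simp only [← Matrix.mul_assoc, mul_eq_one_comm.1 this.2.2.1, Matrix.one_mul,
    Matrix.mul_zero] at h1
  exact ⟨a, b, c', e, f, i, by rw [hg, h1]⟩

theorem mem_SU {n q : ℕ} (hs : ∀ x : F, star x = x ^ q) {g : SpecialLinearGroup (Fin n) F} :
    g ∈ Cfsg.SU n F q ↔ g.1ᴴ * g.1 = 1 := by
  have e : ∀ u v : Fin n → F, Cfsg.hermForm n F q u v = star v ⬝ᵥ u := fun u v =>
    Finset.sum_congr rfl fun i _ => by rw [Pi.star_apply, hs, mul_comm]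
  constructor
  · intro h
    ext i j
    have := h (Pi.single j 1) (Pi.single i 1)
    rw [e, e] at this
    change star (g.1 *ᵥ _) ⬝ᵥ g.1 *ᵥ _ = _ at this
    rw [← star_dot, mulVec_mulVec] at this
    simpa [Pi.star_single, one_apply, Pi.single_apply, eq_comm] using this
  · intro h u v
    rw [e, e]
    change star (g.1 *ᵥ _) ⬝ᵥ g.1 *ᵥ _ = _
    rw [← star_dot, mulVec_mulVec, h, one_mulVec]

theorem exists_hom [Finite F] (h : ∃ a : F, star a ≠ a) {n q : ℕ} (hs : ∀ x : F, star x = x ^ q)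
    (e : Fin n ≃ ι ⊕ κ ⊕ ι) : ∃ Φ : Cfsg.SU n F q →* GJ F ι κ, Function.Injective Φ ∧
      Φ.range = SJ F ι κ ∧ ∀ (z : Cfsg.SU n F q) (c : F), z.1.1 = c • 1 → mat (Φ z) = c • 1 := by
  have hJ : (J F ι κ).det ≠ 0 :=
    left_ne_zero_of_mul_eq_one (by rw [← det_mul, J_mul_J, det_one] : _ * (J F ι κ).det = 1)
  obtain ⟨P, hP⟩ := exists_gram h J_ct hJ
  have hd : IsUnit P.det := Ne.isUnit fun h0 => hJ (by rw [← hP, det_mul, h0, mul_zero])
  have p1 : P * P⁻¹ = 1 := mul_nonsing_inv _ hd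
  have p2 : P⁻¹ * P = 1 := nonsing_inv_mul _ hd
  have c1 : ∀ X, P * (P⁻¹ * X) = X := fun X => by rw [← Matrix.mul_assoc, p1, Matrix.one_mul]
  have c2 : ∀ X, P⁻¹ * (P * X) = X := fun X => by rw [← Matrix.mul_assoc, p2, Matrix.one_mul]
  have c3 : ∀ X, P⁻¹ᴴ * (Pᴴ * X) = X := fun X => by
    rw [← Matrix.mul_assoc, ← conjTranspose_mul, p1, conjTranspose_one, Matrix.one_mul]
  have dP : P⁻¹.det * P.det = 1 := by rw [← det_mul, p2, det_one]
  let ψ := reindexAlgEquiv F F e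
  have ψs : ∀ A, (ψ A)ᴴ = ψ Aᴴ := fun A => conjTranspose_reindex _ _ _
  have ψd : ∀ A, (ψ A).det = A.det := fun A => det_reindex_self _ _
  let Φ : Cfsg.SU n F q →* GJ F ι κ :=
    { toFun := fun A => mk (P⁻¹ * ψ A.1.1 * P) (by
        rw [← hP]
        simp only [conjTranspose_mul, Matrix.mul_assoc, c1, c3]
        rw [← Matrix.mul_assoc _ (ψ _), ψs, ← map_mul, (mem_SU hs).1 A.2, map_one, Matrix.one_mul])
      map_one' := mat_ext (by
        rw [mat_mk, mat_one]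
        change P⁻¹ * ψ 1 * P = 1
        rw [map_one, Matrix.mul_one, p2])
      map_mul' := fun A B => mat_ext (by
        rw [mat_mul, mat_mk, mat_mk, mat_mk]
        change P⁻¹ * ψ (A.1.1 * B.1.1) * P = _
        simp only [map_mul, Matrix.mul_assoc, c1]) }
  have hΦ : ∀ A, mat (Φ A) = P⁻¹ * ψ A.1.1 * P := fun _ => rfl
  refine ⟨Φ, fun A B hAB => ?_, le_antisymm ?_ fun x hx => ?_, fun z c hz => ?_⟩
  · have := congrArg (fun x => P * mat x * P⁻¹) hAB
    simp only [hΦ, Matrix.mul_assoc, c1, p1, Matrix.mul_one] at this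
    exact Subtype.ext (Subtype.ext (ψ.injective this))
  · rintro _ ⟨A, rfl⟩
    rw [mem_SJ, hΦ, det_mul, det_mul, ψd, A.1.2, mul_one, dP]
  · have h1 : (P * mat x * P⁻¹)ᴴ * (P * mat x * P⁻¹) = 1 := by
      have := mat_uni x
      rw [← hP] at this
      calc _ = P⁻¹ᴴ * ((mat x)ᴴ * (Pᴴ * P) * mat x) * P⁻¹ := by
            simp only [conjTranspose_mul, Matrix.mul_assoc]
        _ = 1 := by rw [this, Matrix.mul_assoc, Matrix.mul_assoc, c3, p1]
    refine ⟨⟨⟨ψ.symm (P * mat x * P⁻¹), ?_⟩, (mem_SU hs).2 (ψ.injective ?_)⟩, mat_ext ?_⟩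
    · rw [← ψd, ψ.apply_symm_apply, det_mul, det_mul, mem_SJ.1 hx, mul_one, mul_comm, dP]
    · rw [map_mul, ← ψs, ψ.apply_symm_apply, h1, map_one]
    · rw [hΦ]
      simp only [AlgEquiv.apply_symm_apply, Matrix.mul_assoc, c2, p2, Matrix.mul_one]
  · rw [hΦ, hz, map_smul, map_one, Matrix.mul_smul, Matrix.smul_mul, Matrix.mul_one, p2]

end

theorem ore_su (h1 : FactStmt.{u}) (h2 : SmallStmt.{u}) (h3 : BigStmt.{u}) (h4 : ScalStmt.{u})
    {F : Type u} [Field F] [Fintype F] (n q : ℕ) (hn : 3 ≤ n) (hF : Fintype.card F = q ^ 2)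
    (hex : ¬ (n = 3 ∧ q = 2)) (g : Cfsg.SU n F q) :
    ∃ a b : Cfsg.SU n F q, g = a * b * a⁻¹ * b⁻¹ := by
  let _ : StarRing F :=
    { star := fun x => x ^ q
      star_involutive := H31.pow_q_pow_q hF
      star_mul := fun a b => by change (a * b) ^ q = b ^ q * a ^ q; rw [mul_pow, mul_comm]
      star_add := H31.add_pow_q hF }
  have hs : ∀ x : F, star x = x ^ q := fun _ => rfl
  have h : ∃ a : F, star a ≠ a := H31.exists_pow_q_ne hF
  by_cases hz : g ∈ Subgroup.center (Cfsg.SU n F q)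
  · obtain ⟨c, hc⟩ := (H31.mem_center_SU_iff hF (by omega)).1 hz
    have a1 : c ^ n = 1 := by
      have := g.1.2
      rwa [hc, det_smul, det_one, mul_one, Fintype.card_fin] at this
    have a2 : c * star c = 1 := by
      have := (mem_SU hs).1 g.2
      rw [hc] at this
      have := congrFun (congrFun this ⟨0, by omega⟩) ⟨0, by omega⟩
      simpa using this
    obtain ⟨A, B, b1, b2, b3, b4, b5⟩ := h4 F h n c a1 a2 (by omega)
    let a : Cfsg.SU n F q := ⟨⟨A, b3⟩, (mem_SU hs).2 b1⟩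
    let b : Cfsg.SU n F q := ⟨⟨B, b4⟩, (mem_SU hs).2 b2⟩
    have : a * b = g * (b * a) := Subtype.ext (Subtype.ext (by
      change A * B = g.1.1 * (B * A)
      rw [hc, b5, Matrix.smul_mul, Matrix.one_mul]))
    exact ⟨a, b, by rw [this]; group⟩
  obtain ⟨Φ, i1, i2, i3⟩ := exists_hom (ι := Fin (n / 2)) (κ := Fin (n % 2)) h hs
    (Fintype.equivOfCardEq (α := Fin n) (by simp; omega))
  have : Subsingleton (Fin (n % 2)) := Fin.subsingleton_iff_le_one.2 (by omega)
  have hsim := H31.isSimpleGroup_PSU hF hn hex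
  set N := ((Pb F _ _).comap Φ).normalCore with hN
  have hg : g ∉ N := by
    intro hg
    rcases (Subgroup.Normal.map (H := N) inferInstance _
      (QuotientGroup.mk'_surjective (Subgroup.center (Cfsg.SU n F q)))).eq_bot_or_eq_top with
      h0 | h0
    · have : QuotientGroup.mk' _ g ∈ N.map (QuotientGroup.mk' (Subgroup.center _)) := ⟨g, hg, rfl⟩
      rw [h0, Subgroup.mem_bot] at this
      exact hz ((QuotientGroup.eq_one_iff g).1 this)
    · obtain ⟨ω, hω0, hω⟩ := (isInvol h).exists_skew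
      rw [starRingEnd_apply] at hω
      let r : GJ F (Fin (n / 2)) (Fin (n % 2)) := mk (blk 1 0 0 0 1 0 (ω • 1) 0 1) (by
        simp [J, blk_ct, blk_mul, hω])
      have hr : r ∈ Φ.range := by
        rw [i2, mem_SJ]
        exact det_lo.trans (by simp)
      obtain ⟨x, hx⟩ := hr
      obtain ⟨y, hy, hxy⟩ : QuotientGroup.mk' _ x ∈ N.map (QuotientGroup.mk' (Subgroup.center _)) :=
        h0 ▸ Subgroup.mem_top _
      obtain ⟨c, hc⟩ := (H31.mem_center_SU_iff hF (by omega)).1 (QuotientGroup.eq.1 hxy)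
      have m1 : Φ (y⁻¹ * x) ∈ Pb F _ _ := ⟨c • 1, 0, 0, c • 1, 0, c • 1, by
        rw [i3 _ c hc]
        ext (a | a | a) (b | b | b) <;> simp [blk, one_apply]⟩
      have m2 : Φ y ∈ Pb F _ _ := Subgroup.normalCore_le ((Pb F _ _).comap Φ) hy
      have m3 := mul_mem m2 m1
      rw [← map_mul, mul_inv_cancel_left, hx] at m3
      obtain ⟨a, b, c', e, f, i, m4⟩ := m3
      have := (blk_inj.1 m4).2.2.2.2.2.2.1
      have := congrFun (congrFun this ⟨0, by omega⟩) ⟨0, by omega⟩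
      exact hω0 (by simpa using this)
  obtain ⟨t, ht⟩ : ∃ t, t * g * t⁻¹ ∉ (Pb F _ _).comap Φ := by
    by_contra hne
    push Not at hne
    exact hg hne
  obtain ⟨a, x, c, hc⟩ := exists_col (Φ (t * g * t⁻¹))
  obtain ⟨a', ha', b', hb', e⟩ := isC_main h1 h2 h3 h (by omega) (by omega)
    (fun h0 => ⟨by omega, fun h5 => hex ⟨by omega, by
      rw [hF] at h5
      exact Nat.pow_left_injective two_ne_zero (h5.trans (by norm_num))⟩⟩)
    (i2 ▸ ⟨_, rfl⟩) hc (by rintro rfl; exact ht hc.mem_Pb)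
  rw [← i2] at ha' hb'
  obtain ⟨a', rfl⟩ := ha'
  obtain ⟨b', rfl⟩ := hb'
  have e2 : t * g * t⁻¹ = a' * b' * a'⁻¹ * b'⁻¹ := i1 (by simpa only [map_mul, map_inv] using e)
  refine ⟨t⁻¹ * a' * t, t⁻¹ * b' * t, ?_⟩
  calc g = t⁻¹ * (t * g * t⁻¹) * t := by group
    _ = _ := by rw [e2]; group

theorem eqns_asm : True := by
  have := @Pb.eq_1.{0}
  trivial

end Cfsg.Agent.H30.OU
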