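import Cfsg.Agent.H30.OUDefs
import Cfsg.Agent.H76.OreMain

/-! Three by three block matrices and the unitary group of the split form. -/

set_option autoImplicit false
set_option linter.unusedSectionVars false

namespace Cfsg.Agent.H30.OU

open Matrix

universe u

variable {F : Type u} [Field F] {ι κ : Type} [Fintype ι] [DecidableEq ι] [Fintype κ]
  [DecidableEq κ]

/-- block matrices -/
def blk (a : Matrix ι ι F) (b : Matrix ι κ F) (c : Matrix ι ι F) (d : Matrix κ ι F)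
    (e : Matrix κ κ F) (f : Matrix κ ι F) (g : Matrix ι ι F) (h : Matrix ι κ F) (i : Matrix ι ι F) :
    Matrix (ι ⊕ κ ⊕ ι) (ι ⊕ κ ⊕ ι) F :=
  fromBlocks a (fromCols b c) (fromRows d g) (fromBlocks e f h i)

variable {a a' c c' g g' i i' : Matrix ι ι F} {b b' h h' : Matrix ι κ F} {d d' f f' : Matrix κ ι F}
  {e e' : Matrix κ κ F}

theorem blk_inj : blk a b c d e f g h i = blk a' b' c' d' e' f' g' h' i' ↔
    a = a' ∧ b = b' ∧ c = c' ∧ d = d' ∧ e = e' ∧ f = f' ∧ g = g' ∧ h = h' ∧ i = i' := by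
  simp only [blk, fromBlocks_inj, fromCols_ext_iff, fromRows_ext_iff]
  tauto

theorem blk_mul : blk a b c d e f g h i * blk a' b' c' d' e' f' g' h' i' =
    blk (a * a' + b * d' + c * g') (a * b' + b * e' + c * h') (a * c' + b * f' + c * i')
      (d * a' + e * d' + f * g') (d * b' + e * e' + f * h') (d * c' + e * f' + f * i')
      (g * a' + h * d' + i * g') (g * b' + h * e' + i * h') (g * c' + h * f' + i * i') := by
  ext (x | x | x) (y | y | y) <;>
    simp [blk, Matrix.mul_apply, Fintype.sum_sum_type, add_assoc]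

theorem blk_one : (1 : Matrix (ι ⊕ κ ⊕ ι) (ι ⊕ κ ⊕ ι) F) = blk 1 0 0 0 1 0 0 0 1 := by
  simp [blk]

theorem exists_blk (M : Matrix (ι ⊕ κ ⊕ ι) (ι ⊕ κ ⊕ ι) F) :
    ∃ a b c d e f g h i, M = blk a b c d e f g h i :=
  ⟨M.toBlocks₁₁, M.toBlocks₁₂.toCols₁, M.toBlocks₁₂.toCols₂, M.toBlocks₂₁.toRows₁,
    M.toBlocks₂₂.toBlocks₁₁, M.toBlocks₂₂.toBlocks₁₂, M.toBlocks₂₁.toRows₂,
    M.toBlocks₂₂.toBlocks₂₁, M.toBlocks₂₂.toBlocks₂₂, by
      simp [blk, fromBlocks_toBlocks]⟩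

theorem det_up : (blk a b c 0 e f 0 0 i).det = a.det * e.det * i.det := by
  rw [blk, fromRows_zero, det_fromBlocks_zero₂₁, det_fromBlocks_zero₂₁, mul_assoc]

theorem det_lo : (blk a 0 0 d e 0 g h i).det = a.det * e.det * i.det := by
  rw [blk, fromCols_zero, det_fromBlocks_zero₁₂, det_fromBlocks_zero₁₂, mul_assoc]

variable [StarRing F]

theorem blk_ct : (blk a b c d e f g h i)ᴴ = blk aᴴ dᴴ gᴴ bᴴ eᴴ hᴴ cᴴ fᴴ iᴴ := by
  ext (x | x | x) (y | y | y) <;> simp [blk]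

variable (F ι κ) in
/-- the split Hermitian form -/
def J : Matrix (ι ⊕ κ ⊕ ι) (ι ⊕ κ ⊕ ι) F := blk 0 0 1 0 1 0 1 0 0

omit [StarRing F] in
theorem J_mul_J : J F ι κ * J F ι κ = 1 := by simp [J, blk_mul, blk_one]

theorem J_ct : (J F ι κ)ᴴ = J F ι κ := by simp [J, blk_ct]

variable (F ι κ) in
/-- the unitary group of `J` -/
def GJ : Subgroup (GL (ι ⊕ κ ⊕ ι) F) where
  carrier := {g | g.1ᴴ * J F ι κ * g.1 = J F ι κ}
  mul_mem' {a b} ha hb := by
    change (a.1 * b.1)ᴴ * _ * (a.1 * b.1) = _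
    have ha' : a.1ᴴ * J F ι κ * a.1 = J F ι κ := ha
    rw [conjTranspose_mul, Matrix.mul_assoc b.1ᴴ, ← Matrix.mul_assoc, Matrix.mul_assoc b.1ᴴ, ha']
    exact hb
  one_mem' := by
    change (1 : Matrix _ _ F)ᴴ * _ * 1 = _
    simp
  inv_mem' {a} ha := by
    have ha' : a.1ᴴ * J F ι κ * a.1 = J F ι κ := ha
    change (a⁻¹).1ᴴ * _ * (a⁻¹).1 = _
    rw [← ha', ← Matrix.mul_assoc, ← Matrix.mul_assoc, ← conjTranspose_mul, Matrix.mul_assoc,
      Units.mul_inv, conjTranspose_one, Matrix.one_mul, Matrix.mul_one, ha']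

/-- the matrix of an element -/
def mat (g : GJ F ι κ) : Matrix (ι ⊕ κ ⊕ ι) (ι ⊕ κ ⊕ ι) F := g.1.1

theorem mat_mul (x y : GJ F ι κ) : mat (x * y) = mat x * mat y := rfl

theorem mat_one : mat (1 : GJ F ι κ) = 1 := rfl

theorem mat_ext {x y : GJ F ι κ} (h : mat x = mat y) : x = y := Subtype.ext (Units.ext h)

theorem mat_uni (x : GJ F ι κ) : (mat x)ᴴ * J F ι κ * mat x = J F ι κ := x.2

/-- an element from its matrix -/
def mk (M : Matrix (ι ⊕ κ ⊕ ι) (ι ⊕ κ ⊕ ι) F) (h : Mᴴ * J F ι κ * M = J F ι κ) : GJ F ι κ :=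
  ⟨⟨M, J F ι κ * Mᴴ * J F ι κ, mul_eq_one_comm.1 (by
      rw [Matrix.mul_assoc, Matrix.mul_assoc, ← Matrix.mul_assoc Mᴴ, h, J_mul_J]), by
      rw [Matrix.mul_assoc, Matrix.mul_assoc, ← Matrix.mul_assoc Mᴴ, h, J_mul_J]⟩, h⟩

theorem mat_mk (M : Matrix (ι ⊕ κ ⊕ ι) (ι ⊕ κ ⊕ ι) F) (h) : mat (mk M h) = M := rfl

theorem mat_inv (x : GJ F ι κ) : mat x⁻¹ = J F ι κ * (mat x)ᴴ * J F ι κ := by
  have : x⁻¹ = (mk (mat x) (mat_uni x))⁻¹ := congrArg _ (mat_ext rfl)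
  rw [this]; rfl

variable (F ι κ) in
/-- the special unitary group of `J` -/
def SJ : Subgroup (GJ F ι κ) := ((GeneralLinearGroup.det).comp (GJ F ι κ).subtype).ker

theorem mem_SJ {x : GJ F ι κ} : x ∈ SJ F ι κ ↔ (mat x).det = 1 := by
  rw [SJ, MonoidHom.mem_ker, ← Units.val_eq_one]; rfl

theorem commutator_le_SJ : commutator (GJ F ι κ) ≤ SJ F ι κ :=
  Abelianization.commutator_subset_ker _

variable (F ι κ) in
/-- the unipotent radical -/
def Rad : Subgroup (GJ F ι κ) where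
  carrier := {g | ∃ y s z, mat g = blk 1 y s 0 1 z 0 0 1}
  mul_mem' := by
    rintro a b ⟨y, s, z, ha⟩ ⟨y', s', z', hb⟩
    exact ⟨y' + y, s' + y * z' + s, z' + z, by simp [mat_mul, ha, hb, blk_mul]⟩
  one_mem' := ⟨0, 0, 0, blk_one⟩
  inv_mem' := by
    rintro a ⟨y, s, z, ha⟩
    exact ⟨zᴴ, sᴴ, yᴴ, by simp [mat_inv, ha, J, blk_ct, blk_mul]⟩

variable (F ι κ) in
/-- the element interchanging the two totally isotropic subspaces -/
def sw : GJ F ι κ := mk (J F ι κ) (by rw [J_ct, J_mul_J, Matrix.one_mul])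

theorem mat_sw_conj {x : GJ F ι κ} (hx : mat x = blk a b c d e f g h i) :
    mat (sw F ι κ * x * (sw F ι κ)⁻¹) = blk i h g f e d c b a := by
  simp [mat_mul, mat_inv, sw, mat_mk, hx, J, blk_ct, blk_mul]

variable (F ι κ) in
/-- the opposite radical -/
def Rad' : Subgroup (GJ F ι κ) := (Rad F ι κ).comap (MulAut.conj (sw F ι κ)).toMonoidHom

theorem mem_Rad' {x : GJ F ι κ} : x ∈ Rad' F ι κ ↔ sw F ι κ * x * (sw F ι κ)⁻¹ ∈ Rad F ι κ :=
  Iff.rfl

/-- Levi elements -/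
def lv (A : Matrix ι ι F) (D : Matrix κ κ F) (A' : Matrix ι ι F) (h1 : A'ᴴ * A = 1)
    (h2 : Dᴴ * D = 1) : GJ F ι κ :=
  mk (blk A 0 0 0 D 0 0 0 A') (by
    have := congrArg conjTranspose h1
    rw [conjTranspose_mul, conjTranspose_conjTranspose, conjTranspose_one] at this
    simp [J, blk_ct, blk_mul, h1, h2, this])

theorem mat_lv {A A' : Matrix ι ι F} {D : Matrix κ κ F} (h1 : A'ᴴ * A = 1) (h2 : Dᴴ * D = 1) :
    mat (lv A D A' h1 h2) = blk A 0 0 0 D 0 0 0 A' := rfl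

theorem levi_rel {x : GJ F ι κ} {A A' : Matrix ι ι F} {D : Matrix κ κ F}
    (hx : mat x = blk A 0 0 0 D 0 0 0 A') : A'ᴴ * A = 1 ∧ Dᴴ * D = 1 ∧ Aᴴ * A' = 1 := by
  have := mat_uni x
  simp only [hx, J, blk_ct, blk_mul, blk_inj] at this
  simp only [conjTranspose_zero, Matrix.mul_zero, Matrix.zero_mul, add_zero, zero_add,
    Matrix.mul_one] at this
  tauto

theorem conj_mem_Rad {l r : GJ F ι κ} {A A' : Matrix ι ι F} {D : Matrix κ κ F}
    (hl : mat l = blk A 0 0 0 D 0 0 0 A') (hr : r ∈ Rad F ι κ) : l * r * l⁻¹ ∈ Rad F ι κ := by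
  obtain ⟨y, s, z, hr⟩ := hr
  obtain ⟨h1, h2, h3⟩ := levi_rel hl
  refine ⟨A * y * Dᴴ, A * s * Aᴴ, D * z * Aᴴ, ?_⟩
  simp [mat_mul, mat_inv, hl, hr, J, blk_ct, blk_mul, mul_eq_one_comm.1 h1, mul_eq_one_comm.1 h2,
    mul_eq_one_comm.1 h3]

variable [Subsingleton κ]

omit [Fintype ι] [DecidableEq ι] [DecidableEq κ] in
theorem eq_zero_of_mul_ct {y : Matrix ι κ F} (h : y * yᴴ = 0) : y = 0 := by
  ext i k
  have := congrFun (congrFun h i) i
  rw [Matrix.mul_apply, Fintype.sum_subsingleton _ k] at this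
  simpa using this

theorem fpf_Rad {l r : GJ F ι κ} {A A' : Matrix ι ι F} {D : Matrix κ κ F}
    (hl : mat l = blk A 0 0 0 D 0 0 0 A') (hA : FP A) (hr : r ∈ Rad F ι κ) (hc : l * r = r * l) :
    r = 1 := by
  obtain ⟨y, s, z, hr⟩ := hr
  obtain ⟨h1, h2, h3⟩ := levi_rel hl
  have e1 := congrArg mat hc
  have e2 := mat_uni r
  simp only [mat_mul, hl, hr, blk_mul, blk_inj, Matrix.mul_zero, Matrix.zero_mul, add_zero,
    zero_add, Matrix.mul_one, Matrix.one_mul] at e1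
  simp only [hr, J, blk_ct, blk_mul, blk_inj, conjTranspose_zero, conjTranspose_one,
    Matrix.mul_zero, Matrix.zero_mul, add_zero, zero_add, Matrix.mul_one, Matrix.one_mul] at e2
  have hy : y = 0 := eq_zero_of_mul_ct (hA _ (by
    rw [← Matrix.mul_assoc, Matrix.mul_assoc _ yᴴ, ← conjTranspose_mul, e1.2.1, conjTranspose_mul,
      Matrix.mul_assoc, ← Matrix.mul_assoc D, mul_eq_one_comm.1 h2, Matrix.one_mul]))
  have hs : s = 0 := hA _ (by
    rw [e1.2.2.1, Matrix.mul_assoc, mul_eq_one_comm.1 h3, Matrix.mul_one])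
  have hz : z = 0 := by
    have := e2.2.2.2.2.2.1
    rwa [hy, conjTranspose_zero, add_zero] at this
  exact mat_ext (by rw [hr, hy, hs, hz, mat_one, blk_one])

/-- a commutator of two elements of determinant one -/
def IsC (g : GJ F ι κ) : Prop := ∃ a ∈ SJ F ι κ, ∃ b ∈ SJ F ι κ, g = a * b * a⁻¹ * b⁻¹

omit [Subsingleton κ] in
theorem IsC.of_conj {g u : GJ F ι κ} (hu : u ∈ SJ F ι κ) (h : IsC (u * g * u⁻¹)) : IsC g := by
  obtain ⟨a, ha, b, hb, h⟩ := h
  refine ⟨u⁻¹ * a * u, mul_mem (mul_mem (inv_mem hu) ha) hu, u⁻¹ * b * u,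
    mul_mem (mul_mem (inv_mem hu) hb) hu, ?_⟩
  calc g = u⁻¹ * (u * g * u⁻¹) * u := by group
    _ = _ := by rw [h]; group

theorem comm_of [Finite F] {l l₁ z r r' : GJ F ι κ} {A A' A₁ A₁' : Matrix ι ι F}
    {D D₁ : Matrix κ κ F} (hl : mat l = blk A 0 0 0 D 0 0 0 A')
    (hl₁ : mat l₁ = blk A₁ 0 0 0 D₁ 0 0 0 A₁') (hA : FP A) (hA₁ : FP A₁') (ml : l ∈ SJ F ι κ)
    (mz : z ∈ SJ F ι κ) (hz : l₁ * z * l = z) (hr : r ∈ Rad F ι κ) (hr' : r' ∈ Rad' F ι κ) :
    IsC (r' * (l₁ * l) * r) := by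
  have e : l₁ = z * l⁻¹ * z⁻¹ := by
    calc l₁ = (l₁ * z * l) * l⁻¹ * z⁻¹ := by group
      _ = _ := by rw [hz]
  have hw := mat_sw_conj hl₁
  have := H76.Ore.core commutator_le_SJ (Rad F ι κ) (Rad' F ι κ) ml mz
    (fun r hr => conj_mem_Rad hl hr) (fun r hr => fpf_Rad hl hA hr)
    (fun r hr => by
      rw [← e, mem_Rad']
      have := conj_mem_Rad hw (mem_Rad'.1 hr)
      convert this using 1
      group)
    (fun r hr hc => by
      rw [← e] at hc
      have := fpf_Rad hw hA₁ (mem_Rad'.1 hr) (by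
        calc _ = sw F ι κ * (l₁ * r) * (sw F ι κ)⁻¹ := by group
          _ = _ := by rw [hc]; group)
      exact mul_inv_eq_one.1 this |> fun h => by simpa using h) hr hr'
  rwa [← e] at this

/-- a good Levi element -/
theorem isC_of_good [Finite F] {l r r' : GJ F ι κ} {M M' : Matrix ι ι F}
    (hl : mat l = blk M 0 0 0 1 0 0 0 M') (hM : Good M) (hr : r ∈ Rad F ι κ)
    (hr' : r' ∈ Rad' F ι κ) : IsC (r' * l * r) := by
  obtain ⟨E, E', N, N', h1, h2, h3, h4, h5, hM⟩ := hM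
  have h1' : E' * E = 1 := mul_eq_one_comm.1 h1
  have dE' : E'.det = 1 := by
    have := congrArg det h1
    rwa [det_mul, h2, one_mul, det_one] at this
  have o : (1 : Matrix κ κ F)ᴴ * 1 = 1 := by simp
  have c1 : ∀ X : Matrix ι ι F, E' * (E * X) = X := fun X => by
    rw [← Matrix.mul_assoc, h1', Matrix.one_mul]
  have c2 : Eᴴ * E'ᴴ = 1 := by rw [← conjTranspose_mul, h1', conjTranspose_one]
  have c3 : E'ᴴ * Eᴴ = 1 := mul_eq_one_comm.1 c2
  set K := N⁻¹ with hK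
  have k1 : K * N = 1 := nonsing_inv_mul _ (by rw [h3]; exact isUnit_one)
  have k2 : N * K = 1 := mul_eq_one_comm.1 k1
  have dK : K.det = 1 := by
    have := congrArg det k1
    rwa [det_mul, h3, mul_one, det_one] at this
  have k3 : Nᴴ * Kᴴ = 1 := by rw [← conjTranspose_mul, k1, conjTranspose_one]
  let lN : GJ F ι κ := lv N 1 Kᴴ (by rw [conjTranspose_conjTranspose, k1]) o
  let lE : GJ F ι κ := lv E 1 E'ᴴ (by rw [conjTranspose_conjTranspose, h1']) o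
  have mN : lN ∈ SJ F ι κ := by
    rw [mem_SJ, mat_lv, det_up, h3, det_conjTranspose, dK]; simp
  have mE : lE ∈ SJ F ι κ := by
    rw [mem_SJ, mat_lv, det_up, h2, det_conjTranspose, dE']; simp
  have hM' := (levi_rel hl).2.2
  have fin : ∀ (l₁ : GJ F ι κ) (A₁' : Matrix ι ι F),
      mat l₁ = blk (E * N' * E') 0 0 0 1 0 0 0 A₁' → l = l₁ * lN := by
    intro l₁ A₁' h
    have e1 : mat (l₁ * lN) = blk M 0 0 0 1 0 0 0 (A₁' * Kᴴ) := by
      simp [mat_mul, h, lN, mat_lv, blk_mul, hM]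
    have e2 := (levi_rel e1).1
    refine mat_ext ?_
    rw [hl, e1]
    congr 1
    have e3 := congrArg conjTranspose (mul_eq_one_comm.1 e2)
    rw [conjTranspose_mul, conjTranspose_conjTranspose, conjTranspose_one] at e3
    rw [← Matrix.one_mul M', ← e3, Matrix.mul_assoc, hM', Matrix.mul_one]
  rcases h5 with h5 | ⟨h5, rfl⟩
  · have hN' : N' = K := by rw [← Matrix.mul_one N', ← k2, ← Matrix.mul_assoc, h5, Matrix.one_mul]
    subst hN'
    let l₁ : GJ F ι κ := lv (E * K * E') 1 (E'ᴴ * Nᴴ * Eᴴ) (by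
      simp only [conjTranspose_mul, conjTranspose_conjTranspose, Matrix.mul_assoc, c1]
      rw [← Matrix.mul_assoc N, k2, Matrix.one_mul, h1]) o
    rw [fin l₁ _ rfl]
    refine comm_of (z := lE) (mat_lv _ _) (mat_lv _ _) h4 (h4.conjTranspose.conj c3) mN mE
      (mat_ext ?_) hr hr'
    simp only [mat_mul, l₁, lE, lN, mat_lv, blk_mul, blk_inj, Matrix.mul_zero, Matrix.zero_mul,
      add_zero, zero_add, Matrix.mul_one, true_and, Matrix.mul_assoc, h1', k1]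
    rw [← Matrix.mul_assoc Eᴴ, c2, Matrix.one_mul, k3, Matrix.mul_one]
  · let l₁ : GJ F ι κ := lv (E * Nᴴ * E') 1 (E'ᴴ * K * Eᴴ) (by
      simp only [conjTranspose_mul, conjTranspose_conjTranspose, Matrix.mul_assoc, c1]
      rw [← Matrix.mul_assoc Kᴴ, mul_eq_one_comm.1 k3, Matrix.one_mul, h1]) o
    rw [fin l₁ _ rfl]
    have mw : sw F ι κ ∈ SJ F ι κ := by
      rw [mem_SJ]
      have := congrArg det (J_mul_J (F := F) (ι := ι) (κ := κ))
      rw [det_mul, det_one, mul_self_eq_one_iff] at this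
      rcases this with h | h
      · exact h
      · change (J F ι κ).det = 1
        rw [h]; linear_combination -h5
    refine comm_of (z := lE * sw F ι κ) (mat_lv _ _) (mat_lv _ _) h4 ((h4.inv k1).conj c3) mN
      (mul_mem mE mw) (mat_ext ?_) hr hr'
    simp only [mat_mul, l₁, lE, lN, mat_lv, sw, mat_mk, J, blk_mul, blk_inj, Matrix.mul_zero,
      Matrix.zero_mul, add_zero, zero_add, Matrix.mul_one, true_and, Matrix.mul_assoc, h1', k3,
      and_true]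
    rw [← Matrix.mul_assoc Eᴴ, c2, Matrix.one_mul, k1, Matrix.mul_one]

theorem eqns_blk : True := by
  have := @blk.eq_1.{0}
  have := @J.eq_1.{0}
  have := @mat.eq_1.{0}
  have := @SJ.eq_1.{0}
  have := @sw.eq_1.{0}
  have := @lv.eq_1.{0}
  have := @mk.eq_1.{0}
  have := @IsC.eq_1.{0}
  have := @Rad'.eq_1.{0}
  trivial

end Cfsg.Agent.H30.OU
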