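import Cfsg.Agent.H30.OULin

/-! The Gauss decomposition in the unitary group, and the reduction of the theorem on commutators
to the pieces. -/

set_option autoImplicit false
set_option linter.unusedSectionVars false

namespace Cfsg.Agent.H30.OU

open Matrix Module

universe u

section
variable {F : Type u} [Field F] [StarRing F] {ι κ : Type} [Fintype ι] [DecidableEq ι] [Fintype κ]
  [DecidableEq κ]

/-- the first column of blocks -/
def Col (g : GJ F ι κ) (a : Matrix ι ι F) (x : Matrix κ ι F) (c : Matrix ι ι F) : Prop :=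
  ∃ b c' e f h i, mat g = blk a b c' x e f c h i

variable {g : GJ F ι κ} {a c : Matrix ι ι F} {x : Matrix κ ι F}

theorem exists_col (g : GJ F ι κ) : ∃ a x c, Col g a x c := by
  obtain ⟨a, b, c', x, e, f, c, h, i, hg⟩ := exists_blk (mat g)
  exact ⟨a, x, c, b, c', e, f, h, i, hg⟩

theorem Col.rel (h : Col g a x c) : cᴴ * a + xᴴ * x + aᴴ * c = 0 := by
  obtain ⟨b, c', e, f, h, i, hg⟩ := h
  have := mat_uni g
  simp only [hg, J, blk_ct, blk_mul, blk_inj, Matrix.mul_zero, add_zero, zero_add,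
    Matrix.mul_one] at this
  exact this.1

theorem Col.inj (h : Col g a x c) (v : ι → F) (h1 : a *ᵥ v = 0) (h2 : x *ᵥ v = 0)
    (h3 : c *ᵥ v = 0) : v = 0 := by
  obtain ⟨b, c', e, f, h, i, hg⟩ := h
  have := mat_uni g
  simp only [hg, J, blk_ct, blk_mul, blk_inj, Matrix.mul_zero, add_zero, zero_add,
    Matrix.mul_one] at this
  have := congrArg (· *ᵥ v) this.2.2.2.2.2.2.1
  simpa only [add_mulVec, ← mulVec_mulVec, h1, h2, h3, mulVec_zero, add_zero, one_mulVec,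
    eq_comm (a := (0 : ι → F))] using this

theorem Col.rel' {s : Matrix ι ι F} (h : Col g a (x * a) (s * a)) (ha : a.det ≠ 0) :
    s + sᴴ + xᴴ * x = 0 := by
  have h1 := h.rel
  have h2 : aᴴ * (s + sᴴ + xᴴ * x) * a = 0 := by
    rw [← h1]
    simp only [conjTranspose_mul, Matrix.mul_add, Matrix.add_mul, Matrix.mul_assoc]
    abel
  have u1 : IsUnit a := (isUnit_iff_isUnit_det a).2 (Ne.isUnit ha)
  have u2 : IsUnit aᴴ := (isUnit_iff_isUnit_det _).2 (Ne.isUnit (by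
    rw [det_conjTranspose]; exact star_ne_zero.2 ha))
  exact u2.mul_right_eq_zero.1 (u1.mul_left_eq_zero.1 h2)

theorem reduce (hg : g ∈ SJ F ι κ) (hc : Col g a x c) {y : Matrix ι κ F} {s : Matrix ι ι F}
    (h : s + sᴴ + y * yᴴ = 0)
    (H : ∀ g' ∈ SJ F ι κ, Col g' (a + (y * x + s * c)) (x - yᴴ * c) c → IsC g') : IsC g := by
  let r : GJ F ι κ := mk (blk 1 y s 0 1 (-yᴴ) 0 0 1) (by
    simp only [J, blk_ct, blk_mul, blk_inj]
    simp
    rw [← h]; abel)
  have hr : r ∈ SJ F ι κ := by rw [mem_SJ, mat_mk, det_up]; simp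
  refine IsC.of_conj hr (H _ (mul_mem (mul_mem hr hg) (inv_mem hr)) ?_)
  obtain ⟨b, c', e, f, h, i, hg⟩ := hc
  obtain ⟨a₁, b₁, c₁, d₁, e₁, f₁, g₁, h₁, i₁, h1⟩ := exists_blk (mat (r * g * r⁻¹))
  refine ⟨b₁, c₁, e₁, f₁, h₁, i₁, ?_⟩
  have h2 := h1
  simp only [mat_mul, mat_inv, r, mat_mk, hg, J, blk_ct, blk_mul, blk_inj, conjTranspose_zero,
    conjTranspose_one, Matrix.mul_zero, Matrix.zero_mul, add_zero, zero_add, Matrix.mul_one,
    Matrix.one_mul] at h2
  rw [h1, ← h2.1, ← h2.2.2.2.1, ← h2.2.2.2.2.2.2.1, add_assoc, Matrix.neg_mul, sub_eq_add_neg]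

theorem dec {s : Matrix ι ι F} (hc : Col g a (x * a) (s * a)) (ha : a.det ≠ 0) :
    ∃ r' ∈ Rad' F ι κ, ∃ r ∈ Rad F ι κ, ∃ l D A', mat l = blk a 0 0 0 D 0 0 0 A' ∧
      g = r' * l * r ∧ (mat g).det = a.det * D.det * A'.det := by
  have rel := hc.rel' ha
  let r' : GJ F ι κ := mk (blk 1 0 0 x 1 0 s (-xᴴ) 1) (by
    simp only [J, blk_ct, blk_mul, blk_inj]
    simp
    rw [← rel]; abel)
  have hr' : r' ∈ Rad' F ι κ := ⟨_, _, _, mat_sw_conj rfl⟩
  obtain ⟨b, c', e, f, h, i, hg⟩ := hc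
  obtain ⟨a₁, b₁, c₁, d₁, e₁, f₁, g₁, h₁, i₁, h1⟩ := exists_blk (mat (r'⁻¹ * g))
  have h2 := h1
  simp only [mat_mul, mat_inv, r', mat_mk, hg, J, blk_ct, blk_mul, blk_inj, conjTranspose_zero,
    conjTranspose_one, Matrix.mul_zero, Matrix.zero_mul, add_zero, zero_add, Matrix.mul_one,
    Matrix.one_mul, conjTranspose_neg, conjTranspose_conjTranspose] at h2
  have e1 : a₁ = a := h2.1.symm
  have e2 : d₁ = 0 := by rw [← h2.2.2.2.1]; simp
  have e3 : g₁ = 0 := by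
    rw [← h2.2.2.2.2.2.2.1, ← Matrix.mul_assoc, ← Matrix.add_mul, ← Matrix.add_mul,
      show sᴴ + xᴴ * x + s = 0 by rw [← rel]; abel, Matrix.zero_mul]
  subst e1 e2 e3
  have h3 := mat_uni (r'⁻¹ * g)
  simp only [h1, J, blk_ct, blk_mul, blk_inj, conjTranspose_zero, Matrix.mul_zero,
    Matrix.zero_mul, add_zero, zero_add, Matrix.mul_one] at h3
  have u1 : a₁⁻¹ * a₁ = 1 := nonsing_inv_mul _ (Ne.isUnit ha)
  have e4 : h₁ = 0 := by
    have := congrArg (a₁⁻¹ᴴ * ·) h3.2.1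
    simp only [← Matrix.mul_assoc, ← conjTranspose_mul, mul_eq_one_comm.1 u1] at this
    simpa using this
  subst e4
  have e5 : e₁ᴴ * e₁ = 1 := by simpa using h3.2.2.2.2.1
  have e6 : i₁ᴴ * a₁ = 1 := h3.2.2.2.2.2.2.1
  have e7 : a₁ᴴ * i₁ = 1 := h3.2.2.1
  refine ⟨r', hr', (lv a₁ e₁ i₁ e6 e5)⁻¹ * (r'⁻¹ * g), ⟨i₁ᴴ * b₁, i₁ᴴ * c₁, e₁ᴴ * f₁, ?_⟩,
    lv a₁ e₁ i₁ e6 e5, e₁, i₁, rfl, by group, ?_⟩
  · rw [mat_mul, h1]
    simp [mat_inv, mat_lv, J, blk_ct, blk_mul, e5, e6, e7]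
  · have : mat g = mat r' * mat (r'⁻¹ * g) := by rw [← mat_mul]; congr 1; group
    rw [this, det_mul, h1, det_up, mat_mk, det_lo]
    simp

theorem Col.norm (hc : Col g a x c) (ha : a.det ≠ 0) :
    Col g a (x * a⁻¹ * a) (c * a⁻¹ * a) := by
  rwa [nonsing_inv_mul_cancel_right _ _ (Ne.isUnit ha),
    nonsing_inv_mul_cancel_right _ _ (Ne.isUnit ha)]

variable [Subsingleton κ] [Finite F]

theorem dec_one (hg : g ∈ SJ F ι κ) (hc : Col g a x c) (ha : a.det = 1) :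
    ∃ r' ∈ Rad' F ι κ, ∃ r ∈ Rad F ι κ, ∃ l A', mat l = blk a 0 0 0 1 0 0 0 A' ∧
      g = r' * l * r := by
  have ha0 : a.det ≠ 0 := by rw [ha]; exact one_ne_zero
  obtain ⟨r', hr', r, hr, l, D, A', h1, h2, h3⟩ := dec (hc.norm ha0) ha0
  have h4 := congrArg det (levi_rel h1).2.2
  rw [det_mul, det_conjTranspose, ha, star_one, one_mul, det_one] at h4
  rw [mem_SJ.1 hg, ha, h4, one_mul, mul_one] at h3
  have : D = 1 := by
    ext i j
    obtain rfl := Subsingleton.elim i j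
    rw [one_apply_eq, h3, det_eq_elem_of_subsingleton D i]
  exact ⟨r', hr', r, hr, l, A', this ▸ h1, h2⟩

theorem isC_of_col (hg : g ∈ SJ F ι κ) (hc : Col g a x c) (ha : a.det = 1) (hG : Good a) :
    IsC g := by
  obtain ⟨r', hr', r, hr, l, A', h1, rfl⟩ := dec_one hg hc ha
  exact isC_of_good h1 hG hr hr'

theorem isC_three (h1 : Fintype.card ι = 1) (h2 : Fintype.card κ = 1) {d : F} (hd : d ≠ 0)
    (hd' : d * star d ≠ 1) (hg : g ∈ SJ F ι κ) (hc : Col g a x c) (ha : a.det = 1) : IsC g := by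
  obtain ⟨r', hr', r, hr, l, A', hl, rfl⟩ := dec_one hg hc ha
  have : Subsingleton ι := Fintype.card_le_one_iff_subsingleton.1 h1.le
  have e1 : a = 1 := by
    ext i j
    obtain rfl := Subsingleton.elim i j
    rw [one_apply_eq, ← ha, det_eq_elem_of_subsingleton a i]
  subst e1
  have e2 : A' = 1 := by simpa using (levi_rel hl).2.2
  have e3 : l = 1 := mat_ext (by rw [hl, e2, mat_one, blk_one])
  have hs : star d ≠ 0 := star_ne_zero.2 hd
  have fp : ∀ d : F, d * star d ≠ 1 → FP (d • (1 : Matrix ι ι F)) := fun d h S hS => by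
    simp only [conjTranspose_smul, conjTranspose_one, Matrix.smul_mul, Matrix.mul_smul,
      Matrix.one_mul, Matrix.mul_one, smul_smul] at hS
    have : (star d * d - 1) • S = 0 := by rw [sub_smul, hS, one_smul, sub_self]
    exact (smul_eq_zero.1 this).resolve_left fun h0 => h (by linear_combination h0)
  let l₀ : GJ F ι κ := lv (d • 1) ((star d / d) • 1) ((star d)⁻¹ • 1)
    (by simp [smul_smul, hd]) (by
      simp only [conjTranspose_smul, conjTranspose_one, Matrix.smul_mul, Matrix.mul_smul,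
        Matrix.one_mul, smul_smul, star_div₀, star_star]
      rw [div_mul_div_cancel₀ hd, div_self hs, one_smul])
  have m0 : l₀ ∈ SJ F ι κ := by
    rw [mem_SJ, mat_lv, det_up]
    simp only [det_smul, det_one, h1, h2, pow_one, mul_one]
    field_simp
  have := comm_of (l := l₀) (l₁ := l₀⁻¹) (z := 1) (A₁ := d⁻¹ • 1) (D₁ := (d / star d) • 1)
    (A₁' := star d • 1) (mat_lv _ _) (by simp [mat_inv, l₀, mat_lv, J, blk_ct, blk_mul])
    (fp d hd') (fp _ (by rwa [star_star, mul_comm])) m0 (one_mem _) (by group) hr hr'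
  rwa [inv_mul_cancel, ← e3] at this

theorem isC_of_det (h : ∃ a : F, star a ≠ a)
    (H : ∀ g ∈ SJ F ι κ, ∀ a x c, Col g a x c → c ≠ 0 → a.det = 1 → IsC g)
    (hg : g ∈ SJ F ι κ) (hc : Col g a x c) (hc0 : c ≠ 0) : IsC g := by
  obtain ⟨s, h1, h2⟩ := exists_inv h x c _ a rfl hc.rel hc.inj
  refine reduce hg hc (y := 0) (s := s) (by simpa using h1) fun g hg hc => ?_
  rw [Matrix.zero_mul, zero_add] at hc
  generalize a + s * c = a at h2 hc
  generalize x - (0 : Matrix ι κ F)ᴴ * c = x at hc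
  have hc' := hc.norm h2
  have hs : c * a⁻¹ ≠ 0 := fun h0 => hc0 (by
    rw [← nonsing_inv_mul_cancel_right a c (Ne.isUnit h2), h0, Matrix.zero_mul])
  obtain ⟨y, t, h3, h4⟩ := exists_det h (hc'.rel' h2) hs (φ := a.det⁻¹) (fun hk => by
    obtain ⟨-, -, -, -, l, D, A', h5, -, h6⟩ := dec hc' h2
    have h7 := congrArg det (levi_rel h5).2.2
    rw [det_mul, det_conjTranspose, det_one] at h7
    rw [mem_SJ.1 hg, det_isEmpty (A := D), mul_one] at h6
    rw [star_inv₀, ← eq_inv_of_mul_eq_one_right h7, ← eq_inv_of_mul_eq_one_right h6.symm])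
  refine reduce hg hc h3 fun g hg hc => H g hg _ _ _ hc hc0 ?_
  have : a + (y * x + t * c) = (1 + (y * (x * a⁻¹) + t * (c * a⁻¹))) * a := by
    simp only [Matrix.add_mul, Matrix.mul_assoc, nonsing_inv_mul _ (Ne.isUnit h2), Matrix.one_mul,
      Matrix.mul_one]
  rw [this, det_mul, h4, inv_mul_cancel₀ h2]

theorem isC_of_bad (h : ∃ a : F, star a ≠ a) (h2 : 2 ≤ Fintype.card ι)
    (H : ∀ M : Matrix ι ι F, M.det = 1 → ¬ Bad M → Good M)
    (hg : g ∈ SJ F ι κ) (hc : Col g a x c) (hc0 : c ≠ 0) (ha : a.det = 1) : IsC g := by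
  by_cases hb : Bad a
  swap
  · exact isC_of_col hg hc ha (H a ha hb)
  have ha0 : a.det ≠ 0 := by rw [ha]; exact one_ne_zero
  have hs : c * a⁻¹ ≠ 0 := fun h0 => hc0 (by
    rw [← nonsing_inv_mul_cancel_right a c (Ne.isUnit ha0), h0, Matrix.zero_mul])
  obtain ⟨y, t, v, ρ, h3, h4, h5, h6, h7⟩ := exists_tv h h2 ((hc.norm ha0).rel' ha0) hs
  refine reduce hg hc h3 fun g hg hc => ?_
  have : a + (y * x + t * c) = (1 + vecMulVec v ρ) * a := by
    rw [← h4]
    simp only [Matrix.add_mul, Matrix.mul_assoc, nonsing_inv_mul _ (Ne.isUnit ha0), Matrix.one_mul,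
      Matrix.mul_one]
  rw [this] at hc
  have hd : ((1 + vecMulVec v ρ) * a).det = 1 := by
    rw [det_mul, det_one_add, h7, ha, add_zero, mul_one]
  exact isC_of_col hg hc hd (H _ hd (not_bad ha0 h5 h6 h7 hb))

end

theorem isC_main (h1 : FactStmt.{u}) (h2 : SmallStmt.{u}) (h3 : BigStmt.{u}) {F : Type u} [Field F]
    [Fintype F] [StarRing F] (h : ∃ a : F, star a ≠ a) {m k : ℕ} (hk : k ≤ 1) (hm : 1 ≤ m)
    (hm1 : m = 1 → k = 1 ∧ Fintype.card F ≠ 4) {g : GJ F (Fin m) (Fin k)} (hg : g ∈ SJ F _ _)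
    {a c : Matrix (Fin m) (Fin m) F} {x : Matrix (Fin k) (Fin m) F} (hc : Col g a x c)
    (hc0 : c ≠ 0) : IsC g := by
  have : Subsingleton (Fin k) := Fin.subsingleton_iff_le_one.2 hk
  refine isC_of_det h (fun g hg a x c hc hc0 ha => ?_) hg hc hc0
  rcases hm.eq_or_lt with rfl | hm2
  · obtain ⟨rfl, h4⟩ := hm1 rfl
    obtain ⟨q, hq, hq'⟩ := exists_q h
    obtain ⟨b, b1, b2, b3⟩ := H31.exists_fixed_ne hq (σ := starRingEnd F) hq'
      (by rintro rfl; exact h4 hq)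
    obtain ⟨d, hd⟩ := (isInvol h).exists_norm_eq b1
    rw [starRingEnd_apply] at hd
    exact isC_three (by simp) (by simp) (d := d) (by rintro rfl; exact b2 (by simpa using hd.symm))
      (hd ▸ b3) hg hc ha
  · refine isC_of_bad h (by rw [Fintype.card_fin]; omega) (fun M hM hb => ?_) hg hc hc0 ha
    have n1 : ∀ c : F, M ≠ c • 1 := fun c h => hb (Or.inl ⟨c, h⟩)
    by_cases h4 : Fintype.card F = 4
    · by_cases h5 : 4 ≤ m
      · exact h3 F h h4 m h5 M hM n1 fun hq => hb (Or.inr ⟨by simpa using (by omega), hq⟩)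
      · exact h2 F h h4 m (by omega) M hM n1
    · exact h1 F h h4 m hm2 M hM n1

theorem eqns_gauss : True := by
  have := @Col.eq_1.{0}
  trivial

end Cfsg.Agent.H30.OU
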