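import Cfsg.Agent.H30.OUBlk

/-! Linear algebra for the Gauss decomposition in the unitary group. -/

set_option autoImplicit false
set_option linter.unusedSectionVars false

namespace Cfsg.Agent.H30.OU

open Matrix Module

universe u

variable {F : Type u} [Field F] {ι κ : Type} [Fintype ι] [DecidableEq ι] [Fintype κ]
  [DecidableEq κ]

theorem vv_mulVec (u : ι → F) (v w : κ → F) : vecMulVec u v *ᵥ w = (v ⬝ᵥ w) • u := by
  rw [vecMulVec_mulVec, op_smul_eq_smul]

theorem det_one_add (v ρ : ι → F) : (1 + vecMulVec v ρ).det = 1 + ρ ⬝ᵥ v := by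
  rw [vecMulVec_eq Unit, det_one_add_replicateCol_mul_replicateRow]

theorem exists_dot {ρ : ι → F} (h : ρ ≠ 0) : ∃ u, ρ ⬝ᵥ u = 1 := by
  obtain ⟨i, hi⟩ := Function.ne_iff.1 h
  exact ⟨Pi.single i (ρ i)⁻¹, by rw [dotProduct_single, mul_inv_cancel₀ hi]⟩

theorem exists_ker {n : ℕ} (h : n < Fintype.card ι) (A : Matrix (Fin n) ι F) :
    ∃ w : ι → F, w ≠ 0 ∧ A *ᵥ w = 0 := by
  have := LinearMap.ker_ne_bot_of_finrank_lt (f := A.mulVecLin) (by simpa using h)
  obtain ⟨w, h1, h2⟩ := (Submodule.ne_bot_iff _).1 this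
  exact ⟨w, h2, h1⟩

/-- the matrices which have to be avoided -/
def Bad (M : Matrix ι ι F) : Prop := (∃ c : F, M = c • 1) ∨ (3 ≤ Fintype.card ι ∧ Quad M)

theorem no_eig {M : Matrix ι ι F} {t δ : F} (h1 : M * M = t • M + δ • 1)
    (h2 : ∀ c : F, c * c ≠ t * c + δ) {w : ι → F} (hw : w ≠ 0) {c : F} (h : M *ᵥ w = c • w) :
    False := by
  have := congrArg (· *ᵥ w) h1
  simp only [← mulVec_mulVec, h, mulVec_smul, add_mulVec, smul_mulVec, one_mulVec, smul_smul,
    ← add_smul] at this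
  exact h2 c (smul_left_injective F hw this)

theorem not_bad {M : Matrix ι ι F} (hM : M.det ≠ 0) {v ρ : ι → F} (hv : v ≠ 0) (hρ : ρ ≠ 0)
    (h : ρ ⬝ᵥ v = 0) (hb : Bad M) : ¬ Bad ((1 + vecMulVec v ρ) * M) := by
  have T : ∀ u, ((1 + vecMulVec v ρ) * M) *ᵥ u = M *ᵥ u + (ρ ⬝ᵥ M *ᵥ u) • v := fun u => by
    rw [← mulVec_mulVec, add_mulVec, one_mulVec, vv_mulVec]
  have hπ : ρ ᵥ* M ≠ 0 := fun h0 => hρ (eq_zero_of_vecMul_eq_zero hM h0)
  obtain ⟨u, hu⟩ := exists_dot hπ
  rw [← dotProduct_mulVec] at hu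
  rcases hb with ⟨c, rfl⟩ | ⟨h3, t, δ, h1, h2⟩
  · have e : ((1 + vecMulVec v ρ) * (c • 1 : Matrix ι ι F)) *ᵥ v = c • v := by
      rw [T, smul_mulVec, one_mulVec, dotProduct_smul, h, smul_zero, zero_smul, add_zero]
    rintro (⟨c', hc'⟩ | ⟨-, t, δ, h1, h2⟩)
    · have e2 := T u
      rw [hc', smul_mulVec, one_mulVec] at e e2
      rw [hu, one_smul, smul_mulVec, one_mulVec, smul_left_injective F hv e] at e2
      exact hv (by simpa using e2)
    · exact no_eig h1 h2 hv e
  · rintro (⟨c', hc'⟩ | ⟨-, t', δ', h1', h2'⟩)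
    · have e := T v
      rw [hc', smul_mulVec, one_mulVec] at e
      exact no_eig h1 h2 hv (c := c' - ρ ⬝ᵥ M *ᵥ v) (by rw [sub_smul, e]; abel)
    · obtain ⟨w, hw, hw'⟩ := exists_ker (n := 2) (by omega) (of ![ρ ᵥ* M, ρ ᵥ* (M * M)])
      have w1 : ρ ⬝ᵥ M *ᵥ w = 0 := by rw [dotProduct_mulVec]; exact congrFun hw' 0
      have w2 : ρ ⬝ᵥ M *ᵥ M *ᵥ w = 0 := by
        rw [mulVec_mulVec, dotProduct_mulVec]; exact congrFun hw' 1
      have q : ∀ x, M *ᵥ M *ᵥ x = t • M *ᵥ x + δ • x := fun x => by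
        rw [mulVec_mulVec, h1, add_mulVec, smul_mulVec, smul_mulVec, one_mulVec]
      have q' : ∀ x, ((1 + vecMulVec v ρ) * M) *ᵥ ((1 + vecMulVec v ρ) * M) *ᵥ x =
          t' • ((1 + vecMulVec v ρ) * M) *ᵥ x + δ' • x := fun x => by
        rw [mulVec_mulVec, h1', add_mulVec, smul_mulVec, smul_mulVec, one_mulVec]
      have a1 := q' w
      simp only [T, w1, w2, zero_smul, add_zero] at a1
      rw [q w] at a1
      have ht : t = t' := by
        by_contra ht
        have ht' : t - t' ≠ 0 := sub_ne_zero.2 ht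
        refine no_eig h1 h2 hw (c := (δ' - δ) / (t - t')) ?_
        apply smul_right_injective _ ht'
        change (t - t') • _ = (t - t') • _
        rw [smul_smul, mul_div_cancel₀ _ ht']
        linear_combination (norm := module) a1
      subst ht
      have hδ : δ = δ' := smul_left_injective F hw (add_left_cancel a1)
      subst hδ
      have a2 := q' u
      simp only [T, hu, one_smul, mulVec_add] at a2
      rw [q u] at a2
      refine no_eig h1 h2 hv
        (c := t - ρ ⬝ᵥ (t • M *ᵥ u + δ • u + M *ᵥ v)) ?_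
      linear_combination (norm := module) a2

variable [StarRing F]

theorem star_dot (A : Matrix κ ι F) (v : ι → F) (w : κ → F) :
    star v ⬝ᵥ Aᴴ *ᵥ w = star (A *ᵥ v) ⬝ᵥ w := by rw [star_mulVec, dotProduct_mulVec]

theorem star_dot' (A : Matrix ι ι F) (v w : ι → F) :
    star v ⬝ᵥ Aᴴ *ᵥ w = star (star w ⬝ᵥ A *ᵥ v) := by
  rw [star_dot, star_dotProduct]

theorem exists_noniso (h : ∃ a : F, star a ≠ a) {s : Matrix ι ι F} (hs : s ≠ 0) :
    ∃ v, star v ⬝ᵥ s *ᵥ v ≠ 0 := by
  by_contra hne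
  push Not at hne
  obtain ⟨a, ha⟩ := h
  have e : ∀ (i j : ι) (t : F), t * s i j + star t * s j i = 0 := fun i j t => by
    have h1 := hne (Pi.single i 1 + Pi.single j t)
    have h2 := hne (Pi.single i 1)
    have h3 := hne (Pi.single j t)
    simp only [star_add, Pi.star_single, star_one, mulVec_add, add_dotProduct, dotProduct_add,
      single_dotProduct, mulVec_single, one_mul, Pi.smul_apply, col_apply, MulOpposite.op_one,
      one_smul, op_smul_eq_mul] at h1 h2 h3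
    linear_combination h1 - h2 - h3
  refine hs (Matrix.ext fun i j => ?_)
  have h1 := e i j 1
  have h2 := e i j a
  rw [star_one] at h1
  exact mul_left_cancel₀ (sub_ne_zero.2 ha) (by
    rw [Matrix.zero_apply, mul_zero]; linear_combination star a * h1 - h2)

theorem exists_iso [Finite F] (h : ∃ a : F, star a ≠ a) (h2 : 2 ≤ Fintype.card ι)
    {s : Matrix ι ι F} (hs : s + sᴴ = 0) : ∃ v, v ≠ 0 ∧ star v ⬝ᵥ s *ᵥ v = 0 := by
  obtain ⟨i, j, hij⟩ := Fintype.exists_pair_of_one_lt_card (α := ι) (by omega)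
  have sk : ∀ a b, star (s a b) = -s b a := fun a b => by
    have := congrFun (congrFun hs b) a
    rw [Matrix.add_apply, conjTranspose_apply, Matrix.zero_apply] at this
    linear_combination this
  by_cases h0 : s i i = 0
  · refine ⟨Pi.single i 1, by simp, ?_⟩
    simp [Pi.star_single, h0]
  · obtain ⟨b, hb⟩ := (isInvol h).exists_norm_eq
      (a := -(s j j + s i j * star (s i j) / s i i) / s i i) (by
        simp only [starRingEnd_apply, star_div₀, star_neg, star_add, star_mul, sk]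
        field_simp
        ring)
    rw [starRingEnd_apply] at hb
    refine ⟨Pi.single i (b - s i j / s i i) + Pi.single j 1, fun h => ?_, ?_⟩
    · have := congrFun h j
      simp [hij.symm] at this
    · simp only [star_add, Pi.star_single, star_one, mulVec_add, add_dotProduct, dotProduct_add,
        single_dotProduct, mulVec_single, one_mul, Pi.smul_apply, col_apply, MulOpposite.op_one,
        one_smul, op_smul_eq_mul, star_sub, star_div₀, sk] at hb ⊢
      field_simp at hb ⊢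
      linear_combination hb

/-- the data of a rank one modification -/
theorem rank_one_rel (v : ι → F) {η : κ → F} {σ : F} (h : σ + star σ + η ⬝ᵥ star η = 0) :
    σ • vecMulVec v (star v) + (σ • vecMulVec v (star v))ᴴ +
      vecMulVec v η * (vecMulVec v η)ᴴ = 0 := by
  rw [conjTranspose_smul, conjTranspose_vecMulVec, conjTranspose_vecMulVec, star_star,
    vecMulVec_mul_vecMulVec, vecMulVec_smul, ← add_smul, ← add_smul, h, zero_smul]

theorem rank_one_eq (v : ι → F) (η : κ → F) (σ : F) (x : Matrix κ ι F) (s : Matrix ι ι F) :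
    vecMulVec v η * x + σ • vecMulVec v (star v) * s =
      vecMulVec v (η ᵥ* x + σ • star v ᵥ* s) := by
  rw [Matrix.smul_mul, vecMulVec_mul, vecMulVec_mul, vecMulVec_add, vecMulVec_smul]

variable [Subsingleton κ]

theorem eq_zero_of_dot {w : κ → F} (h : star w ⬝ᵥ w = 0) : w = 0 := by
  funext k
  rw [dotProduct, Fintype.sum_subsingleton _ k] at h
  simpa using h

theorem exists_inv (h : ∃ a : F, star a ≠ a) (x : Matrix κ ι F) (c : Matrix ι ι F) (n : ℕ) :
    ∀ a : Matrix ι ι F, finrank F (LinearMap.ker a.mulVecLin) = n →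
      cᴴ * a + xᴴ * x + aᴴ * c = 0 → (∀ v, a *ᵥ v = 0 → x *ᵥ v = 0 → c *ᵥ v = 0 → v = 0) →
      ∃ s : Matrix ι ι F, s + sᴴ = 0 ∧ (a + s * c).det ≠ 0 := by
  induction n using Nat.strong_induction_on with
  | _ n ih =>
  intro a hn rel inj
  by_cases hd : a.det = 0
  swap
  · exact ⟨0, by simp, by simpa using hd⟩
  obtain ⟨v, hv, hav⟩ := exists_mulVec_eq_zero_iff.2 hd
  have rel' : ∀ u, star (c *ᵥ v) ⬝ᵥ a *ᵥ u + star (x *ᵥ v) ⬝ᵥ x *ᵥ u = 0 := fun u => by
    have := congrArg (fun M => star v ⬝ᵥ M *ᵥ u) rel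
    simpa only [add_mulVec, dotProduct_add, ← mulVec_mulVec, star_dot, hav, star_zero,
      zero_dotProduct, add_zero, zero_mulVec, dotProduct_zero] using this
  have hxv : x *ᵥ v = 0 := eq_zero_of_dot (by simpa [hav] using rel' v)
  have hz : star (c *ᵥ v) ≠ 0 := fun h0 => hv (inj v hav hxv (star_eq_zero.1 h0))
  obtain ⟨t, ht⟩ := exists_dot hz
  obtain ⟨ω, hω0, hω⟩ := (isInvol h).exists_skew
  rw [starRingEnd_apply] at hω
  set s₀ : Matrix ι ι F := ω • vecMulVec t (star t) with hs₀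
  have sk : s₀ + s₀ᴴ = 0 := by
    rw [hs₀, conjTranspose_smul, conjTranspose_vecMulVec, star_star, hω, neg_smul, add_neg_cancel]
  have ap : ∀ u, (a + s₀ * c) *ᵥ u = a *ᵥ u + (ω * star t ⬝ᵥ c *ᵥ u) • t := fun u => by
    rw [add_mulVec, ← mulVec_mulVec, hs₀, smul_mulVec, vv_mulVec, smul_smul]
  have hle : ∀ u, (a + s₀ * c) *ᵥ u = 0 → a *ᵥ u = 0 := fun u hu => by
    rw [ap] at hu
    have h1 := congrArg (star (c *ᵥ v) ⬝ᵥ ·) hu
    have h2 := rel' u
    simp only [hxv, star_zero, zero_dotProduct, add_zero] at h2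
    simp only [dotProduct_add, h2, dotProduct_smul, ht, zero_add, smul_eq_mul, mul_one,
      dotProduct_zero] at h1
    rwa [h1, zero_smul, add_zero] at hu
  have hlt : LinearMap.ker (a + s₀ * c).mulVecLin < LinearMap.ker a.mulVecLin := by
    refine lt_of_le_of_ne (fun u hu => hle u hu) fun he => ?_
    have h1 : v ∈ LinearMap.ker (a + s₀ * c).mulVecLin := by rw [he]; exact hav
    have h2 : (a + s₀ * c) *ᵥ v = 0 := h1
    rw [ap, hav, zero_add] at h2
    have h3 : star t ⬝ᵥ c *ᵥ v = 1 := by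
      rw [star_dotProduct, ht, star_one]
    rw [h3, mul_one, smul_eq_zero] at h2
    rcases h2 with h2 | h2
    · exact hω0 h2
    · rw [h2, dotProduct_zero] at ht; exact zero_ne_one ht
  obtain ⟨s, h1, h2⟩ := ih _ (hn ▸ Submodule.finrank_lt_finrank_of_lt hlt) (a + s₀ * c) rfl
    (by
      have : s₀ᴴ = -s₀ := eq_neg_of_add_eq_zero_right sk
      rw [conjTranspose_add, conjTranspose_mul, this, ← rel]
      simp only [Matrix.mul_add, Matrix.add_mul, Matrix.mul_neg, Matrix.neg_mul, Matrix.mul_assoc]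
      abel)
    (fun u hu => inj u (hle u hu))
  refine ⟨s₀ + s, ?_, by rwa [Matrix.add_mul, ← add_assoc]⟩
  rw [conjTranspose_add, add_add_add_comm, sk, h1, add_zero]

theorem rel_dot {x : Matrix κ ι F} {s : Matrix ι ι F} (rel : s + sᴴ + xᴴ * x = 0) (v w : ι → F) :
    star v ⬝ᵥ s *ᵥ w + star (star w ⬝ᵥ s *ᵥ v) + star (x *ᵥ v) ⬝ᵥ x *ᵥ w = 0 := by
  have := congrArg (fun M => star v ⬝ᵥ M *ᵥ w) rel
  simpa only [add_mulVec, dotProduct_add, ← mulVec_mulVec, star_dot x, star_dot' s,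
    zero_mulVec, dotProduct_zero] using this

/-- any admissible determinant can be reached -/
theorem exists_det [Finite F] (h : ∃ a : F, star a ≠ a) {x : Matrix κ ι F} {s : Matrix ι ι F}
    (rel : s + sᴴ + xᴴ * x = 0) (hs : s ≠ 0) {φ : F} (hφ : IsEmpty κ → star φ = φ) :
    ∃ (y : Matrix ι κ F) (t : Matrix ι ι F), t + tᴴ + y * yᴴ = 0 ∧ (1 + (y * x + t * s)).det = φ := by
  obtain ⟨v, hv⟩ := exists_noniso h hs
  have r := rel_dot rel v v
  set τ := star v ⬝ᵥ s *ᵥ v with hτ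
  have hv' : star τ ≠ 0 := star_ne_zero.2 hv
  suffices ∃ (η : κ → F) (σ : F), σ + star σ + η ⬝ᵥ star η = 0 ∧ 1 + (η ⬝ᵥ x *ᵥ v + σ * τ) = φ by
    obtain ⟨η, σ, h1, h2⟩ := this
    refine ⟨_, _, rank_one_rel v h1, ?_⟩
    rw [rank_one_eq, det_one_add, add_dotProduct, smul_dotProduct, ← dotProduct_mulVec,
      ← dotProduct_mulVec, ← h2, smul_eq_mul]
  rcases isEmpty_or_nonempty κ with hk | ⟨⟨k⟩⟩
  · have e : ∀ a b : κ → F, a ⬝ᵥ b = 0 := fun a b => by simp [dotProduct]
    refine ⟨0, (φ - 1) / τ, ?_, ?_⟩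
    · rw [e] at r ⊢
      rw [star_div₀, star_sub, hφ hk, star_one]
      field_simp
      linear_combination (φ - 1) * r
    · rw [e]; field_simp; ring
  · have e : ∀ a b : κ → F, a ⬝ᵥ b = a k * b k := fun a b => Fintype.sum_subsingleton _ k
    obtain ⟨z, hz⟩ := (isInvol h).exists_norm_eq (a := -(φ / τ + star (φ / τ))) (by
      simp only [starRingEnd_apply, star_neg, star_add, star_star, add_comm])
    rw [starRingEnd_apply, star_div₀] at hz
    set θ := (x *ᵥ v) k with hθ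
    rw [e, Pi.star_apply, ← hθ] at r
    refine ⟨fun _ => z + star θ / star τ, φ / τ - τ⁻¹ - (z + star θ / star τ) * θ / τ, ?_, ?_⟩
    · simp only [e, Pi.star_apply, star_sub, star_div₀, star_inv₀, star_mul, star_add, star_star]
      field_simp at hz ⊢
      linear_combination hz - r
    · rw [e, ← hθ]; field_simp; ring

/-- a transvection can be reached -/
theorem exists_tv [Finite F] (h : ∃ a : F, star a ≠ a) (h2 : 2 ≤ Fintype.card ι)
    {x : Matrix κ ι F} {s : Matrix ι ι F} (rel : s + sᴴ + xᴴ * x = 0) (hs : s ≠ 0) :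
    ∃ (y : Matrix ι κ F) (t : Matrix ι ι F) (v ρ : ι → F), t + tᴴ + y * yᴴ = 0 ∧
      y * x + t * s = vecMulVec v ρ ∧ v ≠ 0 ∧ ρ ≠ 0 ∧ ρ ⬝ᵥ v = 0 := by
  have r := rel_dot rel
  by_cases hd : s.det = 0
  · obtain ⟨u, hu, hus⟩ := exists_vecMul_eq_zero_iff.2 hd
    obtain ⟨w, rfl⟩ : ∃ w, u = star w := ⟨star u, (star_star u).symm⟩
    have a1 : ∀ v, star w ⬝ᵥ s *ᵥ v = 0 := fun v => by rw [dotProduct_mulVec, hus, zero_dotProduct]
    have a2 : x *ᵥ w = 0 := eq_zero_of_dot (by simpa [a1] using r w w)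
    obtain ⟨v, hv⟩ := exists_noniso h hs
    refine ⟨0, vecMulVec v (star w) - vecMulVec w (star v), w, -(star v ᵥ* s), by simp, ?_,
      fun h0 => hu (by simp [h0]), fun h0 => hv ?_, ?_⟩
    · rw [Matrix.zero_mul, zero_add, Matrix.sub_mul, vecMulVec_mul, vecMulVec_mul, hus]
      simp
    · rw [dotProduct_mulVec, neg_eq_zero.1 h0, zero_dotProduct]
    · have := r v w
      rw [a1, a2] at this
      rw [neg_dotProduct, ← dotProduct_mulVec]
      simpa using this
  have hρ : ∀ v, v ≠ 0 → star v ᵥ* s ≠ 0 := fun v hv h0 =>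
    hv (star_eq_zero.1 (eq_zero_of_vecMul_eq_zero hd h0))
  by_cases hx : x = 0
  · subst hx
    obtain ⟨v, hv, hv'⟩ := exists_iso h h2 (s := s) (by simpa using rel)
    obtain ⟨ω, hω0, hω⟩ := (isInvol h).exists_skew
    rw [starRingEnd_apply] at hω
    refine ⟨_, _, v, _, rank_one_rel v (η := 0) (σ := ω) (by simp [hω]), rank_one_eq _ _ _ _ _,
      hv, ?_, ?_⟩
    · simpa [hω0] using hρ v hv
    · simp [← dotProduct_mulVec, hv']
  obtain ⟨k, hk⟩ : ∃ k, x k ≠ 0 := Function.ne_iff.1 hx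
  have e : ∀ a b : κ → F, a ⬝ᵥ b = a k * b k := fun a b => Fintype.sum_subsingleton _ k
  have e' : ∀ v, (x *ᵥ v) k = x k ⬝ᵥ v := fun v => rfl
  obtain ⟨v, hv1, hv2⟩ : ∃ v, x k ⬝ᵥ v = 1 ∧ ∀ γ : F, star v ᵥ* s ≠ γ • x k := by
    obtain ⟨v₀, h0⟩ := exists_dot hk
    obtain ⟨w, hw, hw'⟩ := exists_ker (n := 1) (by omega) (of ![x k])
    have w1 : x k ⬝ᵥ w = 0 := congrFun hw' 0
    by_contra hne
    push Not at hne
    obtain ⟨α, hα⟩ := hne v₀ h0
    obtain ⟨β, hβ⟩ := hne (v₀ + w) (by rw [dotProduct_add, h0, w1, add_zero])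
    rw [star_add, add_vecMul, hα] at hβ
    have h3 : star w ᵥ* s = (β - α) • x k := by rw [sub_smul, ← hβ]; abel
    have := r v₀ w
    rw [dotProduct_mulVec, dotProduct_mulVec, hα, h3, e, e', smul_dotProduct, smul_dotProduct, w1,
      h0] at this
    simp only [smul_eq_mul, mul_zero, mul_one, zero_add, add_zero, star_eq_zero] at this
    exact hρ w hw (by rw [h3, this, zero_smul])
  have r1 := r v v
  rw [e, Pi.star_apply, e', hv1] at r1
  set τ := star v ⬝ᵥ s *ᵥ v with hτ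
  have hτ0 : τ ≠ 0 := fun h0 => by simp [h0] at r1
  have hτ1 : star τ ≠ 0 := star_ne_zero.2 hτ0
  obtain ⟨a, ha⟩ := h
  have ha0 : a ≠ 0 := fun h0 => ha (by simp [h0])
  have ha1 : star a ≠ 0 := star_ne_zero.2 ha0
  have hη : (1 - a / star a) / star τ ≠ 0 :=
    div_ne_zero (sub_ne_zero.2 fun h0 => ha (by field_simp at h0; exact h0)) hτ1
  have e2 : ∀ c : F, (fun _ : κ => c) ᵥ* x = c • x k := fun c => by
    funext j
    exact e _ _
  refine ⟨_, _, v, _, rank_one_rel v (η := fun _ => (1 - a / star a) / star τ)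
    (σ := -((1 - a / star a) / star τ) / τ) ?_, rank_one_eq _ _ _ _ _,
    fun h0 => by simp [h0] at hv1, fun h0 => hv2 τ ?_, ?_⟩
  · simp only [e, Pi.star_apply, star_sub, star_div₀, star_neg, star_one, star_star]
    field_simp
    ring
  · rw [e2] at h0
    apply smul_right_injective _ (div_ne_zero hη hτ0)
    change _ • _ = _ • _
    rw [smul_smul, div_mul_cancel₀ _ hτ0]
    rw [neg_div, neg_smul, add_neg_eq_zero] at h0
    exact h0.symm
  · rw [e2, add_dotProduct, smul_dotProduct, smul_dotProduct, ← dotProduct_mulVec, hv1, ← hτ,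
      smul_eq_mul, smul_eq_mul, div_mul_cancel₀ _ hτ0]
    ring

theorem eqns_lin : True := by
  have := @Bad.eq_1.{0}
  trivial

end Cfsg.Agent.H30.OU
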