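import Cfsg.Agent.H42.PcDefs

/-! Project PC: counting the `2`-elements of a coset. -/

set_option autoImplicit false

namespace Cfsg.Agent.H30.PcCnt

open Subgroup Cfsg.Agent.H42.Pc

universe u

theorem uq {G : Type u} [Group G] {y1 y2 g1 g2 : G} (h1 : Two y1) (h2 : Two y2) (c1 : Commute g1 y1)
    (c2 : Commute g2 y2) (o1 : Odd (orderOf g1)) (o2 : Odd (orderOf g2)) (e : y1 * g1 = y2 * g2) :
    g1 = g2 := by
  obtain ⟨k1, h1⟩ := h1
  obtain ⟨k2, h2⟩ := h2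
  have e1 : g1 ^ 2 ^ (k1 + k2) = g2 ^ 2 ^ (k1 + k2) := by
    have := congrArg (· ^ 2 ^ (k1 + k2)) e
    simp only [c1.symm.mul_pow, c2.symm.mul_pow] at this
    rwa [pow_add 2, pow_mul y1, h1, one_pow, one_mul, mul_comm (2 ^ k1), pow_mul y2, h2, one_pow,
      one_mul, mul_comm (2 ^ k2), ← pow_add 2] at this
  have hc : Nat.Coprime (2 ^ (k1 + k2)) (orderOf g1 * orderOf g2) :=
    Nat.Coprime.pow_left _ (Nat.coprime_two_left.2 (o1.mul o2))
  obtain ⟨m, hm⟩ := Nat.exists_mul_mod_eq_of_coprime 1 hc (o1.mul o2).pos.ne'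
  have hm' : 2 ^ (k1 + k2) * m ≡ 1 [MOD orderOf g1 * orderOf g2] := hm.2
  have a1 : g1 ^ (2 ^ (k1 + k2) * m) = g1 ^ 1 :=
    pow_eq_pow_iff_modEq.2 (hm'.of_mul_right _)
  have a2 : g2 ^ (2 ^ (k1 + k2) * m) = g2 ^ 1 :=
    pow_eq_pow_iff_modEq.2 (hm'.of_mul_left _)
  rw [pow_mul, pow_one] at a1 a2
  rw [← a1, e1, a2]

theorem ex {G : Type u} [Group G] [Finite G] (g : G) :
    ∃ y' g' : G, Two y' ∧ Commute g' y' ∧ Odd (orderOf g') ∧ g' ∈ zpowers g ∧ y' * g' = g := by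
  obtain ⟨k, m, hm, e⟩ := Nat.exists_eq_two_pow_mul_odd (orderOf_pos g).ne'
  have hc : IsCoprime ((2 ^ k : ℕ) : ℤ) (m : ℤ) :=
    Nat.isCoprime_iff_coprime.2 (Nat.Coprime.pow_left _ (Nat.coprime_two_left.2 hm))
  obtain ⟨a, b, hab⟩ := hc
  have h0 : g ^ (((2 ^ k : ℕ) : ℤ) * m) = 1 := by
    rw [← Nat.cast_mul, ← e, zpow_natCast, pow_orderOf_eq_one]
  refine ⟨g ^ (b * m), g ^ (a * (2 ^ k : ℕ)), ⟨k, ?_⟩, Commute.zpow_zpow_self _ _ _, ?_,
    zpow_mem_zpowers _ _, by rw [← zpow_add, add_comm, hab, zpow_one]⟩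
  · rw [← zpow_natCast, ← zpow_mul, mul_assoc, mul_comm b, mul_comm (m : ℤ), zpow_mul, h0, one_zpow]
  · refine hm.of_dvd_nat (orderOf_dvd_of_pow_eq_one ?_)
    rw [← zpow_natCast, ← zpow_mul, mul_assoc, mul_comm a, zpow_mul, h0, one_zpow]

theorem cnt : CntStmt.{u} := by
  intro G _ _ S _ y l hy hl
  let Y := {y' : G // y⁻¹ * y' ∈ S ∧ Two y'}
  let L : Y → Type u := fun y' => {g : G // g ∈ S ∧ Commute g y'.1 ∧ Odd (orderOf g)}
  let F : (Σ y' : Y, L y') → S := fun z =>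
    ⟨y⁻¹ * (z.1.1 * z.2.1), by rw [← mul_assoc]; exact mul_mem z.1.2.1 z.2.2.1⟩
  have hF : Function.Bijective F := by
    constructor
    · rintro ⟨⟨y1, a1, b1⟩, ⟨g1, s1, c1, o1⟩⟩ ⟨⟨y2, a2, b2⟩, ⟨g2, s2, c2, o2⟩⟩ h
      have e : y1 * g1 = y2 * g2 := mul_left_cancel (congrArg Subtype.val h)
      obtain rfl := uq b1 b2 c1 c2 o1 o2 e
      obtain rfl := mul_right_cancel e
      rfl
    · rintro ⟨s, hs⟩
      obtain ⟨y', g', h1, h2, h3, ⟨n, h4⟩, h5⟩ := ex (y * s)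
      have hg : g' ∈ S := by
        rw [← QuotientGroup.eq_one_iff]
        have e1 : ((y * s : G) : G ⧸ S) ^ 2 = 1 := by
          rw [QuotientGroup.mk_mul, (QuotientGroup.eq_one_iff s).2 hs, mul_one, pow_two,
            ← QuotientGroup.mk_mul, QuotientGroup.eq_one_iff]
          exact hy
        have e2 : (g' : G ⧸ S) ^ 2 = 1 := by
          have : (g' : G ⧸ S) = ((y * s : G) : G ⧸ S) ^ n := by rw [← h4]; rfl
          rw [this, ← zpow_natCast, ← zpow_mul, mul_comm, zpow_mul, zpow_natCast, e1, one_zpow]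
        have e3 : orderOf (g' : G ⧸ S) ∣ orderOf g' := orderOf_map_dvd (QuotientGroup.mk' S) g'
        rw [← orderOf_eq_one_iff]
        exact Nat.eq_one_of_dvd_coprimes (Nat.coprime_two_left.2 h3)
          (orderOf_dvd_of_pow_eq_one e2) e3
      refine ⟨⟨⟨y', ?_, h1⟩, ⟨g', hg, h2, h3⟩⟩, Subtype.ext ?_⟩
      · have : y⁻¹ * y' = s * g'⁻¹ := by
          rw [eq_mul_inv_of_mul_eq h5]; group
        rw [this]; exact mul_mem hs (inv_mem hg)
      · show y⁻¹ * (y' * g') = s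
        rw [h5, inv_mul_cancel_left]
  have := Fintype.ofFinite Y
  rw [← Nat.card_congr (Equiv.ofBijective F hF), Nat.card_sigma]
  have : ∀ y' : Y, Nat.card (L y') = l := fun y' => hl y'.1 y'.2.1 y'.2.2
  simp only [this, Finset.sum_const, Finset.card_univ, smul_eq_mul]
  rw [Nat.card_eq_fintype_card]

end Cfsg.Agent.H30.PcCnt
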