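import Cfsg.Agent.H46.J1Defs

/-!
# The extension of a homocyclic group by the translations
-/

set_option autoImplicit false
open scoped Pointwise commutatorElement
open Subgroup

namespace Cfsg.Agent.H30.S94Jt2b
open Cfsg.Agent.H46.S94

universe u

local notation "C[" A "]" => Subgroup.centralizer (SetLike.coe A)
local notation "N[" A "]" => Subgroup.normalizer (SetLike.coe A)

variable {G : Type u} [Group G]

/-- the abstract situation; `2 ^ (m + 2)` is the exponent of `T` -/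
structure D (t s z : G) (W T P : Subgroup G) (m : ℕ) : Prop where
  tt : t * t = 1
  st : s * t = t * s
  s7 : s ^ 7 = 1
  el : ∀ v ∈ W, v * v = 1
  cW : Nat.card W = 8
  zW : z ∈ W
  z1 : z ≠ 1
  sW : s ∈ N[W]
  tr : ∀ v ∈ W, v ≠ 1 → ∃ i : ℕ, s ^ i * z * (s ^ i)⁻¹ = v
  ab : Ab T
  WT : W ≤ T
  sT : s ∈ N[T]
  inv : ∀ x ∈ T, t * x * t = x⁻¹
  om : ∀ x ∈ T, x * x = 1 → x ∈ W
  TP : T ≤ P
  idx : T.relIndex P = 8
  sP : s ∈ N[P]
  cV : P ≤ C[W]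
  nT : P ≤ N[T]
  sq : ∀ p ∈ P, p * p ∈ T
  br : ∀ p ∈ P, p * t * p⁻¹ * t ∈ T
  tr2 : ∀ x ∈ T, ∃ p ∈ P, p * t * p⁻¹ = x * t
  ex : ∀ x ∈ T, x ^ 2 ^ (m + 2) = 1
  ne : ∃ x ∈ T, x ^ 2 ^ (m + 1) ≠ 1

theorem cj {H : Subgroup G} {s x : G} (hs : s ∈ N[H]) (hx : x ∈ H) : s * x * s⁻¹ ∈ H :=
  (mem_normalizer_iff.1 hs x).1 hx

theorem cj' {H : Subgroup G} {s x : G} (hs : s ∈ N[H]) (hx : x ∈ H) : s⁻¹ * x * s ∈ H := by
  simpa using cj (inv_mem hs) hx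

theorem exists_pw {T : Subgroup G} (ab : Ab T) (k : ℕ) :
    ∃ f : T →* G, ∀ x, f x = (x : G) ^ k :=
  ⟨MonoidHom.mk' (fun x => (x : G) ^ k) fun a b => by
    simpa using Commute.mul_pow (ab a a.2 b b.2) k, fun _ => rfl⟩

namespace D
variable {t s z : G} {W T P : Subgroup G} {m : ℕ} (h : D t s z W T P m)
include h

theorem spread (Q : G → Prop) (hQ : ∀ x, Q x → Q (s * x * s⁻¹)) {v : G} (hv : v ∈ W)
    (v1 : v ≠ 1) (q : Q v) {w : G} (hw : w ∈ W) (w1 : w ≠ 1) : Q w := by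
  have key : ∀ i : ℕ, Q (s ^ i * v * (s ^ i)⁻¹) := by
    intro i
    induction i with
    | zero => simpa using q
    | succ i ih =>
      have := hQ _ ih
      convert this using 1
      rw [pow_succ']; group
  obtain ⟨a, rfl⟩ := h.tr v hv v1
  obtain ⟨b, rfl⟩ := h.tr w hw w1
  have e : s ^ (b + 6 * a) * s ^ a = s ^ b := by
    rw [← pow_add, show b + 6 * a + a = b + 7 * a by ring, pow_add, pow_mul, h.s7, one_pow,
      mul_one]
  have := key (b + 6 * a)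
  convert this using 1
  rw [← e]; group

theorem cm {x y : G} (hx : x ∈ T) (hy : y ∈ T) : Commute x y := h.ab x hx y hy

theorem pc {p v : G} (hp : p ∈ P) (hv : v ∈ W) : p * v * p⁻¹ = v := by
  have := mem_centralizer_iff.1 (h.cV hp) v hv
  rw [← this]; group

theorem winv {v : G} (hv : v ∈ W) : v⁻¹ = v := inv_eq_of_mul_eq_one_right (h.el v hv)

theorem pw_mem {x : G} (hx : x ∈ T) : x ^ 2 ^ (m + 1) ∈ W := by
  refine h.om _ (pow_mem hx _) ?_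
  rw [← pow_add, ← h.ex x hx]; congr 1; ring

theorem pw_surj {v : G} (hv : v ∈ W) : ∃ x ∈ T, x ^ 2 ^ (m + 1) = v := by
  by_cases v1 : v = 1
  · exact ⟨1, one_mem _, by simp [v1]⟩
  obtain ⟨x, hx, x1⟩ := h.ne
  refine h.spread (fun v => ∃ x ∈ T, x ^ 2 ^ (m + 1) = v) ?_ (h.pw_mem hx) x1 ⟨x, hx, rfl⟩ hv v1
  rintro _ ⟨y, hy, rfl⟩
  exact ⟨_, cj h.sT hy, by rw [conj_pow]⟩

theorem card_sq [Finite G] {f : T →* G} (hf : ∀ x, f x = (x : G) ^ 2) :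
    Nat.card f.range * 8 = Nat.card T := by
  have e : f.ker = W.subgroupOf T := by
    ext x
    rw [MonoidHom.mem_ker, mem_subgroupOf, hf, pow_two]
    exact ⟨h.om x x.2, h.el x⟩
  have c : Nat.card f.ker = 8 := by
    rw [e, Nat.card_congr (subgroupOfEquivOfLe h.WT).toEquiv, h.cW]
  rw [← index_ker, ← c, index_mul_card]

theorem om_sq [Finite G] {x : G} (hx : x ∈ T) (e : x ^ 2 ^ (m + 1) = 1) :
    ∃ y ∈ T, y * y = x := by
  obtain ⟨f, hf⟩ := exists_pw h.ab 2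
  obtain ⟨g, hg⟩ := exists_pw h.ab (2 ^ (m + 1))
  have r : g.range = W := by
    ext v
    constructor
    · rintro ⟨y, rfl⟩
      rw [hg]; exact h.pw_mem y.2
    · intro hv
      obtain ⟨y, hy, rfl⟩ := h.pw_surj hv
      exact ⟨⟨y, hy⟩, hg _⟩
  have c1 := h.card_sq hf
  have c2 : Nat.card g.ker * 8 = Nat.card T := by
    rw [← h.cW, ← r, ← index_ker, card_mul_index]
  have c3 : Nat.card (g.ker.map T.subtype) = Nat.card g.ker :=
    card_map_of_injective T.subtype_injective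
  have le : f.range ≤ g.ker.map T.subtype := by
    rintro _ ⟨y, rfl⟩
    refine ⟨y ^ 2, ?_, by simp [hf]⟩
    rw [SetLike.mem_coe, MonoidHom.mem_ker, hg, Subgroup.coe_pow, ← pow_mul, ← h.ex y y.2]
    congr 1; ring
  have eq := eq_of_le_of_card_ge le (by omega)
  have : x ∈ f.range := by
    rw [eq]
    exact ⟨⟨x, hx⟩, by rw [SetLike.mem_coe, MonoidHom.mem_ker, hg]; exact e, rfl⟩
  obtain ⟨y, hy⟩ := this
  exact ⟨y, y.2, by rw [← hy, hf, pow_two]⟩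

theorem tau_mul (p q : G) : p * q * t * (p * q)⁻¹ * t =
    p * (q * t * q⁻¹ * t) * p⁻¹ * (p * t * p⁻¹ * t) := by
  have e : p * (q * t * q⁻¹ * t) * p⁻¹ * (p * t * p⁻¹ * t) =
      p * q * t * q⁻¹ * (t * t) * p⁻¹ * t := by group
  rw [e, h.tt]; group

theorem tau_T {x : G} (hx : x ∈ T) : x * t * x⁻¹ * t = x * x := by
  have := h.inv _ (inv_mem hx)
  rw [inv_inv] at this
  calc x * t * x⁻¹ * t = x * (t * x⁻¹ * t) := by group
    _ = x * x := by rw [this]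

/-- the isomorphism `P / T ≅ W` -/
theorem exists_psi [Finite G] : ∃ ψ : G → G, (∀ p, ψ p = (p * t * p⁻¹ * t) ^ 2 ^ (m + 1)) ∧
    (∀ p ∈ P, ψ p ∈ W) ∧ (∀ p ∈ P, ∀ q ∈ P, ψ (p * q) = ψ p * ψ q) ∧
    (∀ v ∈ W, ∃ p ∈ P, ψ p = v) ∧ (∀ p ∈ P, ψ p = 1 ↔ p ∈ T) ∧
    ∀ p, ψ (s * p * s⁻¹) = s * ψ p * s⁻¹ := by
  have mem : ∀ p ∈ P, (p * t * p⁻¹ * t) ^ 2 ^ (m + 1) ∈ W := fun p hp => h.pw_mem (h.br p hp)
  have mul : ∀ p ∈ P, ∀ q ∈ P, (p * q * t * (p * q)⁻¹ * t) ^ 2 ^ (m + 1) =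
      (p * t * p⁻¹ * t) ^ 2 ^ (m + 1) * (q * t * q⁻¹ * t) ^ 2 ^ (m + 1) := by
    intro p hp q hq
    rw [h.tau_mul, (h.cm (cj (h.nT hp) (h.br q hq)) (h.br p hp)).mul_pow, conj_pow,
      h.pc hp (mem q hq)]
    exact h.cm (h.WT (mem q hq)) (h.WT (mem p hp))
  have sur : ∀ v ∈ W, ∃ p ∈ P, (p * t * p⁻¹ * t) ^ 2 ^ (m + 1) = v := by
    intro v hv
    obtain ⟨x, hx, rfl⟩ := h.pw_surj hv
    obtain ⟨p, hp, e⟩ := h.tr2 x hx
    exact ⟨p, hp, by rw [e, mul_assoc, h.tt, mul_one]⟩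
  have tr : ∀ x ∈ T, (x * t * x⁻¹ * t) ^ 2 ^ (m + 1) = 1 := by
    intro x hx
    rw [h.tau_T hx, ← pow_two, ← pow_mul, ← h.ex x hx]; congr 1; ring
  refine ⟨fun p => (p * t * p⁻¹ * t) ^ 2 ^ (m + 1), fun _ => rfl, mem, mul, sur, ?_, ?_⟩
  · let f : P →* G := MonoidHom.mk' (fun p => ((p : G) * t * (p : G)⁻¹ * t) ^ 2 ^ (m + 1))
      fun a b => mul a a.2 b b.2
    have r : f.range = W := by
      ext v
      constructor
      · rintro ⟨y, rfl⟩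
        exact mem y y.2
      · intro hv
        obtain ⟨y, hy, rfl⟩ := sur v hv
        exact ⟨⟨y, hy⟩, rfl⟩
    have le : T.subgroupOf P ≤ f.ker := fun x hx => tr x hx
    have i1 : f.ker.index = 8 := by rw [index_ker, r, h.cW]
    have i2 : (T.subgroupOf P).index = 8 := h.idx
    have c1 := f.ker.card_mul_index
    have c2 := (T.subgroupOf P).card_mul_index
    rw [i1] at c1
    rw [i2] at c2
    have eq := eq_of_le_of_card_ge le (by omega)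
    intro p hp
    refine ⟨fun e => ?_, tr p⟩
    have : (⟨p, hp⟩ : P) ∈ T.subgroupOf P := by rw [eq]; exact e
    exact this
  · intro p
    have e : s * p * s⁻¹ * t * (s * p * s⁻¹)⁻¹ * t = s * (p * t * p⁻¹ * t) * s⁻¹ := by
      have e1 : s⁻¹ * t * s = t := by rw [mul_assoc, ← h.st]; group
      calc s * p * s⁻¹ * t * (s * p * s⁻¹)⁻¹ * t
          = s * (p * (s⁻¹ * t * s) * p⁻¹ * (s⁻¹ * t * s)) * s⁻¹ := by group
        _ = _ := by rw [e1]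
    show _ ^ _ = _
    rw [e, conj_pow]

theorem exists_ne [Finite G] : ∃ b ∈ W, b ≠ 1 ∧ b ≠ z := by
  by_contra hn
  push Not at hn
  have : (W : Set G) ⊆ {1, z} := by
    intro b hb
    by_cases b1 : b = 1
    · exact Or.inl b1
    · exact Or.inr (hn b hb b1)
  have c := Set.ncard_le_ncard this
  have c2 : ({1, z} : Set G).ncard ≤ 2 := (Set.ncard_insert_le _ _).trans (by simp)
  have c3 : (W : Set G).ncard = 8 := h.cW
  omega

/-- Higman's lemma on `P / T` -/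
theorem hl_app [Finite G] (hl : HLStmt.{u}) (β : G → G → G) (mem : ∀ p ∈ P, ∀ q ∈ P, β p q ∈ W)
    (l : ∀ p ∈ P, ∀ q ∈ P, ∀ r ∈ P, β (p * q) r = β p r * β q r)
    (r : ∀ p ∈ P, ∀ q ∈ P, ∀ r ∈ P, β p (q * r) = β p q * β p r)
    (d : ∀ p ∈ P, β p p = 1) (lT : ∀ x ∈ T, ∀ q ∈ P, β x q = 1)
    (rT : ∀ x ∈ T, ∀ q ∈ P, β q x = 1)
    (eqv : ∀ p q, β (s * p * s⁻¹) (s * q * s⁻¹) = s * β p q * s⁻¹) :
    ∀ p ∈ P, ∀ q ∈ P, β p q = 1 := by
  obtain ⟨ψ, -, pm, pmul, psur, pker, pc⟩ := h.exists_psi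
  have same : ∀ p ∈ P, ∀ p' ∈ P, ψ p = ψ p' → ∃ x ∈ T, p' = p * x := by
    intro p hp p' hp' e
    refine ⟨p⁻¹ * p', (pker _ (mul_mem (inv_mem hp) hp')).1 ?_, by group⟩
    have := pmul p hp _ (mul_mem (inv_mem hp) hp')
    rw [mul_inv_cancel_left, e] at this
    simpa using this
  have wd : ∀ p ∈ P, ∀ p' ∈ P, ∀ q ∈ P, ∀ q' ∈ P, ψ p = ψ p' → ψ q = ψ q' → β p q = β p' q' := by
    intro p hp p' hp' q hq q' hq' e1 e2
    obtain ⟨x, hx, rfl⟩ := same p hp p' hp' e1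
    obtain ⟨y, hy, rfl⟩ := same q hq q' hq' e2
    rw [l p hp x (h.TP hx) _ hq', lT x hx _ hq', mul_one, r p hp q hq y (h.TP hy), rT y hy p hp,
      mul_one]
  choose! σ σP σe using psur
  let _ : CommGroup W := { (inferInstance : Group W) with
    mul_comm := fun a b => Subtype.ext (h.cm (h.WT a.2) (h.WT b.2)) }
  let s' : MulAut W := W.normalizerMonoidHom ⟨s, h.sW⟩
  have hs' : ∀ a : W, ((s' a : W) : G) = s * a * s⁻¹ := fun a => rfl
  have o7 : orderOf s' = 7 := by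
    have : Fact (Nat.Prime 7) := ⟨by norm_num⟩
    refine orderOf_eq_prime ?_ ?_
    · have : (⟨s, h.sW⟩ : N[W]) ^ 7 = 1 := Subtype.ext h.s7
      rw [← map_pow, this, map_one]
    · intro e
      have e1 : s * z * s⁻¹ = z := by
        rw [← hs' ⟨z, h.zW⟩, e]; rfl
      obtain ⟨b, hb, b1, bz⟩ := h.exists_ne
      exact bz (h.spread (fun x => x = z) (fun x hx => by rw [hx, e1]) h.zW h.z1 rfl hb b1)
  have key := hl W s' (fun a b => ⟨β (σ a) (σ b), mem _ (σP a a.2) _ (σP b b.2)⟩) h.cW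
    (fun v => Subtype.ext (h.el v v.2)) o7 ?_ ?_ ?_ ?_
  · intro p hp q hq
    have := congrArg Subtype.val (key ⟨ψ p, pm p hp⟩ ⟨ψ q, pm q hq⟩)
    rw [wd p hp _ (σP _ (pm p hp)) q hq _ (σP _ (pm q hq)) (σe _ (pm p hp)).symm
      (σe _ (pm q hq)).symm]
    exact this
  · intro a b c
    refine Subtype.ext ?_
    show β (σ (a * b)) (σ c) = β (σ a) (σ c) * β (σ b) (σ c)
    rw [← l _ (σP a a.2) _ (σP b b.2) _ (σP c c.2)]
    refine wd _ (σP _ (mul_mem a.2 b.2)) _ (mul_mem (σP a a.2) (σP b b.2)) _ (σP c c.2) _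
      (σP c c.2) ?_ rfl
    rw [pmul _ (σP a a.2) _ (σP b b.2), σe _ (mul_mem a.2 b.2), σe _ a.2, σe _ b.2]
  · intro a b c
    refine Subtype.ext ?_
    show β (σ a) (σ (b * c)) = β (σ a) (σ b) * β (σ a) (σ c)
    rw [← r _ (σP a a.2) _ (σP b b.2) _ (σP c c.2)]
    refine wd _ (σP a a.2) _ (σP a a.2) _ (σP _ (mul_mem b.2 c.2)) _
      (mul_mem (σP b b.2) (σP c c.2)) rfl ?_
    rw [pmul _ (σP b b.2) _ (σP c c.2), σe _ (mul_mem b.2 c.2), σe _ b.2, σe _ c.2]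
  · intro a
    exact Subtype.ext (d _ (σP a a.2))
  · intro a b
    refine Subtype.ext ?_
    show β (σ (s * a * s⁻¹)) (σ (s * b * s⁻¹)) = s * β (σ a) (σ b) * s⁻¹
    rw [← eqv]
    refine wd _ (σP _ (cj h.sW a.2)) _ (cj h.sP (σP a a.2)) _ (σP _ (cj h.sW b.2)) _
      (cj h.sP (σP b b.2)) ?_ ?_
    · rw [pc, σe _ (cj h.sW a.2), σe _ a.2]
    · rw [pc, σe _ (cj h.sW b.2), σe _ b.2]

theorem comm_T {p q : G} (hp : p ∈ P) (hq : q ∈ P) : ⁅p, q⁆ ∈ T := by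
  have e : ⁅p, q⁆ = p * q * (p * q) * (q⁻¹ * (p * p)⁻¹ * q) * (q * q)⁻¹ := by
    rw [commutatorElement_def]; group
  rw [e]
  exact mul_mem (mul_mem (h.sq _ (mul_mem hp hq)) (cj' (h.nT hq) (inv_mem (h.sq p hp))))
    (inv_mem (h.sq q hq))

theorem dl_mul {p x y : G} (hp : p ∈ P) (hx : x ∈ T) (hy : y ∈ T) :
    ⁅p, x * y⁆ = ⁅p, x⁆ * ⁅p, y⁆ := by
  have c := h.cm (h.comm_T hp (h.TP hy)) (inv_mem hx)
  calc ⁅p, x * y⁆ = p * x * p⁻¹ * (⁅p, y⁆ * x⁻¹) := by simp only [commutatorElement_def]; group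
    _ = p * x * p⁻¹ * (x⁻¹ * ⁅p, y⁆) := by rw [c.eq]
    _ = _ := by simp only [commutatorElement_def]; group

theorem dl_pow {p x : G} (hp : p ∈ P) (hx : x ∈ T) (k : ℕ) : ⁅p, x ^ k⁆ = ⁅p, x⁆ ^ k := by
  induction k with
  | zero => simp
  | succ k ih => rw [pow_succ, h.dl_mul hp (pow_mem hx k) hx, ih, pow_succ]

theorem dl_W {p v : G} (hp : p ∈ P) (hv : v ∈ W) : ⁅p, v⁆ = 1 := by
  rw [commutatorElement_def, h.pc hp hv, mul_inv_cancel]

theorem dl_T {x y : G} (hx : x ∈ T) (hy : y ∈ T) : ⁅x, y⁆ = 1 :=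
  commutatorElement_eq_one_iff_commute.2 (h.cm hx hy)

theorem dl_same {p x y : G} (hp : p ∈ P) (hx : x ∈ T) (hy : y ∈ T) (e : x * x = y * y) :
    ⁅p, x⁆ = ⁅p, y⁆ := by
  have w : y⁻¹ * x ∈ W := by
    refine h.om _ (mul_mem (inv_mem hy) hx) ?_
    have c := h.cm hx (inv_mem hy)
    calc y⁻¹ * x * (y⁻¹ * x) = y⁻¹ * (x * y⁻¹) * x := by group
      _ = y⁻¹ * (y⁻¹ * x) * x := by rw [c.eq]
      _ = (y * y)⁻¹ * (x * x) := by group
      _ = 1 := by rw [e, inv_mul_cancel]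
  have := h.dl_mul hp hy (h.WT w)
  rwa [mul_inv_cancel_left, h.dl_W hp w, mul_one] at this

theorem dl_dl {p x : G} (hp : p ∈ P) (hx : x ∈ T) : ⁅p, ⁅p, x⁆⁆ * (⁅p, x⁆ * ⁅p, x⁆) = 1 := by
  have c := h.cm (h.sq p hp) hx
  have c2 := h.cm (h.comm_T hp (h.TP hx)) (cj (h.nT hp) (h.comm_T hp (h.TP hx)))
  calc ⁅p, ⁅p, x⁆⁆ * (⁅p, x⁆ * ⁅p, x⁆) = p * ⁅p, x⁆ * p⁻¹ * ⁅p, x⁆ := by
        rw [commutatorElement_def p ⁅p, x⁆]; group
    _ = (p * p * x) * (p * p)⁻¹ * x⁻¹ := by simp only [commutatorElement_def]; group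
    _ = 1 := by rw [c.eq]; group

theorem dl_comm {p q x : G} (hp : p ∈ P) (hq : q ∈ P) (hx : x ∈ T) :
    ⁅p, ⁅q, x⁆⁆ = ⁅q, ⁅p, x⁆⁆ := by
  have hc := h.comm_T hp hq
  have a := cj (h.nT hp) hx
  have b := cj (h.nT hq) hx
  have c := h.cm hc (cj (h.nT hq) a)
  have e : p * (q * x * q⁻¹) * p⁻¹ = q * (p * x * p⁻¹) * q⁻¹ := by
    calc p * (q * x * q⁻¹) * p⁻¹ = ⁅p, q⁆ * (q * (p * x * p⁻¹) * q⁻¹) * ⁅p, q⁆⁻¹ := by
          simp only [commutatorElement_def]; group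
      _ = _ := by rw [c.eq]; group
  have c1 := h.cm (inv_mem a) hx
  have c2 := h.cm (inv_mem b) hx
  have c3 := h.cm (inv_mem a) (inv_mem b)
  calc ⁅p, ⁅q, x⁆⁆ = p * (q * x * q⁻¹) * p⁻¹ * ((p * x * p⁻¹)⁻¹ * x * (q * x * q⁻¹)⁻¹) := by
        simp only [commutatorElement_def]; group
    _ = q * (p * x * p⁻¹) * q⁻¹ * ((q * x * q⁻¹)⁻¹ * x * (p * x * p⁻¹)⁻¹) := by
        rw [e, c1.eq, c2.eq, mul_assoc x, mul_assoc x, c3.eq]
    _ = _ := by simp only [commutatorElement_def]; group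

theorem dl_add {p q x : G} (hp : p ∈ P) (w : ⁅q, x⁆ ∈ W) : ⁅p * q, x⁆ = ⁅q, x⁆ * ⁅p, x⁆ := by
  calc ⁅p * q, x⁆ = p * ⁅q, x⁆ * p⁻¹ * ⁅p, x⁆ := by simp only [commutatorElement_def]; group
    _ = _ := by rw [h.pc hp w]

theorem dl_om {p u : G} (hp : p ∈ P) (hu : u ∈ T) (w : u * u ∈ W) : ⁅p, u⁆ ∈ W := by
  refine h.om _ (h.comm_T hp (h.TP hu)) ?_
  rw [← h.dl_mul hp hu hu, h.dl_W hp w]

/-- for exponent at least `8`, `P` centralises `Ω₂(T)` -/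
theorem om2 [Finite G] (m1 : 1 ≤ m) {p u : G} (hp : p ∈ P) (hu : u ∈ T) (w : u * u ∈ W) :
    ⁅p, u⁆ = 1 := by
  classical
  obtain ⟨ψ, -, pm, pmul, psur, pker, pcj⟩ := h.exists_psi
  have r4 : ∀ v ∈ W, ∃ y ∈ T, y * y * (y * y) = v := by
    intro v hv
    obtain ⟨x, hx, rfl⟩ := h.pw_surj hv
    obtain ⟨k, rfl⟩ := Nat.exists_eq_add_of_le m1
    refine ⟨x ^ 2 ^ k, pow_mem hx _, ?_⟩
    simp only [← pow_add]
    congr 1; ring
  choose! y yT ye using r4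
  obtain ⟨A, hA⟩ : ∃ A : G → G → G, ∀ p v, A p v = ⁅p, y v * y v⁆ := ⟨_, fun _ _ => rfl⟩
  have yy : ∀ v ∈ W, y v * y v ∈ T := fun v hv => mul_mem (yT v hv) (yT v hv)
  have Aeq : ∀ p ∈ P, ∀ u ∈ T, u * u ∈ W → A p (u * u) = ⁅p, u⁆ := by
    intro p hp u hu w
    rw [hA]
    exact h.dl_same hp (yy _ w) hu (ye _ w)
  have Am : ∀ p ∈ P, ∀ v ∈ W, A p v ∈ W := by
    intro p hp v hv
    rw [hA]
    exact h.dl_om hp (yy v hv) (by rw [ye v hv]; exact hv)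
  have A1 : ∀ p ∈ P, A p 1 = 1 := by
    intro p hp
    have := Aeq p hp 1 (one_mem _) (by simp)
    simpa using this
  have Asq : ∀ p ∈ P, ∀ v ∈ W, A p v = ⁅p, y v⁆ * ⁅p, y v⁆ := by
    intro p hp v hv
    rw [hA, h.dl_mul hp (yT v hv) (yT v hv)]
  have AA : ∀ p ∈ P, ∀ q ∈ P, ∀ v ∈ W, A p (A q v) = ⁅p, ⁅q, y v⁆⁆ := by
    intro p hp q hq v hv
    have := Am q hq v hv
    rw [Asq q hq v hv] at this ⊢
    exact Aeq p hp _ (h.comm_T hq (h.TP (yT v hv))) this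
  have idem : ∀ p ∈ P, ∀ v ∈ W, A p (A p v) = A p v := by
    intro p hp v hv
    have := h.dl_dl hp (yT v hv)
    rw [← AA p hp p hp v hv, ← Asq p hp v hv] at this
    rw [eq_inv_of_mul_eq_one_left this, h.winv (Am p hp v hv)]
  have com : ∀ p ∈ P, ∀ q ∈ P, ∀ v ∈ W, A p (A q v) = A q (A p v) := by
    intro p hp q hq v hv
    rw [AA p hp q hq v hv, AA q hq p hp v hv, h.dl_comm hp hq (yT v hv)]
  have Amul : ∀ p ∈ P, ∀ v ∈ W, ∀ w ∈ W, A p (v * w) = A p v * A p w := by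
    intro p hp v hv w hw
    have c := h.cm (yy v hv) (yy w hw)
    have e : y v * y v * (y w * y w) * (y v * y v * (y w * y w)) = v * w := by
      calc _ = y v * y v * (y w * y w * (y v * y v)) * (y w * y w) := by group
        _ = y v * y v * (y v * y v) * (y w * y w * (y w * y w)) := by rw [← c.eq]; group
        _ = _ := by rw [ye v hv, ye w hw]
    have := Aeq p hp _ (mul_mem (yy v hv) (yy w hw)) (by rw [e]; exact mul_mem hv hw)
    rw [e] at this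
    rw [this, h.dl_mul hp (yy v hv) (yy w hw), hA, hA]
  have Aadd : ∀ p ∈ P, ∀ q ∈ P, ∀ v ∈ W, A (p * q) v = A q v * A p v := by
    intro p hp q hq v hv
    have := Am q hq v hv
    rw [hA] at this
    rw [hA, hA, hA, h.dl_add hp this]
  have AT : ∀ x ∈ T, ∀ v ∈ W, A x v = 1 := by
    intro x hx v hv
    rw [hA, h.dl_T hx (yy v hv)]
  have Acj : ∀ p ∈ P, ∀ v ∈ W, A (s * p * s⁻¹) (s * v * s⁻¹) = s * A p v * s⁻¹ := by
    intro p hp v hv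
    have e : s * (y v * y v) * s⁻¹ * (s * (y v * y v) * s⁻¹) = s * v * s⁻¹ := by
      conv_rhs => rw [← ye v hv]
      group
    have := Aeq _ (cj h.sP hp) _ (cj h.sT (yy v hv)) (by rw [e]; exact cj h.sW hv)
    rw [e] at this
    rw [this, hA]
    simp only [commutatorElement_def]; group
  have eig : ∀ S : Finset G, (∀ p ∈ S, p ∈ P) →
      ∃ v ∈ W, v ≠ 1 ∧ ∀ p ∈ S, A p v = 1 ∨ A p v = v := by
    intro S
    induction S using Finset.induction_on with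
    | empty => exact fun _ => ⟨z, h.zW, h.z1, by simp⟩
    | insert a S _ ih =>
      intro hS
      have ha : a ∈ P := hS a (Finset.mem_insert_self _ _)
      have hS' : ∀ p ∈ S, p ∈ P := fun p hp => hS p (Finset.mem_insert_of_mem hp)
      obtain ⟨v, hv, v1, e⟩ := ih hS'
      by_cases a1 : A a v = 1
      · refine ⟨v, hv, v1, fun p hp => ?_⟩
        rcases Finset.mem_insert.1 hp with rfl | hp
        · exact Or.inl a1
        · exact e p hp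
      · refine ⟨A a v, Am a ha v hv, a1, fun p hp => ?_⟩
        rcases Finset.mem_insert.1 hp with rfl | hp
        · exact Or.inr (idem p ha v hv)
        · rw [com p (hS' p hp) a ha v hv]
          rcases e p hp with e | e
          · rw [e, A1 a ha]; exact Or.inl rfl
          · rw [e]; exact Or.inr rfl
  have all : ∀ v ∈ W, v ≠ 1 → ∀ p ∈ P, A p v = 1 ∨ A p v = v := by
    intro w hw w1
    obtain ⟨v, hv, v1, e⟩ := eig (Set.toFinite (P : Set G)).toFinset (by simp)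
    refine (h.spread (fun v => v ∈ W ∧ ∀ p ∈ P, A p v = 1 ∨ A p v = v) ?_ hv v1
      ⟨hv, fun p hp => e p (by simpa using hp)⟩ hw w1).2
    rintro x ⟨hx, e⟩
    refine ⟨cj h.sW hx, fun p hp => ?_⟩
    have := Acj _ (cj' h.sP hp) x hx
    rw [show s * (s⁻¹ * p * s) * s⁻¹ = p by group] at this
    rw [this]
    rcases e _ (cj' h.sP hp) with e | e
    · rw [e]; left; group
    · rw [e]; right; rfl
  have scal : ∀ p ∈ P, ∀ v ∈ W, A p v ≠ 1 → ∀ w ∈ W, A p w = w := by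
    intro p hp v hv a1 w hw
    have v1 : v ≠ 1 := by
      rintro rfl
      exact a1 (A1 p hp)
    have ev : A p v = v := (all v hv v1 p hp).resolve_left a1
    by_cases w1 : w = 1
    · rw [w1, A1 p hp]
    refine (all w hw w1 p hp).resolve_left fun ew => ?_
    have e := Amul p hp v hv w hw
    rw [ev, ew, mul_one] at e
    by_cases vw : v * w = 1
    · rw [vw, A1 p hp] at e
      exact v1 e.symm
    rcases all _ (mul_mem hv hw) vw p hp with f | f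
    · exact v1 (e.symm.trans f)
    · rw [e] at f
      exact w1 (by simpa using f)
  rw [← Aeq p hp u hu w]
  by_contra a1
  have idp := scal p hp _ w a1
  have p1 : ψ p ≠ 1 := by
    intro e
    exact a1 (AT p ((pker p hp).1 e) _ w)
  have ev : ∀ w ∈ W, w ≠ 1 → ∃ q ∈ P, ψ q = w ∧ A q z = z := by
    intro w hw w1
    have := h.spread (fun w => ∃ q ∈ P, ψ q = w ∧ ∀ v ∈ W, A q v = v) ?_ (pm p hp) p1
      ⟨p, hp, rfl, idp⟩ hw w1
    · obtain ⟨q, hq, e, f⟩ := this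
      exact ⟨q, hq, e, f z h.zW⟩
    rintro _ ⟨q, hq, rfl, f⟩
    refine ⟨_, cj h.sP hq, pcj q, fun v hv => ?_⟩
    have := Acj q hq _ (cj' h.sW hv)
    rw [f _ (cj' h.sW hv), show s * (s⁻¹ * v * s) * s⁻¹ = v by group] at this
    exact this
  obtain ⟨b, hb, b1, bz⟩ := h.exists_ne
  have zb : z * b ≠ 1 := by
    intro e
    exact bz ((eq_inv_of_mul_eq_one_right e).trans (h.winv h.zW))
  obtain ⟨a, ha, ea, fa⟩ := ev z h.zW h.z1
  obtain ⟨c, hc, ec, fc⟩ := ev b hb b1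
  obtain ⟨d, hd, ed, fd⟩ := ev _ (mul_mem h.zW hb) zb
  have hT : a * c * d ∈ T := by
    refine (pker _ (mul_mem (mul_mem ha hc) hd)).1 ?_
    rw [pmul _ (mul_mem ha hc) _ hd, pmul _ ha _ hc, ea, ec, ed, h.el _ (mul_mem h.zW hb)]
  have := AT _ hT z h.zW
  rw [Aadd _ (mul_mem ha hc) _ hd z h.zW, Aadd _ ha _ hc z h.zW, fa, fc, fd, h.el z h.zW,
    mul_one] at this
  exact h.z1 this

/-- `[T, P] ≤ W` -/
theorem tp [Finite G] {p x : G} (hp : p ∈ P) (hx : x ∈ T) : ⁅p, x⁆ ∈ W := by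
  rcases Nat.eq_zero_or_pos m with rfl | m1
  · exact h.dl_om hp hx (by simpa [pow_two] using h.pw_mem hx)
  have cT : ∀ x ∈ T, ⁅p, x⁆ ∈ T := fun x hx => h.comm_T hp (h.TP hx)
  have step : ∀ x ∈ T, ∃ y ∈ T, ⁅p, x⁆ ^ 2 = (⁅p, y⁆ ^ 2) ^ 2 := by
    intro x hx
    have e : ⁅p, x⁆ ^ 2 ^ m = 1 := by
      rw [← h.dl_pow hp hx]
      refine h.om2 m1 hp (pow_mem hx _) ?_
      rw [← pow_add, ← two_mul, ← pow_succ']
      exact h.pw_mem hx
    obtain ⟨a, ha, ea⟩ := h.om_sq (cT x hx) (by rw [pow_succ, pow_mul, e, one_pow])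
    obtain ⟨b, hb, eb⟩ := h.om_sq ha (by rw [pow_succ', pow_mul, pow_two, ea, e])
    refine ⟨b⁻¹, inv_mem hb, ?_⟩
    have d := h.dl_dl hp hx
    have e2 : (⁅p, b⁻¹⁆ ^ 2) ^ 2 = ⁅p, ⁅p, x⁆⁻¹⁆ := by
      rw [← h.dl_pow hp (inv_mem hb), ← h.dl_pow hp (pow_mem (inv_mem hb) _), ← ea, ← eb]
      congr 1; group
    have e3 := h.dl_mul hp (cT x hx) (inv_mem (cT x hx))
    rw [mul_inv_cancel, commutatorElement_one_right] at e3
    rw [e2, pow_two, eq_inv_of_mul_eq_one_right d, eq_inv_of_mul_eq_one_right e3.symm]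
  have it : ∀ k : ℕ, ∀ x ∈ T, ∃ y ∈ T, ⁅p, x⁆ ^ 2 = (⁅p, y⁆ ^ 2) ^ 2 ^ k := by
    intro k
    induction k with
    | zero => exact fun x hx => ⟨x, hx, by simp⟩
    | succ k ih =>
      intro x hx
      obtain ⟨y, hy, e⟩ := ih x hx
      obtain ⟨w, hw, f⟩ := step y hy
      exact ⟨w, hw, by rw [e, f, ← pow_mul _ 2 (2 ^ k), ← pow_succ']⟩
  obtain ⟨y, hy, e⟩ := it (m + 2) x hx
  rw [h.ex _ (pow_mem (cT y hy) 2), pow_two] at e
  exact h.om _ (cT x hx) e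

theorem tp' [Finite G] {p x : G} (hp : p ∈ P) (hx : x ∈ T) : ⁅x, p⁆ ∈ W := by
  rw [← commutatorElement_inv]
  exact inv_mem (h.tp hp hx)

theorem comm_W [Finite G] (hl : HLStmt.{u}) {p q : G} (hp : p ∈ P) (hq : q ∈ P) :
    ⁅p, q⁆ ∈ W := by
  have l : ∀ p ∈ P, ∀ q ∈ P, ∀ r ∈ P, ∃ v ∈ W, ⁅p * q, r⁆ = v * (⁅p, r⁆ * ⁅q, r⁆) := by
    intro p hp q hq r hr
    refine ⟨_, h.tp hp (h.comm_T hq hr), ?_⟩
    rw [(h.cm (h.comm_T hp hr) (h.comm_T hq hr)).eq]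
    simp only [commutatorElement_def]; group
  have sq : ∀ v ∈ W, ∀ a ∈ T, ∀ b ∈ T, (v * (a * b)) ^ 2 = a ^ 2 * b ^ 2 := by
    intro v hv a ha b hb
    rw [(h.cm (h.WT hv) (mul_mem ha hb)).mul_pow, (h.cm ha hb).mul_pow, pow_two v, h.el v hv,
      one_mul]
  have l2 : ∀ p ∈ P, ∀ q ∈ P, ∀ r ∈ P, ⁅p * q, r⁆ ^ 2 = ⁅p, r⁆ ^ 2 * ⁅q, r⁆ ^ 2 := by
    intro p hp q hq r hr
    obtain ⟨v, hv, e⟩ := l p hp q hq r hr
    rw [e, sq v hv _ (h.comm_T hp hr) _ (h.comm_T hq hr)]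
  have key := h.hl_app hl (fun p q => ⁅p, q⁆ ^ 2) ?_ l2 ?_ ?_ ?_ ?_ ?_ p hp q hq
  · exact h.om _ (h.comm_T hp hq) (by rw [← pow_two]; exact key)
  · intro p hp q hq
    obtain ⟨v, hv, e⟩ := l p hp p hp q hq
    have := mul_mem (inv_mem hv) (h.tp' hq (h.sq p hp))
    rw [e, inv_mul_cancel_left] at this
    show ⁅p, q⁆ ^ 2 ∈ W
    rwa [pow_two]
  · intro p hp q hq r hr
    show ⁅p, q * r⁆ ^ 2 = ⁅p, q⁆ ^ 2 * ⁅p, r⁆ ^ 2
    rw [← commutatorElement_inv (q * r), ← commutatorElement_inv q, ← commutatorElement_inv r,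
      inv_pow, inv_pow, inv_pow, l2 q hq r hr p hp,
      (h.cm (pow_mem (h.comm_T hq hp) 2) (pow_mem (h.comm_T hr hp) 2)).eq, mul_inv_rev]
  · intro p _
    simp
  · intro x hx q hq
    show ⁅x, q⁆ ^ 2 = 1
    rw [pow_two, h.el _ (h.tp' hq hx)]
  · intro x hx q hq
    show ⁅q, x⁆ ^ 2 = 1
    rw [pow_two, h.el _ (h.tp hq hx)]
  · intro p q
    show ⁅s * p * s⁻¹, s * q * s⁻¹⁆ ^ 2 = s * ⁅p, q⁆ ^ 2 * s⁻¹
    rw [← conj_pow]
    congr 1
    simp only [commutatorElement_def]; group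

theorem comm_l [Finite G] (hl : HLStmt.{u}) {p q r : G} (hp : p ∈ P) (hq : q ∈ P) (hr : r ∈ P) :
    ⁅p * q, r⁆ = ⁅p, r⁆ * ⁅q, r⁆ := by
  rw [h.dl_add hp (h.comm_W hl hq hr), (h.cm (h.comm_T hp hr) (h.comm_T hq hr)).eq]

theorem ab_of [Finite G] (hl : HLStmt.{u}) (c : ∀ p ∈ P, ∀ x ∈ T, ⁅p, x⁆ = 1) : Ab P := by
  intro p hp q hq
  refine commutatorElement_eq_one_iff_mul_comm.1 ?_
  refine h.hl_app hl (fun p q => ⁅p, q⁆) (fun p hp q hq => h.comm_W hl hp hq)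
    (fun p hp q hq r hr => h.comm_l hl hp hq hr) ?_ ?_ ?_ (fun x hx q hq => c q hq x hx) ?_ p hp q hq
  · intro p hp q hq r hr
    show ⁅p, q * r⁆ = ⁅p, q⁆ * ⁅p, r⁆
    rw [← commutatorElement_inv (q * r), ← commutatorElement_inv q, ← commutatorElement_inv r,
      h.comm_l hl hq hr hp, (h.cm (h.comm_T hq hp) (h.comm_T hr hp)).eq, mul_inv_rev]
  · intro p _
    simp
  · intro x hx q hq
    show ⁅x, q⁆ = 1
    rw [← commutatorElement_inv, c q hq x hx, inv_one]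
  · intro p q
    show ⁅s * p * s⁻¹, s * q * s⁻¹⁆ = s * ⁅p, q⁆ * s⁻¹
    simp only [commutatorElement_def]; group

theorem cent_of [Finite G] {y : G} (hy : y ∈ T) (c : ∀ p ∈ P, ⁅p, y⁆ = 1)
    (y1 : y ^ 2 ^ (m + 1) ≠ 1) : ∀ p ∈ P, ∀ x ∈ T, ⁅p, x⁆ = 1 := by
  intro p hp x hx
  have low : ∀ x ∈ T, x ^ 2 ^ (m + 1) = 1 → ⁅p, x⁆ = 1 := by
    intro x hx e
    obtain ⟨a, ha, rfl⟩ := h.om_sq hx e
    rw [h.dl_mul hp ha ha, h.el _ (h.tp hp ha)]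
  by_cases x1 : x ^ 2 ^ (m + 1) = 1
  · exact low x hx x1
  obtain ⟨w, hw, cw, ew⟩ := h.spread
    (fun v => ∃ y ∈ T, (∀ p ∈ P, ⁅p, y⁆ = 1) ∧ y ^ 2 ^ (m + 1) = v) (by
      rintro _ ⟨y, hy, c, rfl⟩
      refine ⟨_, cj h.sT hy, fun p hp => ?_, by rw [conj_pow]⟩
      calc ⁅p, s * y * s⁻¹⁆ = s * ⁅s⁻¹ * p * s, y⁆ * s⁻¹ := by
            simp only [commutatorElement_def]; group
        _ = 1 := by rw [c _ (cj' h.sP hp)]; group)
    (h.pw_mem hy) y1 ⟨y, hy, c, rfl⟩ (h.pw_mem hx) x1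
  have := h.dl_mul hp hw (mul_mem (inv_mem hw) hx)
  rw [mul_inv_cancel_left, cw p hp, one_mul] at this
  rw [this]
  refine low _ (mul_mem (inv_mem hw) hx) ?_
  rw [(h.cm (inv_mem hw) hx).mul_pow, inv_pow, ew, inv_mul_cancel]

theorem main [Finite G] (hl : HLStmt.{u}) : Ab P ∨ ⁅P, P⁆ ≤ W ∧ Nat.card P = 512 := by
  by_cases c : ∀ p ∈ P, ∀ x ∈ T, ⁅p, x⁆ = 1
  · exact Or.inl (h.ab_of hl c)
  refine Or.inr ⟨commutator_le.2 fun p hp q hq => h.comm_W hl hp hq, ?_⟩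
  rcases Nat.eq_zero_or_pos m with rfl | m1
  · obtain ⟨f, hf⟩ := exists_pw h.ab 2
    have r : f.range = W := by
      ext v
      constructor
      · rintro ⟨y, rfl⟩
        rw [hf]; simpa using h.pw_mem y.2
      · intro hv
        obtain ⟨y, hy, rfl⟩ := h.pw_surj hv
        exact ⟨⟨y, hy⟩, by simp [hf]⟩
    have c1 := h.card_sq hf
    rw [r, h.cW] at c1
    have c2 := (T.subgroupOf P).card_mul_index
    have i2 : (T.subgroupOf P).index = 8 := h.idx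
    rw [i2, Nat.card_congr (subgroupOfEquivOfLe h.TP).toEquiv] at c2
    omega
  exfalso
  obtain ⟨ψ, pd, -, -, psur, -, -⟩ := h.exists_psi
  obtain ⟨p, hp, e⟩ := psur z h.zW
  have cp : ∀ q ∈ P, ⁅q, p * p⁆ = 1 := by
    intro q hq
    rw [← commutatorElement_inv, h.comm_l hl hp hp hq, h.el _ (h.comm_W hl hp hq), inv_one]
  have e1 : (p * p) ^ 2 ^ (m + 1) = 1 := by
    by_contra e1
    exact c (h.cent_of (h.sq p hp) cp e1)
  have e2 := h.tau_mul p p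
  have hτ := h.br p hp
  rw [h.tau_T (h.sq p hp)] at e2
  rw [pd] at e
  generalize p * t * p⁻¹ * t = τ at e e2 hτ
  have e3 : (p * p) ^ 2 = ⁅p, τ⁆ * τ ^ 2 := by
    rw [pow_two, e2, commutatorElement_def, pow_two]; group
  obtain ⟨k, rfl⟩ := Nat.exists_eq_add_of_le m1
  rw [pow_succ', pow_mul, e3, (h.cm (h.WT (h.tp hp hτ)) (pow_mem hτ 2)).mul_pow, ← pow_mul,
    ← pow_succ', e, add_comm 1 k, pow_succ', pow_mul, pow_two, h.el _ (h.tp hp hτ), one_pow,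
    one_mul] at e1
  exact h.z1 e1

end D

theorem jt2b (hl : HLStmt.{u}) : JT2bStmt.{u} := by
  intro Γ _ G _ _ φ F t O T P z σ ρ V L c tf ls pk
  have jf := c.jf
  have inj := c.cx.inj
  have zW : φ z ∈ V.map φ := mem_map_of_mem φ jf.zV
  have z1 : φ z ≠ 1 := fun e => jf.z1 (inj (e.trans (map_one φ).symm))
  have : Fact (Nat.Prime 2) := ⟨Nat.prime_two⟩
  have ex : ∃ n, ∀ x ∈ T, x ^ 2 ^ n = 1 := by
    obtain ⟨n, hn⟩ := IsPGroup.iff_card.1 tf.two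
    refine ⟨n, fun x hx => ?_⟩
    have := pow_card_eq_one' (x := (⟨x, hx⟩ : T))
    rw [hn] at this
    exact congrArg Subtype.val this
  classical
  have n2 : 2 ≤ Nat.find ex := by
    obtain ⟨x, hx, e⟩ := ls.sq _ zW
    rw [Nat.le_find_iff]
    intro k hk hh
    have := hh x hx
    interval_cases k
    · rw [pow_zero, pow_one] at this
      rw [this, mul_one] at e
      exact z1 e.symm
    · rw [pow_one, pow_two, e] at this
      exact z1 this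
  obtain ⟨m, hm⟩ := Nat.exists_eq_add_of_le' n2
  have e1 := Nat.find_spec ex
  have e2 := Nat.find_min ex (m := m + 1) (by omega)
  rw [hm] at e1
  push Not at e2
  refine D.main (t := t) (s := φ σ) (z := φ z) (m := m) ⟨c.cx.tt, c.cx.AC σ, ?_, ?_, ?_, zW, z1, ?_,
    ?_, tf.ab, tf.VT, tf.sN, ls.inv, ls.om, pk.TP, pk.idx, pk.sN, pk.cV, pk.nT, pk.sq, pk.br,
    pk.tr, e1, e2⟩ hl
  · rw [← map_pow, ← jf.so, pow_orderOf_eq_one, map_one]
  · rintro _ ⟨v, hv, rfl⟩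
    rw [← map_mul, jf.el v hv, map_one]
  · rw [card_map_of_injective inj, jf.cV]
  · rw [mem_normalizer_iff]
    intro x
    constructor
    · rintro ⟨v, hv, rfl⟩
      exact ⟨_, cj jf.sN hv, by simp⟩
    · rintro ⟨v, hv, e⟩
      refine ⟨_, cj' jf.sN hv, ?_⟩
      rw [map_mul, map_mul, map_inv, e]; group
  · rintro _ ⟨v, hv, rfl⟩ v1
    obtain ⟨i, e⟩ := jf.tr v hv (fun e => v1 (by rw [e, map_one]))
    exact ⟨i, by rw [← e]; simp⟩

end Cfsg.Agent.H30.S94Jt2b
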