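import Cfsg.Agent.H46.J2Defs

/-!
# A standard subgroup of type `J₂`: the involution `t` is not conjugate to `t e`
-/

set_option autoImplicit false
open scoped Pointwise commutatorElement
open Subgroup

namespace Cfsg.Agent.H30.S94Te
open Cfsg.Agent.H46.S94

universe u

local notation "N[" A "]" => Subgroup.normalizer (SetLike.coe A)

variable {Γ : Type} [Group Γ] {G : Type u} [Group G] {φ : Γ →* G} {t : G} {O : Subgroup G}
  {W Z : Subgroup Γ}

theorem el_comm (h : El W) {a b : Γ} (ha : a ∈ W) (hb : b ∈ W) : a * b = b * a := by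
  have h1 := h _ (mul_mem ha hb)
  rw [← inv_eq_of_mul_eq_one_right h1, mul_inv_rev, inv_eq_of_mul_eq_one_right (h a ha),
    inv_eq_of_mul_eq_one_right (h b hb)]

theorem mem_U (h : Cx φ t O) {s : G} (hs : s ∈ W.map φ ⊔ zpowers t) :
    ∃ a ∈ W, s = φ a ∨ s = t * φ a := by
  let U : Subgroup G :=
    { carrier := {s | ∃ a ∈ W, s = φ a ∨ s = t * φ a}
      one_mem' := ⟨1, one_mem _, Or.inl (map_one φ).symm⟩
      mul_mem' := by
        rintro _ _ ⟨a, ha, rfl | rfl⟩ ⟨b, hb, rfl | rfl⟩ <;> refine ⟨a * b, mul_mem ha hb, ?_⟩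
        · exact Or.inl (map_mul φ a b).symm
        · exact Or.inr (by rw [← mul_assoc, h.AC, map_mul, mul_assoc])
        · exact Or.inr (by rw [map_mul, mul_assoc])
        · exact Or.inl (by
            rw [mul_assoc, ← mul_assoc (φ a), h.AC, ← mul_assoc, ← mul_assoc, h.tt, one_mul,
              map_mul])
      inv_mem' := by
        rintro _ ⟨a, ha, rfl | rfl⟩ <;> refine ⟨a⁻¹, inv_mem ha, ?_⟩
        · exact Or.inl (map_inv φ a).symm
        · exact Or.inr (by rw [mul_inv_rev, h.tinv, ← map_inv, h.AC]) }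
  have : W.map φ ⊔ zpowers t ≤ U := sup_le (by
    rintro _ ⟨a, ha, rfl⟩
    exact ⟨a, ha, Or.inl rfl⟩) (zpowers_le.2 ⟨1, one_mem _, Or.inr (by simp)⟩)
  exact this hs

theorem norm_W (h : Cx φ t O) (nc : ∀ a, ¬ IsConj t (φ a)) (all : ∀ v ∈ W, IsConj t (t * φ v))
    {n : G} (hn : n ∈ N[W.map φ ⊔ zpowers t]) {v : Γ} (hv : v ∈ W) :
    ∃ v' ∈ W, n * φ v * n⁻¹ = φ v' := by
  have ht : t ∈ W.map φ ⊔ zpowers t := mem_sup_right (mem_zpowers t)
  have key : ∀ s ∈ W.map φ ⊔ zpowers t, IsConj t s → ∃ a ∈ W, n * s * n⁻¹ = t * φ a := by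
    intro s hs hc
    obtain ⟨a, ha, e | e⟩ := mem_U h ((mem_normalizer_iff.1 hn s).1 hs)
    · exact absurd (e ▸ hc.trans (isConj_iff.2 ⟨n, rfl⟩)) (nc a)
    · exact ⟨a, ha, e⟩
  obtain ⟨a, ha, e1⟩ := key t ht (IsConj.refl t)
  obtain ⟨b, hb, e2⟩ := key _ (mul_mem ht (mem_sup_left (mem_map_of_mem φ hv))) (all v hv)
  refine ⟨a⁻¹ * b, mul_mem (inv_mem ha) hb, ?_⟩
  have : n * φ v * n⁻¹ = (n * t * n⁻¹)⁻¹ * (n * (t * φ v) * n⁻¹) := by group
  rw [this, e1, e2, map_mul, map_inv]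
  group

theorem fx (hi : Function.Injective φ) {g i : G} {c : Γ} {α : MulAut Γ}
    (h1 : ∀ v ∈ W, ∃ v' ∈ W, g * φ v * g⁻¹ = φ v')
    (h2 : ∀ v ∈ W, ∃ v' ∈ W, g⁻¹ * φ v * g⁻¹⁻¹ = φ v')
    (hc : ∀ v ∈ W, i * φ v * i⁻¹ = φ (c * v * c⁻¹))
    (hW : ∀ v ∈ W, c * v * c⁻¹ ∈ W ∧ (c * v * c⁻¹ = v ↔ v ∈ Z))
    (hα : ∀ a, φ (α a) = g⁻¹ * i * g * φ a * (g⁻¹ * i * g)⁻¹) :
    FX W ((Z.map ((MulAut.conj g⁻¹).toMonoidHom.comp φ)).comap φ) α := by
  intro w hw
  obtain ⟨v, hv, e1⟩ := h1 w hw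
  obtain ⟨v', hv', e2⟩ := h2 _ (hW v hv).1
  have e3 : φ (α w) = g⁻¹ * φ (c * v * c⁻¹) * g⁻¹⁻¹ := by
    rw [hα, ← hc v hv, ← e1]
    group
  have e4 : φ w = g⁻¹ * φ v * g⁻¹⁻¹ := by
    rw [← e1]
    group
  refine ⟨hi (e3.trans e2) ▸ hv', ?_⟩
  rw [← hi.eq_iff, e3, mem_comap, e4, mul_left_inj, mul_right_inj, hi.eq_iff, (hW v hv).2]
  constructor
  · intro hz
    exact ⟨v, hz, rfl⟩
  · rintro ⟨a, ha, e5⟩
    change g⁻¹ * φ a * g⁻¹⁻¹ = _ at e5
    rw [mul_left_inj, mul_right_inj, hi.eq_iff] at e5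
    exact e5 ▸ ha

theorem fixed {z e c : Γ} (wf : WF z Z W) (he : e ∈ W) (h1 : ∀ a ∈ Z, c * a = a * c)
    (h2 : ∀ w ∈ W, c * w * c⁻¹ * w ∈ Z) (h3 : c * e * c⁻¹ ≠ e) :
    ∀ v ∈ W, c * v * c⁻¹ ∈ W ∧ (c * v * c⁻¹ = v ↔ v ∈ Z) := fun v hv => by
  have h4 : ∀ a ∈ Z, c * a * c⁻¹ = a := fun a ha => by rw [h1 a ha, mul_inv_cancel_right]
  refine ⟨(mul_mem_cancel_right hv).1 (wf.ZW (h2 v hv)), fun h5 => ?_, h4 v⟩
  by_contra h6
  exact h3 (wf.fix (MulAut.conj c) h4 h2 v hv h6 h5 e he)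

/-- **TE** -/
theorem te : TEStmt.{u} := by
  intro Γ _ G _ _ φ t O f z y e uz uy W hb wf tef uf y1 yz h lf ne fus nc w hw hwZ hc
  have zZ : z ∈ Z2 z y := wf.zZ
  have yZ : y ∈ Z2 z y := subset_closure (by simp)
  have zW := wf.ZW zZ
  have yW := wf.ZW yZ
  have zz := wf.el z zW
  have yy := wf.el y yW
  have zy1 : z * y ≠ 1 := fun e => yz (by rw [← inv_eq_of_mul_eq_one_right e, inv_eq_of_mul_eq_one_right zz])
  have cj : ∀ a ∈ Z2 z y, a ≠ 1 → IsConj z a := fun a ha a1 => by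
    obtain ⟨n, -, e⟩ := wf.trZ a ha a1
    exact isConj_iff.2 ⟨n, e⟩
  have cz := IsConj.refl z
  have cy := cj y yZ y1
  have czy := cj _ (mul_mem zZ yZ) zy1
  have fi : ∀ r, IsConj z r → (f r)⁻¹ = f r := fun r hr => inv_eq_of_mul_eq_one_right (lf.sq r hr)
  have fc : ∀ r, IsConj z r → ∀ a, a * r = r * a → f r * φ a = φ a * f r := fun r hr a ha => by
    have := lf.eq a r hr
    rw [ha, mul_inv_cancel_right] at this
    exact eq_mul_inv_iff_mul_eq.1 this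
  have all : ∀ v ∈ W, IsConj t (t * φ v) := fun v hv => by
    by_cases v1 : v = 1
    · rw [v1, map_one, mul_one]
    by_cases vZ : v ∈ Z2 z y
    · exact isConj_iff.2 ⟨f v, by rw [fi v (cj v vZ v1), lf.br v (cj v vZ v1)]⟩
    · obtain ⟨n, -, e⟩ := wf.trW w hw hwZ v hv vZ
      exact hc.trans (h.isConj_mul (isConj_iff.2 ⟨n, e⟩))
  obtain ⟨g, hg, eg⟩ := fus _ (mul_mem (mem_sup_right (mem_zpowers t))
    (mem_sup_left (mem_map_of_mem φ uf.eW))) (all e uf.eW)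
  have n1 := fun v hv => norm_W h nc all hg (v := v) hv
  have n2 := fun v hv => norm_W h nc all (inv_mem hg) (v := v) hv
  have uzi : uz⁻¹ = uz := inv_eq_of_mul_eq_one_right uf.zz
  have uyi : uy⁻¹ = uy := inv_eq_of_mul_eq_one_right uf.yy
  -- the two involutions
  have gen : ∀ r c, r ∈ Z2 z y → IsConj z r → c * c = 1 → c * r = r * c → c * e * c = e * r →
      φ c * f r * (φ c * f r) = 1 ∧
      (∀ v ∈ W, φ c * f r * φ v * (φ c * f r)⁻¹ = φ (c * v * c⁻¹)) ∧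
      g⁻¹ * (φ c * f r) * g * t = t * (g⁻¹ * (φ c * f r) * g) := by
    intro r c rZ hr cc cr ce
    have rW := wf.ZW rZ
    have a2 : ∀ v ∈ W, φ c * f r * φ v * (φ c * f r)⁻¹ = φ (c * v * c⁻¹) := fun v hv => by
      rw [mul_assoc (φ c), fc r hr v (el_comm wf.el hv rW), map_mul, map_mul, map_inv]
      group
    refine ⟨?_, a2, ?_⟩
    · rw [mul_assoc, ← mul_assoc (f r), fc r hr c cr, mul_assoc, lf.sq r hr, mul_one, ← map_mul, cc,
        map_one]
    · have a3 : φ c * f r * t * (φ c * f r)⁻¹ = t * φ r := by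
        rw [mul_inv_rev, fi r hr, mul_assoc (φ c), mul_assoc (φ c), ← mul_assoc _ (f r), lf.br r hr,
          ← mul_assoc, ← mul_assoc, h.AC, mul_assoc t, mul_assoc t, ← map_inv, ← map_mul,
          ← map_mul, cr, mul_inv_cancel_right]
      have a4 : φ c * f r * (t * φ e) * (φ c * f r)⁻¹ = t * φ e := by
        have : φ c * f r * (t * φ e) * (φ c * f r)⁻¹ =
          φ c * f r * t * (φ c * f r)⁻¹ * (φ c * f r * φ e * (φ c * f r)⁻¹) := by group
        rw [this, a3, a2 e uf.eW, inv_eq_of_mul_eq_one_right cc, ce, mul_assoc, ← map_mul,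
          el_comm wf.el uf.eW rW, ← mul_assoc r, wf.el r rW, one_mul]
      rw [← eg] at a4
      generalize φ c * f r = i at a4
      calc g⁻¹ * i * g * t = g⁻¹ * (i * (g * t * g⁻¹) * i⁻¹) * i * g := by group
        _ = _ := by rw [a4]; group
  obtain ⟨p1, p2, p3⟩ := gen z uz zZ cz uf.zz (uf.c1 z zZ) uf.e1
  obtain ⟨q1, q2, q3⟩ := gen y uy yZ cy uf.yy (uf.c2 y yZ) uf.e2
  have sq : φ uz * f z * (φ uy * f y) * (φ uz * f z * (φ uy * f y)) = φ (z * y) := by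
    have b1 : φ uz * f z * (φ uy * f y) = φ (uz * uy) * (f z * f y) := by
      rw [mul_assoc, ← mul_assoc (f z), fc z cz uy (uf.c2 z zZ), map_mul]
      group
    have b2 : f z * f y * φ (uz * uy) = φ (uz * uy) * (f z * f y) := by
      rw [mul_assoc, fc y cy _ (by rw [mul_assoc, uf.c2 y yZ, ← mul_assoc, uf.c1 y yZ, mul_assoc]),
        ← mul_assoc, fc z cz _ (by rw [mul_assoc, uf.c2 z zZ, ← mul_assoc, uf.c1 z zZ, mul_assoc]),
        mul_assoc]
    have b3 : f z * f y = φ y * t * f (z * y) := by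
      rw [← ne, mul_assoc _ _ (f (z * y)), lf.sq _ czy, mul_one]
    have b4 : uz * uy * (uz * uy) = 1 := by
      rw [mul_assoc, ← mul_assoc uy, ← uf.com, mul_assoc, uf.yy, mul_one, uf.zz]
    have b5 := fc _ czy y (el_comm wf.el yW (mul_mem zW yW))
    rw [b1, mul_assoc, ← mul_assoc (f z * f y), b2, ← mul_assoc, ← mul_assoc, ← mul_assoc,
      ← map_mul, b4, map_one, one_mul, mul_assoc (f z * f y), b3]
    calc φ y * t * f (z * y) * (φ y * t * f (z * y))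
        = φ y * t * (f (z * y) * φ y) * t * f (z * y) := by group
      _ = φ y * (t * φ y) * (f (z * y) * t * f (z * y)) := by rw [b5]; group
      _ = _ := by
        rw [← h.AC, lf.br _ czy, ← mul_assoc (φ y), ← map_mul, yy, map_one, one_mul, ← mul_assoc,
          h.tt, one_mul]
  generalize φ uz * f z = i at p1 p2 p3 sq
  generalize φ uy * f y = j at q1 q2 q3 sq
  obtain ⟨α, hα⟩ := h.aut p3
  obtain ⟨β, hβ⟩ := h.aut q3
  have two : ∀ (k : G) (γ : MulAut Γ), k * k = 1 →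
      (∀ a, φ (γ a) = g⁻¹ * k * g * φ a * (g⁻¹ * k * g)⁻¹) → γ * γ = 1 := fun k γ kk hγ => by
    ext a
    apply h.inj
    rw [MulAut.mul_apply, hγ, hγ, MulAut.one_apply]
    calc _ = g⁻¹ * (k * k) * g * φ a * (g⁻¹ * (k * k) * g)⁻¹ := by group
      _ = _ := by rw [kk]; group
  have hαβ : ∀ a, φ ((α * β) a) = g⁻¹ * (i * j) * g * φ a * (g⁻¹ * (i * j) * g)⁻¹ := fun a => by
    rw [MulAut.mul_apply, hα, hβ]
    group
  have f1 := fixed wf uf.eW uf.c1 (by rw [uzi]; exact uf.w1) (by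
    rw [uzi, uf.e1]
    exact fun e' => wf.z1 (by simpa using e'))
  have f2 := fixed wf uf.eW uf.c2 (by rw [uyi]; exact uf.w2) (by
    rw [uyi, uf.e2]
    exact fun e' => y1 (by simpa using e'))
  have f3 := fixed (c := uz * uy) wf uf.eW
    (fun a ha => by rw [mul_assoc, uf.c2 a ha, ← mul_assoc, uf.c1 a ha, mul_assoc])
    (fun v hv => by
      have : uz * uy * v * (uz * uy)⁻¹ * v = uz * (uy * v * uy * v) * (v⁻¹ * uz * v) := by
        rw [mul_inv_rev, uzi, uyi]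
        group
      rw [this, uf.c1 _ (uf.w2 v hv), inv_eq_of_mul_eq_one_right (wf.el v hv), mul_assoc,
        ← mul_assoc uz, ← mul_assoc uz]
      exact mul_mem (uf.w2 v hv) (uf.w1 v hv))
    (by
      have : uz * uy * e * (uz * uy)⁻¹ = uz * (uy * e * uy) * uz := by
        rw [mul_inv_rev, uzi, uyi]
        group
      rw [this, uf.e2, ← mul_assoc, mul_assoc _ y, ← uf.c1 y yZ, ← mul_assoc, uf.e1, mul_assoc]
      exact fun e' => zy1 (by simpa using e'))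
  have hψ : Function.Injective ((MulAut.conj g⁻¹).toMonoidHom.comp φ) :=
    (MulAut.conj g⁻¹).injective.comp h.inj
  have hle : (Z2 z y).map ((MulAut.conj g⁻¹).toMonoidHom.comp φ) ≤ W.map φ := by
    rintro _ ⟨a, ha, rfl⟩
    obtain ⟨v, hv, e'⟩ := n2 a (wf.ZW ha)
    exact ⟨v, hv, e'.symm⟩
  have cm := tef α β _ (two i α p1 hα) (two j β q1 hβ)
    ((comap_mono hle).trans (comap_map_eq_self_of_injective h.inj W).le)
    (by
      rw [← card_map_of_injective h.inj, map_comap_eq_self (hle.trans (map_le_range φ W)),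
        card_map_of_injective hψ, wf.cZ])
    (fx h.inj n1 n2 p2 f1 hα) (fx h.inj n1 n2 q2 f2 hβ)
    (fx h.inj n1 n2 (fun v hv => by
      have : i * j * φ v * (i * j)⁻¹ = i * (j * φ v * j⁻¹) * i⁻¹ := by group
      rw [this, q2 v hv, p2 _ (f2 v hv).1]
      congr 1
      group) f3 hαβ)
  have c2 : α * β * (α * β) = 1 := by
    rw [mul_assoc, ← mul_assoc β, ← cm, mul_assoc, two j β q1 hβ, mul_one, two i α p1 hα]
  obtain ⟨v, -, ev⟩ := n2 _ (mul_mem zW yW)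
  have v1 : v = 1 := hb.eq_one fun a => by
    apply h.inj
    have := congrArg (fun γ : MulAut Γ => φ (γ a)) c2
    simp only [MulAut.one_apply] at this
    rw [MulAut.mul_apply, hαβ, hαβ] at this
    rw [map_mul, map_mul, ← ev, ← sq]
    conv_rhs => rw [← this]
    group
  rw [v1, map_one] at ev
  apply zy1
  apply h.inj
  rw [map_one]
  calc φ (z * y) = g * (g⁻¹ * φ (z * y) * g⁻¹⁻¹) * g⁻¹ := by group
    _ = 1 := by rw [ev]; group

end Cfsg.Agent.H30.S94Te
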