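import Cfsg.Agent.H97.U5Defs

/-! Automorphisms of the subgroup `R = q^{4+4}` of the Sylow subgroup of `PSU₅(q)`. -/

set_option autoImplicit false

namespace Cfsg.Agent.H30.U5

open Cfsg.Agent.H97 Cfsg.Agent.H97.U5 Cfsg.Agent.H96.VB Subgroup
open scoped commutatorElement

universe u

variable {K : Type u} [Field K]

/-- An additive bijection of the plane preserving the lines through zero is semilinear. -/
theorem semi2 [Finite K] (f g : K × K → K × K) (add : ∀ u w, f (u + w) = f u + f w)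
    (gf : ∀ u, g (f u) = u) (lf : ∀ u (l : K), ∃ l' : K, f (l • u) = l' • f u)
    (lg : ∀ u (l : K), ∃ l' : K, g (l • u) = l' • g u) :
    ∃ φ : RingAut K, ∃ a b c d : K, a * d ≠ b * c ∧ ∀ u,
      (f u).1 = a * φ u.1 + b * φ u.2 ∧ (f u).2 = c * φ u.1 + d * φ u.2 := by
  have f0 : f 0 = 0 := by simpa using add 0 0
  have hA : f (1, 0) ≠ 0 := fun e => by
    simpa using (gf _).symm.trans ((congrArg g (e.trans f0.symm)).trans (gf _))
  have det : (f (1, 0)).1 * (f (0, 1)).2 ≠ (f (0, 1)).1 * (f (1, 0)).2 := fun e => by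
    obtain ⟨μ, h⟩ : ∃ μ : K, f (0, 1) = μ • f (1, 0) := by
      by_cases h1 : (f (1, 0)).1 = 0
      · have h2 : (f (1, 0)).2 ≠ 0 := fun h2 => hA (Prod.ext h1 h2)
        refine ⟨(f (0, 1)).2 / (f (1, 0)).2, Prod.ext ?_ ?_⟩ <;>
          simp only [Prod.smul_fst, Prod.smul_snd, smul_eq_mul] <;> field_simp
        linear_combination -e
      · refine ⟨(f (0, 1)).1 / (f (1, 0)).1, Prod.ext ?_ ?_⟩ <;>
          simp only [Prod.smul_fst, Prod.smul_snd, smul_eq_mul] <;> field_simp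
        linear_combination e
    obtain ⟨l, hl⟩ := lg (f (1, 0)) μ
    rw [← h, gf, gf] at hl
    simpa using congrArg Prod.snd hl
  have ind : ∀ x y x' y' : K, x • f (1, 0) + y • f (0, 1) = x' • f (1, 0) + y' • f (0, 1) →
      x = x' ∧ y = y' := fun x y x' y' e => by
    have h1 := congrArg Prod.fst e
    have h2 := congrArg Prod.snd e
    simp only [Prod.fst_add, Prod.snd_add, Prod.smul_fst, Prod.smul_snd, smul_eq_mul] at h1 h2
    exact ⟨mul_right_cancel₀ (sub_ne_zero.2 det) (by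
      linear_combination (f (0, 1)).2 * h1 - (f (0, 1)).1 * h2), mul_right_cancel₀ (sub_ne_zero.2 det)
        (by linear_combination (f (1, 0)).1 * h2 - (f (1, 0)).2 * h1)⟩
  choose φ h1 using lf (1, 0)
  choose ψ h2 using lf (0, 1)
  simp only [Prod.smul_mk, smul_eq_mul, mul_one, mul_zero] at h1 h2
  have e : ∀ x y, f (x, y) = φ x • f (1, 0) + ψ y • f (0, 1) := fun x y => by
    rw [← h1, ← h2, ← add]; simp
  have k1 : φ 1 = 1 ∧ φ 1 = φ 1 := by
    have := ind (φ 1) 0 1 0 (by rw [← h1, one_smul])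
    exact ⟨this.1, rfl⟩
  have k2 : ψ 1 = 1 := (ind 0 (ψ 1) 0 1 (by rw [← h2, one_smul])).2
  have k3 : ∀ l m, ψ (l * m) = φ l * ψ m := fun l m => by
    obtain ⟨n, hn⟩ := lf (1, m) l
    rw [Prod.smul_mk, smul_eq_mul, smul_eq_mul, mul_one, e, e 1 m, smul_add, smul_smul, smul_smul,
      k1.1, mul_one] at hn
    obtain ⟨a1, a2⟩ := ind _ _ _ _ hn
    rw [a1, a2]
  have k4 : ψ = φ := funext fun l => by simpa [k2] using k3 l 1
  subst k4
  let θ : K →+* K :=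
    { toFun := ψ, map_one' := k2, map_mul' := k3
      map_zero' := (ind (ψ 0) 0 0 0 (by rw [← h1, zero_smul, zero_smul, add_zero, add_zero]; exact f0)).1
      map_add' := fun x y => (ind (ψ (x + y)) 0 (ψ x + ψ y) 0 (by
        rw [add_smul, ← h1, ← h1, ← h1, ← add]; simp)).1 }
  refine ⟨RingEquiv.ofBijective θ (Finite.injective_iff_bijective.1 θ.injective), _, _, _, _, det,
    fun u => ?_⟩
  rw [show f u = _ from e u.1 u.2]
  exact ⟨by simp [θ, mul_comm], by simp [θ, mul_comm]⟩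

variable {T : Hm K}

theorem cm_eq {g k g' k' : U T} (hg : g ∈ R T) (hk : k ∈ R T) (hg' : g' ∈ R T) (hk' : k' ∈ R T)
    (ha : k.v1 * T.σ g.v1 - g.v1 * T.σ k.v1 = k'.v1 * T.σ g'.v1 - g'.v1 * T.σ k'.v1)
    (hm : k.v1 * T.σ g.v2 - g.v1 * T.σ k.v2 = k'.v1 * T.σ g'.v2 - g'.v1 * T.σ k'.v2)
    (hd : k.v2 * T.σ g.v2 - g.v2 * T.σ k.v2 = k'.v2 * T.σ g'.v2 - g'.v2 * T.σ k'.v2) :
    ⁅g, k⁆ = ⁅g', k'⁆ := by
  obtain ⟨h1, h2, h3⟩ := cm_RR hg hk
  obtain ⟨h1', h2', h3'⟩ := cm_RR hg' hk'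
  exact U.ext (h1.1.trans h1'.1.symm) (h1.2.1.trans h1'.2.1.symm) (h1.2.2.trans h1'.2.2.symm)
    (by rw [h2, h2', ha]) (by rw [h3, h3', hm]) (by rw [cm_d, cm_d, hd])

theorem rv_mem (v w : K) : rv T v w ∈ R T := rfl

theorem chV : Ch (R T) (V T) := by
  have : V T = R T ⊓ centralizer (R T : Set (U T)) := by
    refine le_antisymm (fun g hg => ⟨hg.1, fun k hk => (comm_VR hg hk).symm⟩) fun g hg => ?_
    have h1 := (cm_RR hg.1 (rv_mem 1 0)).2.2
    have h2 := (cm_RR hg.1 (rv_mem 0 1)).2.2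
    rw [commutatorElement_eq_one_iff_mul_comm.2 (hg.2 _ (rv_mem _ _)).symm] at h1 h2
    exact ⟨hg.1, by simpa using h2, by simpa using h1.symm⟩
  exact this ▸ ch_center

/-- the map induced on `R / V` -/
noncomputable def ind (α : MulAut (R T)) (u : K × K) : K × K :=
  ((ext α (rv T u.1 u.2)).v1, (ext α (rv T u.1 u.2)).v2)

theorem ind_eq (α : MulAut (R T)) {x : U T} (hx : x ∈ R T) :
    ind α (x.v1, x.v2) = ((ext α x).v1, (ext α x).v2) := by
  have h0 : x.t = 0 := hx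
  have hz : (rv T x.v1 x.v2)⁻¹ * x ∈ V T := ⟨by simp [h0], by simp, by simp⟩
  have h1 := chV.ivs α _ (chV.le hz) hz
  have h2 : (ext α (rv T x.v1 x.v2)).t = 0 := ext_mem α (rv_mem _ _)
  conv_rhs => rw [← mul_inv_cancel_left (rv T x.v1 x.v2) x, ext_map_mul α (rv_mem _ _) (chV.le hz)]
  simp [ind, h1.2.1, h1.2.2]

theorem ind_add (α : MulAut (R T)) (u w : K × K) : ind α (u + w) = ind α u + ind α w := by
  have := ind_eq α (mul_mem (rv_mem (T := T) u.1 u.2) (rv_mem w.1 w.2))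
  have h2 : (ext α (rv T u.1 u.2)).t = 0 := ext_mem α (rv_mem _ _)
  rw [ext_map_mul α (rv_mem _ _) (rv_mem _ _)] at this
  simpa [h2, ind] using this

theorem ind_inv (α : MulAut (R T)) (u : K × K) : ind α⁻¹ (ind α u) = u := by
  have := ind_eq α⁻¹ (ext_mem α (rv_mem (T := T) u.1 u.2))
  rwa [ext_inv_ext] at this

theorem ind_line (α : MulAut (R T)) (u : K × K) (l : K) : ∃ l' : K, ind α (l • u) = l' • ind α u := by
  have key : ∀ w1 w2, ∃ y ∈ R T, ⁅ext α (rv T (l * u.1) (l * u.2)), rv T w1 w2⁆ =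
      ⁅ext α (rv T u.1 u.2), y⁆ := fun w1 w2 => by
    have hz := ext_mem α⁻¹ (rv_mem (T := T) w1 w2)
    refine ⟨_, ext_mem α (rv_mem (T.σ l * (ext α⁻¹ (rv T w1 w2)).v1)
      (T.σ l * (ext α⁻¹ (rv T w1 w2)).v2)), ?_⟩
    conv_lhs => rw [← ext_ext_inv α (rv T w1 w2)]
    rw [← ext_map_comm α (rv_mem _ _) hz, ← ext_map_comm α (rv_mem _ _) (rv_mem _ _)]
    congr 1
    refine cm_eq (rv_mem _ _) hz (rv_mem _ _) (rv_mem _ _) ?_ ?_ ?_ <;>
      simp only [rv_v1, rv_v2, map_mul, T.inv] <;> ring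
  by_cases h0 : u = 0
  · exact ⟨1, by simp [h0]⟩
  have h1 : ind α u ≠ 0 := fun e => h0 (by
    have f0 : ind α⁻¹ 0 = 0 := by simpa using ind_add α⁻¹ 0 0
    rw [← ind_inv α u, e, f0])
  have hx := ext_mem α (rv_mem (T := T) u.1 u.2)
  have hx' := ext_mem α (rv_mem (T := T) (l * u.1) (l * u.2))
  change ∃ l' : K, ((ext α (rv T (l * u.1) (l * u.2))).v1, (ext α (rv T (l * u.1) (l * u.2))).v2) =
    l' • ((ext α (rv T u.1 u.2)).v1, (ext α (rv T u.1 u.2)).v2)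
  change ((ext α (rv T u.1 u.2)).v1, (ext α (rv T u.1 u.2)).v2) ≠ 0 at h1
  generalize ext α (rv T u.1 u.2) = x at *
  generalize ext α (rv T (l * u.1) (l * u.2)) = x' at *
  have k : ∀ w1 w2, (x.v2 * w1 - x.v1 * w2) * T.σ (x.v2 * x'.v1 - x.v1 * x'.v2) =
      (x.v2 * x'.v1 - x.v1 * x'.v2) * T.σ (x.v2 * w1 - x.v1 * w2) := fun w1 w2 => by
    obtain ⟨y, hy, e⟩ := key w1 w2
    obtain ⟨-, a1, m1⟩ := cm_RR hx' (rv_mem (T := T) w1 w2)
    obtain ⟨-, a2, m2⟩ := cm_RR hx hy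
    have d1 := cm_d x' (rv T w1 w2)
    rw [e, a2] at a1
    rw [e, m2] at m1
    rw [e, cm_d] at d1
    have m3 := congrArg T.σ m1
    simp only [rv_v1, rv_v2, map_sub, map_mul, T.inv] at a1 m1 d1 m3 ⊢
    linear_combination -x.v2 * T.σ x.v2 * a1 + x.v2 * T.σ x.v1 * m1 - x.v1 * T.σ x.v2 * m3 -
      x.v1 * T.σ x.v1 * d1
  have k0 : x.v2 * x'.v1 - x.v1 * x'.v2 = 0 := T.σ_eq_zero.1 (T.eq_zero_of_skew fun w => by
    rw [T.inv, mul_comm]
    by_cases e : x.v2 = 0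
    · have e' : x.v1 ≠ 0 := fun e' => h1 (Prod.ext e' e)
      have := k 0 (-w / x.v1)
      rwa [show x.v2 * 0 - x.v1 * (-w / x.v1) = w by field_simp; ring] at this
    · have := k (w / x.v2) 0
      rwa [show x.v2 * (w / x.v2) - x.v1 * 0 = w by field_simp; ring] at this)
  by_cases e : x.v2 = 0
  · have e' : x.v1 ≠ 0 := fun e' => h1 (Prod.ext e' e)
    refine ⟨x'.v1 / x.v1, Prod.ext ?_ ?_⟩ <;>
      simp only [Prod.smul_fst, Prod.smul_snd, smul_eq_mul] <;> field_simp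
    linear_combination -k0
  · refine ⟨x'.v2 / x.v2, Prod.ext ?_ ?_⟩ <;>
      simp only [Prod.smul_fst, Prod.smul_snd, smul_eq_mul] <;> field_simp
    linear_combination k0

theorem ar1 [Finite K] {p : ℕ} [Fact p.Prime] [CharP K p] : AR1 T p := by
  refine ⟨chV, fun α => ?_, fun α h => ?_⟩
  · obtain ⟨φ, a, b, c, d, h1, h2⟩ := semi2 (ind α) (ind α⁻¹) (ind_add α) (ind_inv α) (ind_line α)
      (ind_line α⁻¹)
    refine ⟨φ, a, b, c, d, h1, fun x hx => ?_⟩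
    have := h2 (x.v1, x.v2)
    rwa [ind_eq α hx] at this
  · have hc : ∀ x ∈ R T, ∀ y ∈ R T, ext α ⁅x, y⁆ = ⁅x, y⁆ := fun x hx y hy => by
      rw [ext_map_comm α hx hy]
      refine cm_eq (ext_mem α hx) (ext_mem α hy) hx hy ?_ ?_ ?_ <;>
        simp only [(h x hx).1, (h x hx).2, (h y hy).1, (h y hy).2]
    have hV : ∀ v ∈ V T, ext α v = v := fun v hv => by
      obtain ⟨a, ha⟩ := T.exists_skew (c := v.a) (by simpa [hv.2.1] using v.ha)
      obtain ⟨d, hd⟩ := T.exists_skew (c := v.d) (by simpa [hv.2.2] using v.hd)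
      obtain ⟨h1, a1, m1⟩ := cm_RR (rv_mem (T := T) 1 0) (rv_mem a 0)
      obtain ⟨h2, a2, m2⟩ := cm_RR (rv_mem (T := T) 0 1) (rv_mem v.m 0)
      obtain ⟨h3, a3, m3⟩ := cm_RR (rv_mem (T := T) 0 1) (rv_mem 0 d)
      have e : v = ⁅rv T 1 0, rv T a 0⁆ * ⁅rv T 0 1, rv T v.m 0⁆ * ⁅rv T 0 1, rv T 0 d⁆ := by
        ext <;> simp [hv.1, hv.2.1, hv.2.2, h1.2.1, h2.2.1, h3.2.1, a1, a2, a3, m1, m2, m3, cm_d, ha, hd]
      rw [e, ext_map_mul α (mul_mem (chV.le h1) (chV.le h2)) (chV.le h3),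
        ext_map_mul α (chV.le h1) (chV.le h2), hc _ (rv_mem _ _) _ (rv_mem _ _),
        hc _ (rv_mem _ _) _ (rv_mem _ _), hc _ (rv_mem _ _) _ (rv_mem _ _)]
    refine ⟨hV, aut_eq_one fun x hx => ?_⟩
    have h0 : x.t = 0 := hx
    have h1 : (ext α x).t = 0 := ext_mem α hx
    have hz : x⁻¹ * ext α x ∈ V T := ⟨by simp [h0, h1], by simp [h0, (h x hx).1], by simp [(h x hx).2]⟩
    have : ∀ n : ℕ, ext (α ^ n) x = x * (x⁻¹ * ext α x) ^ n := fun n => by
      induction n with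
      | zero => simp [ext_one]
      | succ n ih =>
        rw [pow_succ', ext_mul, ih, ext_map_mul α hx (chV.le (pow_mem hz n)), hV _ (pow_mem hz n),
          pow_succ', ← mul_assoc, mul_inv_cancel_left]
    rw [this, pow_V_eq_one p hz, mul_one]

end Cfsg.Agent.H30.U5
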